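import Cfsg.Agent.Lib.J3Type.Enum

/-!
# Rotations, inverses and free cancellation of words
-/

set_option autoImplicit false

namespace Cfsg.Lib.MclType

open Cfsg.Lib.J3Type

/-- Equality of words. -/
def wordEq : List ℕ → List ℕ → Bool
  | [], [] => true
  | a :: l, b :: m => Nat.beq a b && wordEq l m
  | _, _ => false

theorem wordEq_eq : ∀ {l m : List ℕ}, wordEq l m = true → l = m
  | [], [], _ => rfl
  | [], _ :: _, h => by simp [wordEq] at h
  | _ :: _, [], h => by simp [wordEq] at h
  | a :: l, b :: m, h => by
    simp only [wordEq, Bool.and_eq_true] at h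
    rw [Nat.eq_of_beq_eq_true h.1, wordEq_eq h.2]

/-- The inverse word. -/
def invW (w : List ℕ) : List ℕ := (w.map invL).reverse

/-- A rotation of a word or of its inverse. -/
def rotW (f : List ℕ) (s inv : ℕ) : List ℕ :=
  let u := bif Nat.beq inv 0 then f else invW f
  u.drop s ++ u.take s

/-- Adding a letter, cancelling if possible. -/
def consRed (l : ℕ) : List ℕ → List ℕ
  | [] => [l]
  | h :: t => bif Nat.beq h (invL l) then t else l :: h :: t

/-- Free cancellation. -/
def redW (w : List ℕ) : List ℕ := w.foldr consRed []

/-- A check at two lists in parallel. -/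
def zipChk {A B : Type} (f : A → B → Bool) : List A → List B → Bool
  | [], [] => true
  | a :: l, b :: m => f a b && zipChk f l m
  | _, _ => false

theorem zipChk_spec {A B : Type} {f : A → B → Bool} : ∀ {l : List A} {m : List B}, zipChk f l m = true →
    ∀ a ∈ l, ∃ b, f a b = true
  | [], [], _, a, ha => by simp at ha
  | [], _ :: _, h, _, _ => by simp [zipChk] at h
  | _ :: _, [], h, _, _ => by simp [zipChk] at h
  | x :: l, y :: m, h, a, ha => by
    simp only [zipChk, Bool.and_eq_true] at h
    rcases List.mem_cons.1 ha with rfl | ha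
    · exact ⟨y, h.1⟩
    · exact zipChk_spec h.2 a ha

variable {G : Type*} [Group G] (g : ℕ → G)

theorem wval_invW : ∀ w : List ℕ, wval g (invW w) = (wval g w)⁻¹
  | [] => by simp [invW, wval]
  | l :: w => by
    have e : invW (l :: w) = invW w ++ [invL l] := by simp [invW]
    rw [e, wval_append, wval_invW w, wval_cons, wval_cons, wval_nil, mul_one, lval_invL, mul_inv_rev]

theorem wval_rotW {f : List ℕ} (h : wval g f = 1) (s inv : ℕ) : wval g (rotW f s inv) = 1 := by
  have key : ∀ u : List ℕ, wval g u = 1 → wval g (u.drop s ++ u.take s) = 1 := fun u hu => by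
    rw [wval_append]
    refine mul_eq_one_comm.1 ?_
    rw [← wval_append, List.take_append_drop, hu]
  unfold rotW
  cases Nat.beq inv 0
  · exact key _ (by rw [cond_false, wval_invW, h, inv_one])
  · exact key _ h

theorem wval_redW : ∀ w : List ℕ, wval g (redW w) = wval g w
  | [] => rfl
  | l :: w => by
    rw [wval_cons, ← wval_redW w, show redW (l :: w) = consRed l (redW w) from rfl]
    rcases redW w with - | ⟨h, t⟩
    · simp [consRed, wval]
    · simp only [consRed]
      cases hb : Nat.beq h (invL l)
      · rw [cond_false, wval_cons]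
      · rw [cond_true, wval_cons, Nat.eq_of_beq_eq_true hb, lval_invL, mul_inv_cancel_left]

end Cfsg.Lib.MclType
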