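import Cfsg.Agent.Lib.MclType.MainData

/-!
Kernel checks of the certificate `mclCert`.
-/

set_option autoImplicit false
set_option maxRecDepth 100000

namespace Cfsg.Lib.MclType

open Cfsg.Lib.J3Type

theorem mclCert_facts0 : factsOK mclCert 0 4000 = true := by decide +kernel

theorem mclCert_facts1 : factsOK mclCert 4000 4000 = true := by decide +kernel

theorem mclCert_facts2 : factsOK mclCert 8000 4000 = true := by decide +kernel

theorem mclCert_facts3 : factsOK mclCert 12000 4000 = true := by decide +kernel

theorem mclCert_facts4 : factsOK mclCert 16000 4000 = true := by decide +kernel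

theorem mclCert_facts5 : factsOK mclCert 20000 4000 = true := by decide +kernel

theorem mclCert_facts6 : factsOK mclCert 24000 4000 = true := by decide +kernel

theorem mclCert_facts7 : factsOK mclCert 28000 4000 = true := by decide +kernel

end Cfsg.Lib.MclType
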