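import Cfsg.Agent.Lib.MclType.MainData

/-!
Kernel checks of the certificate `mclCert`.
-/

set_option autoImplicit false
set_option maxRecDepth 100000

namespace Cfsg.Lib.MclType

open Cfsg.Lib.J3Type

theorem mclCert_facts8 : factsOK mclCert 32000 4000 = true := by decide +kernel

theorem mclCert_facts9 : factsOK mclCert 36000 4000 = true := by decide +kernel

theorem mclCert_facts10 : factsOK mclCert 40000 4000 = true := by decide +kernel

theorem mclCert_facts11 : factsOK mclCert 44000 4000 = true := by decide +kernel

theorem mclCert_facts12 : factsOK mclCert 48000 4000 = true := by decide +kernel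

theorem mclCert_facts13 : factsOK mclCert 52000 4000 = true := by decide +kernel

theorem mclCert_facts14 : factsOK mclCert 56000 4000 = true := by decide +kernel

theorem mclCert_facts15 : factsOK mclCert 60000 4000 = true := by decide +kernel

end Cfsg.Lib.MclType
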