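import Cfsg.Agent.Lib.MclType.MainData

/-!
Kernel checks of the certificate `mclCert`.
-/

set_option autoImplicit false
set_option maxRecDepth 100000

namespace Cfsg.Lib.MclType

open Cfsg.Lib.J3Type

theorem mclCert_facts16 : factsOK mclCert 64000 4000 = true := by decide +kernel

theorem mclCert_facts17 : factsOK mclCert 68000 4000 = true := by decide +kernel

theorem mclCert_facts18 : factsOK mclCert 72000 4000 = true := by decide +kernel

theorem mclCert_facts19 : factsOK mclCert 76000 4000 = true := by decide +kernel

theorem mclCert_facts20 : factsOK mclCert 80000 4000 = true := by decide +kernel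

theorem mclCert_facts21 : factsOK mclCert 84000 4000 = true := by decide +kernel

theorem mclCert_facts22 : factsOK mclCert 88000 4000 = true := by decide +kernel

theorem mclCert_facts23 : factsOK mclCert 92000 4000 = true := by decide +kernel

end Cfsg.Lib.MclType
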