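import Cfsg.Agent.Lib.MclType.MainData

/-!
Kernel checks of the certificate `mclCert`.
-/

set_option autoImplicit false
set_option maxRecDepth 100000

namespace Cfsg.Lib.MclType

open Cfsg.Lib.J3Type

theorem mclCert_facts24 : factsOK mclCert 96000 4000 = true := by decide +kernel

theorem mclCert_facts25 : factsOK mclCert 100000 4000 = true := by decide +kernel

theorem mclCert_facts26 : factsOK mclCert 104000 4000 = true := by decide +kernel

theorem mclCert_facts27 : factsOK mclCert 108000 4000 = true := by decide +kernel

theorem mclCert_facts28 : factsOK mclCert 112000 4000 = true := by decide +kernel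

theorem mclCert_facts29 : factsOK mclCert 116000 4000 = true := by decide +kernel

theorem mclCert_facts30 : factsOK mclCert 120000 4000 = true := by decide +kernel

theorem mclCert_facts31 : factsOK mclCert 124000 1526 = true := by decide +kernel

end Cfsg.Lib.MclType
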