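import Cfsg.Agent.Lib.MclType.MainData

/-!
Kernel checks of the certificate `mclCert`.
-/

set_option autoImplicit false
set_option maxRecDepth 100000

namespace Cfsg.Lib.MclType

open Cfsg.Lib.J3Type

theorem mclCert_rows0 : rowsOK mclCert 0 8000 = true := by decide +kernel

theorem mclCert_rows1 : rowsOK mclCert 8000 8000 = true := by decide +kernel

theorem mclCert_rows2 : rowsOK mclCert 16000 6275 = true := by decide +kernel

end Cfsg.Lib.MclType
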