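import Cfsg.Agent.Lib.MclType.MainData
import Cfsg.Agent.Lib.MclType.MainCheck0
import Cfsg.Agent.Lib.MclType.MainCheck1
import Cfsg.Agent.Lib.MclType.MainCheck2
import Cfsg.Agent.Lib.MclType.MainCheck3
import Cfsg.Agent.Lib.MclType.MainCheck4

/-!
Kernel checks of the certificate `mclCert`.
-/

set_option autoImplicit false
set_option maxRecDepth 100000

namespace Cfsg.Lib.MclType

open Cfsg.Lib.J3Type

theorem mclCert_fact_ok : ∀ i < mclCert.nFacts, factOK mclCert i = true := by
  intro i hi
  replace hi : i < 125526 := hi
  by_cases h0 : i < 4000
  · exact factOK_of_factsOK mclCert_facts0 (by omega) (by omega)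
  by_cases h1 : i < 8000
  · exact factOK_of_factsOK mclCert_facts1 (by omega) (by omega)
  by_cases h2 : i < 12000
  · exact factOK_of_factsOK mclCert_facts2 (by omega) (by omega)
  by_cases h3 : i < 16000
  · exact factOK_of_factsOK mclCert_facts3 (by omega) (by omega)
  by_cases h4 : i < 20000
  · exact factOK_of_factsOK mclCert_facts4 (by omega) (by omega)
  by_cases h5 : i < 24000
  · exact factOK_of_factsOK mclCert_facts5 (by omega) (by omega)
  by_cases h6 : i < 28000
  · exact factOK_of_factsOK mclCert_facts6 (by omega) (by omega)
  by_cases h7 : i < 32000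
  · exact factOK_of_factsOK mclCert_facts7 (by omega) (by omega)
  by_cases h8 : i < 36000
  · exact factOK_of_factsOK mclCert_facts8 (by omega) (by omega)
  by_cases h9 : i < 40000
  · exact factOK_of_factsOK mclCert_facts9 (by omega) (by omega)
  by_cases h10 : i < 44000
  · exact factOK_of_factsOK mclCert_facts10 (by omega) (by omega)
  by_cases h11 : i < 48000
  · exact factOK_of_factsOK mclCert_facts11 (by omega) (by omega)
  by_cases h12 : i < 52000
  · exact factOK_of_factsOK mclCert_facts12 (by omega) (by omega)
  by_cases h13 : i < 56000
  · exact factOK_of_factsOK mclCert_facts13 (by omega) (by omega)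
  by_cases h14 : i < 60000
  · exact factOK_of_factsOK mclCert_facts14 (by omega) (by omega)
  by_cases h15 : i < 64000
  · exact factOK_of_factsOK mclCert_facts15 (by omega) (by omega)
  by_cases h16 : i < 68000
  · exact factOK_of_factsOK mclCert_facts16 (by omega) (by omega)
  by_cases h17 : i < 72000
  · exact factOK_of_factsOK mclCert_facts17 (by omega) (by omega)
  by_cases h18 : i < 76000
  · exact factOK_of_factsOK mclCert_facts18 (by omega) (by omega)
  by_cases h19 : i < 80000
  · exact factOK_of_factsOK mclCert_facts19 (by omega) (by omega)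
  by_cases h20 : i < 84000
  · exact factOK_of_factsOK mclCert_facts20 (by omega) (by omega)
  by_cases h21 : i < 88000
  · exact factOK_of_factsOK mclCert_facts21 (by omega) (by omega)
  by_cases h22 : i < 92000
  · exact factOK_of_factsOK mclCert_facts22 (by omega) (by omega)
  by_cases h23 : i < 96000
  · exact factOK_of_factsOK mclCert_facts23 (by omega) (by omega)
  by_cases h24 : i < 100000
  · exact factOK_of_factsOK mclCert_facts24 (by omega) (by omega)
  by_cases h25 : i < 104000
  · exact factOK_of_factsOK mclCert_facts25 (by omega) (by omega)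
  by_cases h26 : i < 108000
  · exact factOK_of_factsOK mclCert_facts26 (by omega) (by omega)
  by_cases h27 : i < 112000
  · exact factOK_of_factsOK mclCert_facts27 (by omega) (by omega)
  by_cases h28 : i < 116000
  · exact factOK_of_factsOK mclCert_facts28 (by omega) (by omega)
  by_cases h29 : i < 120000
  · exact factOK_of_factsOK mclCert_facts29 (by omega) (by omega)
  by_cases h30 : i < 124000
  · exact factOK_of_factsOK mclCert_facts30 (by omega) (by omega)
  by_cases h31 : i < 125526
  · exact factOK_of_factsOK mclCert_facts31 (by omega) (by omega)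
  omega

theorem mclCert_row_ok : ∀ c < mclCert.nLive, rowOK mclCert c = true := by
  intro c hc
  replace hc : c < 22275 := hc
  by_cases h0 : c < 8000
  · exact rowOK_of_rowsOK mclCert_rows0 (by omega) (by omega)
  by_cases h1 : c < 16000
  · exact rowOK_of_rowsOK mclCert_rows1 (by omega) (by omega)
  by_cases h2 : c < 22275
  · exact rowOK_of_rowsOK mclCert_rows2 (by omega) (by omega)
  omega

theorem mclCert_live_zero : mclCert.live.get 15 0 = 0 := by decide +kernel

end Cfsg.Lib.MclType
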