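import Cfsg.Agent.Lib.J3Type.Enum
import Cfsg.Agent.Lib.MclType.MainPart0
import Cfsg.Agent.Lib.MclType.MainPart1
import Cfsg.Agent.Lib.MclType.MainPart2
import Cfsg.Agent.Lib.MclType.MainPart3
import Cfsg.Agent.Lib.MclType.MainPart4
import Cfsg.Agent.Lib.MclType.MainPart5
import Cfsg.Agent.Lib.MclType.MainPart6
import Cfsg.Agent.Lib.MclType.MainPart7
import Cfsg.Agent.Lib.MclType.MainPart8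
import Cfsg.Agent.Lib.MclType.MainPart9

/-!
The certificate `mclCert`.
-/

set_option autoImplicit false
set_option maxRecDepth 100000

namespace Cfsg.Lib.MclType

open Cfsg.Lib.J3Type

/-- A table. -/
def mclCertF : Tree :=
  (.node 62464 (.node 30720 (.node 15360 (.node 7168 (.node 3072 (.node 1024 mclCertF0 (.node 1024 mclCertF1 mclCertF2)) (.node 2048 (.node 1024 mclCertF3 mclCertF4) (.node 1024 mclCertF5 mclCertF6))) (.node 4096 (.node 2048 (.node 1024 mclCertF7 mclCertF8) (.node 1024 mclCertF9 mclCertF10)) (.node 2048 (.node 1024 mclCertF11 mclCertF12) (.node 1024 mclCertF13 mclCertF14)))) (.node 7168 (.node 3072 (.node 1024 mclCertF15 (.node 1024 mclCertF16 mclCertF17)) (.node 2048 (.node 1024 mclCertF18 mclCertF19)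 (.node 1024 mclCertF20 mclCertF21))) (.node 4096 (.node 2048 (.node 1024 mclCertF22 mclCertF23) (.node 1024 mclCertF24 mclCertF25)) (.node 2048 (.node 1024 mclCertF26 mclCertF27) (.node 1024 mclCertF28 mclCertF29))))) (.node 15360 (.node 7168 (.node 3072 (.node 1024 mclCertF30 (.node 1024 mclCertF31 mclCertF32)) (.node 2048 (.node 1024 mclCertF33 mclCertF34) (.node 1024 mclCertF35 mclCertF36))) (.node 4096 (.node 2048 (.node 1024 mclCertF37 mclCertF38) (.node 1024 mclCertF39 mclCertF40)) (.node 2048 (.node 1024 mclCertF41 mclCertF42) (.node 1024 mclCertF43 mclCertF44)))) (.node 8192 (.node 4096 (.node 2048 (.node 1024 mclCertF45 mclCertF46) (.node 1024 mclCertF47 mclCertF48)) (.node 2048 (.node 1024 mclCertF49 mclCertF50)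 (.node 1024 mclCertF51 mclCertF52))) (.node 4096 (.node 2048 (.node 1024 mclCertF53 mclCertF54) (.node 1024 mclCertF55 mclCertF56)) (.node 2048 (.node 1024 mclCertF57 mclCertF58) (.node 1024 mclCertF59 mclCertF60)))))) (.node 31744 (.node 15360 (.node 7168 (.node 3072 (.node 1024 mclCertF61 (.node 1024 mclCertF62 mclCertF63)) (.node 2048 (.node 1024 mclCertF64 mclCertF65) (.node 1024 mclCertF66 mclCertF67))) (.node 4096 (.node 2048 (.node 1024 mclCertF68 mclCertF69) (.node 1024 mclCertF70 mclCertF71)) (.node 2048 (.node 1024 mclCertF72 mclCertF73) (.node 1024 mclCertF74 mclCertF75)))) (.node 8192 (.node 4096 (.node 2048 (.node 1024 mclCertF76 mclCertF77) (.node 1024 mclCertF78 mclCertF79)) (.node 2048 (.node 1024 mclCertF80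 mclCertF81) (.node 1024 mclCertF82 mclCertF83))) (.node 4096 (.node 2048 (.node 1024 mclCertF84 mclCertF85) (.node 1024 mclCertF86 mclCertF87)) (.node 2048 (.node 1024 mclCertF88 mclCertF89) (.node 1024 mclCertF90 mclCertF91))))) (.node 15360 (.node 7168 (.node 3072 (.node 1024 mclCertF92 (.node 1024 mclCertF93 mclCertF94)) (.node 2048 (.node 1024 mclCertF95 mclCertF96) (.node 1024 mclCertF97 mclCertF98))) (.node 4096 (.node 2048 (.node 1024 mclCertF99 mclCertF100) (.node 1024 mclCertF101 mclCertF102)) (.node 2048 (.node 1024 mclCertF103 mclCertF104) (.node 1024 mclCertF105 mclCertF106)))) (.node 8192 (.node 4096 (.node 2048 (.node 1024 mclCertF107 mclCertF108) (.node 1024 mclCertF109 mclCertF110)) (.node 2048 (.node 1024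 mclCertF111 mclCertF112) (.node 1024 mclCertF113 mclCertF114))) (.node 4096 (.node 2048 (.node 1024 mclCertF115 mclCertF116) (.node 1024 mclCertF117 mclCertF118)) (.node 2048 (.node 1024 mclCertF119 mclCertF120) (.node 1024 mclCertF121 mclCertF122)))))))

/-- A table. -/
def mclCertJ : Tree :=
  (.node 62464 (.node 30720 (.node 15360 (.node 7168 (.node 3072 (.node 1024 mclCertJ0 (.node 1024 mclCertJ1 mclCertJ2)) (.node 2048 (.node 1024 mclCertJ3 mclCertJ4) (.node 1024 mclCertJ5 mclCertJ6))) (.node 4096 (.node 2048 (.node 1024 mclCertJ7 mclCertJ8) (.node 1024 mclCertJ9 mclCertJ10)) (.node 2048 (.node 1024 mclCertJ11 mclCertJ12) (.node 1024 mclCertJ13 mclCertJ14)))) (.node 7168 (.node 3072 (.node 1024 mclCertJ15 (.node 1024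 mclCertJ16 mclCertJ17)) (.node 2048 (.node 1024 mclCertJ18 mclCertJ19) (.node 1024 mclCertJ20 mclCertJ21))) (.node 4096 (.node 2048 (.node 1024 mclCertJ22 mclCertJ23) (.node 1024 mclCertJ24 mclCertJ25)) (.node 2048 (.node 1024 mclCertJ26 mclCertJ27) (.node 1024 mclCertJ28 mclCertJ29))))) (.node 15360 (.node 7168 (.node 3072 (.node 1024 mclCertJ30 (.node 1024 mclCertJ31 mclCertJ32)) (.node 2048 (.node 1024 mclCertJ33 mclCertJ34) (.node 1024 mclCertJ35 mclCertJ36))) (.node 4096 (.node 2048 (.node 1024 mclCertJ37 mclCertJ38) (.node 1024 mclCertJ39 mclCertJ40)) (.node 2048 (.node 1024 mclCertJ41 mclCertJ42) (.node 1024 mclCertJ43 mclCertJ44)))) (.node 8192 (.node 4096 (.node 2048 (.node 1024 mclCertJ45 mclCertJ46) (.node 1024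 mclCertJ47 mclCertJ48)) (.node 2048 (.node 1024 mclCertJ49 mclCertJ50) (.node 1024 mclCertJ51 mclCertJ52))) (.node 4096 (.node 2048 (.node 1024 mclCertJ53 mclCertJ54) (.node 1024 mclCertJ55 mclCertJ56)) (.node 2048 (.node 1024 mclCertJ57 mclCertJ58) (.node 1024 mclCertJ59 mclCertJ60)))))) (.node 31744 (.node 15360 (.node 7168 (.node 3072 (.node 1024 mclCertJ61 (.node 1024 mclCertJ62 mclCertJ63)) (.node 2048 (.node 1024 mclCertJ64 mclCertJ65) (.node 1024 mclCertJ66 mclCertJ67))) (.node 4096 (.node 2048 (.node 1024 mclCertJ68 mclCertJ69) (.node 1024 mclCertJ70 mclCertJ71)) (.node 2048 (.node 1024 mclCertJ72 mclCertJ73) (.node 1024 mclCertJ74 mclCertJ75)))) (.node 8192 (.node 4096 (.node 2048 (.node 1024 mclCertJ76 mclCertJ77)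 (.node 1024 mclCertJ78 mclCertJ79)) (.node 2048 (.node 1024 mclCertJ80 mclCertJ81) (.node 1024 mclCertJ82 mclCertJ83))) (.node 4096 (.node 2048 (.node 1024 mclCertJ84 mclCertJ85) (.node 1024 mclCertJ86 mclCertJ87)) (.node 2048 (.node 1024 mclCertJ88 mclCertJ89) (.node 1024 mclCertJ90 mclCertJ91))))) (.node 15360 (.node 7168 (.node 3072 (.node 1024 mclCertJ92 (.node 1024 mclCertJ93 mclCertJ94)) (.node 2048 (.node 1024 mclCertJ95 mclCertJ96) (.node 1024 mclCertJ97 mclCertJ98))) (.node 4096 (.node 2048 (.node 1024 mclCertJ99 mclCertJ100) (.node 1024 mclCertJ101 mclCertJ102)) (.node 2048 (.node 1024 mclCertJ103 mclCertJ104) (.node 1024 mclCertJ105 mclCertJ106)))) (.node 8192 (.node 4096 (.node 2048 (.node 1024 mclCertJ107 mclCertJ108)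 (.node 1024 mclCertJ109 mclCertJ110)) (.node 2048 (.node 1024 mclCertJ111 mclCertJ112) (.node 1024 mclCertJ113 mclCertJ114))) (.node 4096 (.node 2048 (.node 1024 mclCertJ115 mclCertJ116) (.node 1024 mclCertJ117 mclCertJ118)) (.node 2048 (.node 1024 mclCertJ119 mclCertJ120) (.node 1024 mclCertJ121 mclCertJ122)))))))

/-- A table. -/
def mclCertP : Tree :=
  (.node 11264 (.node 5120 (.node 2048 (.node 1024 mclCertP0 mclCertP1) (.node 1024 mclCertP2 (.node 1024 mclCertP3 mclCertP4))) (.node 3072 (.node 1024 mclCertP5 (.node 1024 mclCertP6 mclCertP7)) (.node 1024 mclCertP8 (.node 1024 mclCertP9 mclCertP10)))) (.node 6144 (.node 3072 (.node 1024 mclCertP11 (.node 1024 mclCertP12 mclCertP13)) (.node 1024 mclCertP14 (.node 1024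 mclCertP15 mclCertP16))) (.node 3072 (.node 1024 mclCertP17 (.node 1024 mclCertP18 mclCertP19)) (.node 1024 mclCertP20 (.node 1024 mclCertP21 mclCertP22)))))

/-- A table. -/
def mclCertL : Tree :=
  (.node 11264 (.node 5120 (.node 2048 (.node 1024 mclCertL0 mclCertL1) (.node 1024 mclCertL2 (.node 1024 mclCertL3 mclCertL4))) (.node 3072 (.node 1024 mclCertL5 (.node 1024 mclCertL6 mclCertL7)) (.node 1024 mclCertL8 (.node 1024 mclCertL9 mclCertL10)))) (.node 5120 (.node 2048 (.node 1024 mclCertL11 mclCertL12) (.node 1024 mclCertL13 (.node 1024 mclCertL14 mclCertL15))) (.node 3072 (.node 1024 mclCertL16 (.node 1024 mclCertL17 mclCertL18)) (.node 1024 mclCertL19 (.node 1024 mclCertL20 mclCertL21)))))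

/-- A table. -/
def mclCertFin : Tree :=
  (.node 33792 (.node 16384 (.node 8192 (.node 4096 (.node 2048 (.node 1024 mclCertFin0 mclCertFin1) (.node 1024 mclCertFin2 mclCertFin3)) (.node 2048 (.node 1024 mclCertFin4 mclCertFin5) (.node 1024 mclCertFin6 mclCertFin7))) (.node 4096 (.node 2048 (.node 1024 mclCertFin8 mclCertFin9) (.node 1024 mclCertFin10 mclCertFin11)) (.node 2048 (.node 1024 mclCertFin12 mclCertFin13) (.node 1024 mclCertFin14 mclCertFin15)))) (.node 8192 (.node 4096 (.node 2048 (.node 1024 mclCertFin16 mclCertFin17) (.node 1024 mclCertFin18 mclCertFin19)) (.node 2048 (.node 1024 mclCertFin20 mclCertFin21) (.node 1024 mclCertFin22 mclCertFin23))) (.node 4096 (.node 2048 (.node 1024 mclCertFin24 mclCertFin25)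 (.node 1024 mclCertFin26 mclCertFin27)) (.node 2048 (.node 1024 mclCertFin28 mclCertFin29) (.node 1024 mclCertFin30 (.node 1024 mclCertFin31 mclCertFin32)))))) (.node 16384 (.node 8192 (.node 4096 (.node 2048 (.node 1024 mclCertFin33 mclCertFin34) (.node 1024 mclCertFin35 mclCertFin36)) (.node 2048 (.node 1024 mclCertFin37 mclCertFin38) (.node 1024 mclCertFin39 mclCertFin40))) (.node 4096 (.node 2048 (.node 1024 mclCertFin41 mclCertFin42) (.node 1024 mclCertFin43 mclCertFin44)) (.node 2048 (.node 1024 mclCertFin45 mclCertFin46) (.node 1024 mclCertFin47 mclCertFin48)))) (.node 8192 (.node 4096 (.node 2048 (.node 1024 mclCertFin49 mclCertFin50) (.node 1024 mclCertFin51 mclCertFin52)) (.node 2048 (.node 1024 mclCertFin53 mclCertFin54)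 (.node 1024 mclCertFin55 mclCertFin56))) (.node 4096 (.node 2048 (.node 1024 mclCertFin57 mclCertFin58) (.node 1024 mclCertFin59 mclCertFin60)) (.node 2048 (.node 1024 mclCertFin61 mclCertFin62) (.node 1024 mclCertFin63 (.node 1024 mclCertFin64 mclCertFin65)))))))

/-- Some rules. -/
def mclCertR0 : List (List ℕ) :=
  [[11, 6, 5, 2, 5, 3, 4, 2, 10, 5],
   [2, 10, 5, 11, 5, 6, 10, 4, 10],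
   [3, 3, 3],
   [3, 10, 7, 2, 5, 11, 3, 3, 10],
   [6, 11, 2, 7, 4, 3, 5, 11, 7, 11],
   [5, 11, 3, 10, 5, 3, 6, 11, 2, 5],
   [7, 3, 10, 6, 4, 7, 3, 11, 6, 4],
   [7, 10, 6, 5, 5, 7, 11, 6, 4, 4],
   [6, 3, 5, 10, 7, 3, 6, 11, 6, 11],
   [6, 3, 5, 11, 7, 3, 6, 10, 6, 10],
   [6, 11, 2, 4, 11, 5, 6, 10, 3],
   [5, 11, 7, 3, 6, 10, 6, 10, 6, 3],
   [5, 3, 5, 2, 7, 11, 4, 11, 7, 3],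
   [5, 2, 10, 3, 5, 5, 2, 11, 3, 5],
   [5, 2, 10, 4, 10, 6, 5, 7, 5, 6],
   [6, 3, 6, 3, 6, 3],
   [10, 6, 10, 6, 3, 5, 11, 7, 3, 6],
   [7, 3, 4, 6, 4, 6, 3],
   [2, 7, 2, 7, 3, 3, 7],
   [7, 2, 5, 7, 3, 3, 5],
   [7, 4, 7, 4, 7, 4],
   [5, 11, 3, 4, 7, 4, 6, 4, 7, 11],
   [6, 4, 7, 3, 11, 6, 4, 7, 3, 10],
   [6, 10, 2, 11, 3, 11, 5, 5, 5, 3],
   [6, 4, 3, 6, 4, 2, 2],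
   [6, 4, 6, 3, 7, 3, 4],
   [4, 4, 6, 10, 4, 7, 2, 11, 7, 11],
   [8, 3, 4, 2, 7, 2, 0, 4],
   [5, 1, 3, 6, 3, 5, 2, 9],
   [4, 1, 5, 5, 6, 9],
   [11, 11],
   [9, 0, 6, 2, 6, 5, 9, 3],
   [7, 11, 6, 11, 2, 7, 4, 3, 5, 11],
   [7, 11, 6, 11, 2, 7, 4, 3, 5, 10],
   [1, 3, 6, 3, 5, 2, 9, 5],
   [8, 5, 10, 9, 5, 5, 8, 11, 5, 9, 5, 5],
   [5, 3, 4, 2, 11, 5, 11, 6, 5, 2],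
   [5, 6, 9, 4, 1, 5],
   [5, 5, 5, 3, 6, 10, 2, 11, 3, 11],
   [5, 5, 11, 5, 5, 5, 10, 4, 4, 10, 5, 11],
   [10, 2, 11, 3, 11, 5, 5, 5, 3, 6],
   [5, 7, 5, 2, 6, 2, 7],
   [5, 9, 10, 9, 5, 9, 5, 9, 4, 11, 8, 5],
   [5, 9, 10, 8, 5, 5, 9, 11, 5, 9, 5, 9],
   [5, 9, 4, 2, 4, 3, 8],
   [6, 9, 4, 1, 5, 5],
   [6, 9, 4, 1, 4, 4],
   [11, 9, 10, 8, 8, 8, 11, 5, 9, 5, 8],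
   [9, 9, 4, 9, 4, 9, 4, 8, 11, 5, 5, 11],
   [9, 11, 8, 8, 8, 11, 5, 9, 5, 8, 10],
   [0, 7, 3, 7, 8, 8, 8, 3],
   [2, 9, 4, 8, 7, 0, 4, 6],
   [0, 6, 6, 6, 3, 9, 3, 0],
   [0, 8, 7, 3, 7, 2, 8, 3],
   [0, 8, 3, 7, 8, 5, 5, 7],
   [11, 8, 10, 9, 4, 8, 4, 11, 9, 9, 9],
   [8, 4, 9, 11, 4, 11, 9, 4, 9, 9, 4],
   [1, 2, 4, 4, 9, 9, 9, 3],
   [5, 11, 9, 9, 4, 9, 4, 9, 4, 8, 11, 5],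
   [5, 8, 6, 0, 7, 3, 0, 7],
   [1, 1, 5, 5, 3, 0, 9, 7],
   [4, 0, 6, 8, 1, 2, 6, 9],
   [7, 4, 8, 6, 5, 3, 9, 1],
   [7, 1, 6, 0, 8, 7, 4, 8]]

/-- Some rules. -/
def mclCertR1 : List (List ℕ) :=
  [[7, 6],
   [8, 9],
   [7, 1, 6, 5, 7, 7, 8, 7],
   [3, 1, 3, 3, 0, 6, 6, 1],
   [7, 9, 9, 2, 5, 8, 8, 0],
   [6, 9, 9, 3, 3, 9, 0, 3],
   [6, 9, 6, 6, 4, 7, 0, 6],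
   [7, 7, 1, 3, 0, 3, 3, 0],
   [9, 0, 7, 1, 2, 1, 4, 1],
   [8, 5, 8, 4, 10, 5, 5, 11, 5, 5, 8, 5],
   [3, 3, 5, 7, 2, 5, 7],
   [4, 2, 4, 3, 8, 5, 9],
   [7, 1, 3, 5, 2, 8, 5, 3],
   [9, 5, 8, 5, 9, 5, 11, 4, 11, 8, 4],
   [6, 3, 1, 9, 3, 7, 0],
   [0, 3, 6, 9, 9, 3, 3, 9],
   [8, 8, 5, 3, 8, 3, 5, 0],
   [5, 5, 0, 5, 8, 7],
   [6, 4, 0, 5, 8, 5, 6, 5],
   [0, 7, 4, 0, 4, 0, 0, 9],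
   [9, 1, 9, 1, 9, 1],
   [9, 3, 6, 2, 6, 9, 1, 2],
   [7, 3, 0, 9, 7, 1, 5, 8],
   [8, 7, 8, 8, 1, 9, 7, 3],
   [3, 7, 8, 5, 5, 7, 0, 8],
   [7, 7, 8, 5, 3, 0, 8, 5],
   [5, 8, 8, 10, 5, 5, 11, 9, 5, 8, 5, 8],
   [5, 8, 11, 4, 8, 5, 8, 4, 8, 11, 9, 5],
   [4, 11, 4, 8, 8, 5, 8, 8, 5, 9, 11],
   [9, 9, 10, 8, 11, 9, 4, 8, 4, 11, 9],
   [9, 9, 9, 6, 2, 6, 1, 2],
   [6, 4, 9, 1, 2, 4, 9, 6],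
   [6, 1, 2, 9, 9, 9, 6, 2],
   [2, 0, 7, 1, 3, 1, 1, 1],
   [1, 2, 9, 9, 9, 6, 2, 6],
   [0, 3, 7, 9, 6, 2, 7],
   [5, 7, 5, 2, 8, 6, 2, 1],
   [4, 6, 2, 9, 4, 8, 7, 0],
   [7, 0, 7, 4, 8, 1, 7, 1],
   [8, 2, 1, 7, 9, 0, 8, 8],
   [8, 8, 8, 8, 8, 8, 8],
   [6, 1, 9, 9, 4, 3, 8, 8],
   [2, 1, 6, 0, 4, 6, 8, 1],
   [3, 6, 0, 3, 3, 0, 5, 9],
   [2, 1, 3, 4, 2, 1, 3, 4],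
   [0, 0, 2, 0, 6, 1, 3, 0],
   [0, 0, 6, 6, 6, 3, 9, 3],
   [0, 6, 2, 6, 5, 9, 3, 9],
   [9, 0, 4, 3, 7, 0, 8, 6],
   [2, 7, 1, 1, 1, 6, 1, 9],
   [5, 1, 7, 0, 5, 5, 0, 0],
   [5, 0, 0, 5, 1, 7, 0, 5],
   [1, 4, 8, 0, 6, 0, 5, 6],
   [6, 9, 9, 2, 9, 0, 3],
   [6, 2, 1, 8, 4, 8, 0, 6],
   [6, 1, 3, 1, 3, 3, 0, 6],
   [4, 0, 0, 5, 1, 7, 0, 4],
   [2, 5, 3, 5, 8, 4, 9],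
   [9, 0, 3, 7, 0, 5, 6, 1],
   [9, 1, 2, 4, 7, 7, 1, 6],
   [8, 4, 1, 3, 1, 7, 3, 3],
   [8, 4, 1, 3, 1, 7, 2],
   [1, 6, 2, 1, 8, 0, 7, 4],
   [4, 1, 5, 7, 4, 7, 4, 9]]

/-- Some rules. -/
def mclCertR2 : List (List ℕ) :=
  [[4, 5],
   [6, 7],
   [1, 6, 4, 4, 9, 6, 2, 9],
   [2, 7, 3, 9, 0, 4, 1, 9],
   [2, 3],
   [3, 2],
   [4, 7, 8, 4, 2, 1, 9, 6],
   [9, 4, 1, 5, 7, 4, 7, 4],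
   [1, 1, 9, 9, 9, 3, 9, 7],
   [7, 8, 8, 8, 3, 0, 7, 3],
   [6, 5, 10, 7, 11, 6, 11, 5, 5, 3],
   [3, 11, 4, 3, 6, 10, 3, 3, 11],
   [11, 3, 11, 4, 3, 6, 10, 2],
   [3, 11, 4, 3, 6, 10, 2, 10],
   [11, 3, 6, 6, 3, 7, 5, 2, 11, 4],
   [6, 1, 2, 6, 1, 7, 9, 4],
   [5, 6, 11, 4, 7, 2, 10, 7, 10, 5],
   [5, 6, 5, 2, 10, 4, 10, 6, 5, 7],
   [9, 3, 7, 0, 6, 3, 1],
   [9, 4, 0, 5, 1, 7, 0, 6],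
   [9, 4, 3, 8, 8, 6, 1, 9],
   [1, 6, 5, 7, 7, 8, 7, 7],
   [8, 1, 2, 1, 6, 0, 4, 6],
   [1, 6, 5, 1, 8, 2, 1, 1],
   [1, 5, 7, 4, 7, 4, 9, 4],
   [1, 7, 9, 4, 6, 1, 2, 6],
   [0, 3, 7, 9, 6, 3, 3, 7],
   [8, 5, 5, 7, 0, 8, 3, 7],
   [9, 2, 4, 0, 7, 8, 4, 0],
   [9, 3, 6, 0, 3, 3, 0, 5],
   [9, 0, 0, 6, 4, 2, 1, 4],
   [9, 6, 6, 4, 7, 0, 6, 6],
   [9, 2, 5, 8, 8, 0, 7, 9],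
   [1, 3, 1, 2, 0, 6, 6],
   [8, 7, 7, 7, 8, 4, 6, 1],
   [8, 5, 7, 7, 8, 5, 3, 0],
   [8, 3, 5, 0, 8, 8, 5, 3],
   [8, 7, 3, 7, 2, 8, 3, 0],
   [5, 1, 6, 9, 5, 8, 3, 7],
   [7, 2, 8, 4, 1, 2, 2, 1],
   [1, 1, 6, 1, 9, 2, 7, 1],
   [1, 1, 7, 9, 7, 1, 3, 8],
   [1, 9, 6, 4, 7, 8, 4, 2],
   [0, 3, 7, 1, 1, 6, 8],
   [5, 9, 6, 5, 7, 8, 0, 3],
   [2, 1, 5, 7, 5, 2, 8, 6],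
   [0, 4, 6, 2, 9, 4, 8, 7],
   [0, 1],
   [9, 8],
   [4, 9, 6, 6, 4, 9, 1, 2],
   [4, 1, 3, 1, 7, 3, 3, 8],
   [7, 5, 9, 6, 6, 6, 9, 0],
   [7, 9, 3, 4, 6, 4, 0, 3],
   [6, 2, 1, 8, 0, 7, 4, 1],
   [0, 4, 7, 0, 0, 0, 3, 9],
   [3, 3, 9, 0, 3, 6, 9, 9],
   [2, 0, 0, 9, 1, 7, 7, 8],
   [4, 8, 7, 1, 6, 0, 8, 7],
   [0, 9, 2, 4, 0, 7, 8, 4],
   [0, 8, 1, 9, 4, 7, 8, 0],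
   [0, 0, 6, 2, 1, 9, 7],
   [1, 1, 1, 1, 1, 1, 1],
   [1, 4, 1, 9, 0, 7, 1, 2],
   [1, 1, 6, 8, 0, 3, 7]]

/-- Some rules. -/
def mclCertR3 : List (List ℕ) :=
  [[1, 4, 2, 9, 2, 4, 9, 9],
   [1, 1, 5, 1, 5, 6, 1, 8],
   [4, 4, 1, 6, 0, 4, 1, 1],
   [4, 8, 3, 4, 2, 7, 2, 0],
   [4, 4, 4, 4],
   [4, 8, 6, 5, 3, 9, 1, 7],
   [4, 8, 8, 8, 4, 8, 11, 5, 11, 8, 8],
   [7, 0, 3, 0, 9, 7, 5, 1],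
   [6, 2, 7, 9, 7, 0, 0, 9],
   [0, 6, 8, 6, 0, 0, 9, 2],
   [3, 8, 8, 6, 1, 9, 9, 4],
   [8, 8, 6, 4, 0, 9, 1, 4],
   [8, 4, 2, 1, 9, 6, 4, 7],
   [8, 7, 2, 1, 8, 3, 8],
   [9, 0, 6, 2, 7, 1, 3, 7],
   [3, 3, 0, 7, 7, 1, 3, 0],
   [2, 0, 3, 5, 2, 0, 3, 5],
   [7, 1, 1, 9, 9, 9, 3, 9],
   [5, 8, 7, 5, 5, 0],
   [1, 9, 2, 7, 3, 9, 0, 4],
   [5, 1, 5, 6, 1, 8, 1, 1],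
   [5, 6, 1, 4, 8, 0, 6, 0],
   [5, 5, 5, 5],
   [5, 3, 9, 1, 7, 4, 8, 6],
   [3, 7, 0, 6, 3, 1, 9],
   [5, 2, 11, 4, 11, 3, 6, 6, 3, 7],
   [5, 0, 8, 1, 5, 7, 9, 9],
   [8, 8, 8, 2, 1, 7, 9, 0],
   [2, 5, 8, 8, 0, 7, 9, 9],
   [9, 9, 3, 3, 9, 0, 3, 6],
   [7, 4, 8, 1, 7, 1, 7, 0],
   [8, 7, 5, 5, 0, 5],
   [6, 0, 4, 6, 8, 1, 2, 1],
   [6, 6, 5, 3, 0, 8, 7, 0],
   [6, 1, 7, 9, 4, 6, 1, 2],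
   [6, 1, 9, 0, 3, 7, 0, 5],
   [6, 2, 9, 1, 6, 4, 4, 9],
   [4, 11, 5, 8, 4, 9, 5, 8, 5, 9, 11],
   [4, 11, 5, 8, 4, 9, 5, 8, 5, 9, 10],
   [2, 0, 6, 2, 4, 9, 3, 4],
   [4, 0, 3, 7, 9, 3, 4, 6],
   [7, 8, 2, 0, 0, 9, 1, 7],
   [9, 2, 7, 1, 1, 1, 6, 1],
   [9, 2, 0, 6, 8, 6, 0, 0],
   [9, 0, 3, 6, 9, 9, 3, 3],
   [9, 0, 3, 6, 9, 9, 2],
   [8, 3, 8, 8, 7, 2, 1],
   [8, 1, 1, 7, 9, 7, 1, 3],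
   [8, 7, 1, 6, 0, 4, 1, 5],
   [8, 8, 0, 0, 6, 8, 2, 8],
   [0, 6, 1, 8, 0, 5, 0, 3],
   [0, 6, 0, 9, 5, 6, 1, 6],
   [9, 5, 8, 5, 9, 11, 4, 11, 5, 8, 4],
   [5, 8, 5, 8, 5, 9, 11, 5, 5, 11, 8, 8],
   [1, 5, 8, 7, 1, 6, 0, 4],
   [1, 7, 0, 7, 4, 8, 1, 7],
   [1, 7, 7, 8, 2, 0, 0, 9],
   [0, 7, 1, 2, 1, 4, 1, 9],
   [1, 6, 1, 9, 2, 7, 1, 1],
   [1, 9, 3, 7, 0, 6, 3],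
   [1, 9, 3, 7, 0, 6, 2, 2],
   [1, 5, 6, 1, 8, 1, 1, 5],
   [1, 7, 1, 7, 0, 7, 4, 8],
   [7, 3, 7, 2, 8, 3, 0, 8]]

/-- Some rules. -/
def mclCertR4 : List (List ℕ) :=
  [[0, 5, 6, 1, 9, 0, 3, 7],
   [0, 4, 6, 8, 1, 2, 1, 6],
   [7, 3, 3, 8, 4, 1, 3, 1],
   [7, 7, 8, 7, 7, 1, 6, 5],
   [0, 2, 1, 3, 1, 2, 0, 3, 0, 0, 0, 3, 0],
   [1, 5, 9, 6, 1, 5, 3, 8],
   [8, 0, 9, 9, 6, 9, 2, 6],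
   [3, 9, 1, 7, 4, 8, 6, 5],
   [3, 8, 1, 5, 9, 6, 1, 5],
   [3, 8, 7, 8, 8, 1, 9, 7],
   [1, 8, 2, 6, 3, 8, 0, 5],
   [1, 8, 5, 5, 1, 8, 6, 4],
   [1, 2, 6, 1, 7, 9, 4, 6],
   [9, 1, 6, 4, 4, 9, 6, 2],
   [7, 5, 8, 6, 0, 7, 3, 0],
   [6, 5, 1, 8, 2, 1, 1, 1],
   [6, 3, 8, 0, 7, 0, 0, 0],
   [1, 3, 3, 0, 6, 6, 1, 3],
   [1, 2, 0, 6, 6, 1, 2, 2],
   [6, 8, 1, 2, 1, 6, 0, 4],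
   [6, 6, 6, 9, 0, 7, 5, 9],
   [0, 6, 9, 5, 6, 9, 1, 7],
   [0, 3, 7, 7, 1, 9, 5, 9],
   [5, 3, 5, 8, 4, 9, 2],
   [5, 6, 1, 6, 0, 6, 0, 9],
   [5, 0, 3, 5, 7, 1, 1, 8],
   [4, 1, 8, 5, 5, 1, 8, 6],
   [6, 3, 7, 8, 6, 2, 1],
   [6, 1, 8, 0, 5, 0, 3, 0],
   [6, 5, 6, 5, 6, 5],
   [6, 6, 4, 7, 0, 6, 6, 9],
   [6, 0, 3, 9, 9, 9, 1, 8],
   [4, 6, 4, 6, 3, 7, 3],
   [8, 6, 5, 3, 9, 1, 7, 4],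
   [8, 0, 3, 7, 1, 1, 6],
   [8, 8, 5, 5, 3, 0, 2, 8],
   [5, 9, 3, 6, 0, 2, 0],
   [7, 4, 1, 7, 1, 9, 5, 0],
   [7, 9, 6, 3, 3, 7, 0, 3],
   [7, 1, 6, 2, 8, 0, 2],
   [2, 1, 1, 2, 0, 0, 0, 11, 2, 0, 0, 2, 0, 3, 1, 2, 0, 0, 0, 3, 10, 0, 0, 3, 1],
   [9, 3, 4, 6, 4, 0, 3, 7],
   [2, 7, 2, 0, 4, 8, 3, 4],
   [9, 0, 4, 7, 0, 0, 0, 3],
   [9, 3, 4, 2, 0, 6, 2, 4],
   [9, 9, 5, 0, 8, 1, 5, 7],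
   [9, 4, 0, 6, 8, 1, 2, 6],
   [0, 5, 8, 5, 6, 5, 6, 4],
   [1, 2, 0, 3, 0, 0, 0, 3, 0, 0, 2, 1, 3],
   [1, 3, 1, 1, 1, 2, 0, 7],
   [1, 6, 0, 6, 0, 9, 5, 6],
   [1, 4, 8, 8, 6, 4, 0, 9],
   [0, 2, 0, 6, 1, 3, 0, 0],
   [0, 5, 9, 3, 6, 0, 3, 3],
   [0, 2, 0, 0, 0, 3, 1, 1, 3, 0, 3, 0, 0, 2],
   [0, 5, 5, 0, 0, 5, 1, 7],
   [0, 4, 1, 1, 4, 4, 1, 6],
   [8, 5, 0, 3, 5, 7, 1, 1],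
   [8, 8, 8, 5, 5, 3, 0, 2],
   [8, 0, 6, 0, 5, 6, 1, 4],
   [8, 2, 0, 0, 9, 1, 7, 7],
   [8, 5, 3, 8, 3, 5, 0, 8],
   [9, 1, 6, 2, 5, 1, 8, 7],
   [2, 0, 7, 7, 1, 3, 0]]

/-- Some rules. -/
def mclCertR5 : List (List ℕ) :=
  [[0, 0, 0, 0, 0, 0, 0],
   [0, 3, 3, 0, 7, 7, 1, 3],
   [8, 8, 8, 3, 0, 7, 3, 7],
   [11, 8, 4, 9, 4, 8, 5, 9, 4, 11, 5],
   [11, 8, 5, 8, 5, 8, 5, 10, 4, 4],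
   [5, 6, 1, 8, 1, 1, 5, 1],
   [5, 7, 1, 1, 8, 5, 0, 3],
   [3, 5, 0, 8, 8, 5, 3, 8],
   [5, 1, 6, 0, 4, 1, 1, 5],
   [4, 1, 9, 0, 7, 1, 2, 1],
   [4, 1, 6, 0, 4, 1, 1, 4],
   [4, 2, 1, 4, 9, 0, 0, 6],
   [9, 1, 7, 7, 8, 2, 0, 0],
   [9, 6, 1, 5, 3, 8, 1, 5],
   [9, 7, 1, 3, 8, 1, 1, 7],
   [8, 6, 0, 7, 3, 0, 7, 5],
   [8, 0, 7, 4, 1, 6, 2, 1],
   [8, 2, 7, 7, 7, 1, 1, 2],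
   [8, 6, 1, 9, 9, 4, 3, 8],
   [1, 9, 7, 0, 0, 6, 3, 3],
   [1, 6, 0, 4, 6, 8, 1, 2],
   [1, 8, 7, 9, 1, 6, 2, 5],
   [1, 6, 0, 4, 1, 1, 4, 4],
   [4, 9, 3, 4, 2, 0, 6, 2],
   [4, 9, 4, 1, 5, 7, 4, 7],
   [2, 8, 5, 3, 7, 1, 3, 5],
   [8, 0, 3, 5, 9, 6, 5, 7],
   [1, 1, 2, 0, 7, 1, 3, 1],
   [1, 8, 2, 1, 1, 1, 6, 5],
   [1, 9, 0, 7, 1, 2, 1, 4],
   [1, 9, 1, 9, 1, 9],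
   [5, 9, 6, 1, 5, 3, 8, 1],
   [5, 0, 0, 6, 8, 1, 2, 5],
   [5, 9, 3, 6, 2, 0, 6, 6],
   [5, 9, 5, 11, 4, 11, 8, 4, 9, 5, 8],
   [4, 2, 1, 3, 4, 2, 1, 3],
   [4, 4, 9, 9, 9, 3, 1, 2],
   [4, 9, 9, 9, 3, 1, 2, 4],
   [4, 4, 9, 6, 2, 9, 1, 6],
   [7, 9, 7, 1, 3, 8, 1, 1],
   [7, 3, 7, 8, 8, 8, 3, 0],
   [7, 9, 5, 6, 0, 8, 2, 4],
   [7, 9, 1, 6, 2, 5, 1, 8],
   [5, 10, 4, 8, 5, 8, 5, 8, 5, 5, 11, 5],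
   [5, 10, 5, 11, 4, 11, 5, 5, 5, 10],
   [4, 8, 5, 8, 5, 8, 4, 4, 11, 5, 5, 11],
   [1, 3, 1, 3, 1, 1, 2, 1, 2, 0, 0, 2, 1, 1],
   [1, 7, 0, 5, 5, 0, 0, 5],
   [0, 0, 0, 6, 3, 8, 0, 7],
   [8, 7, 0, 4, 6, 2, 9, 4],
   [7, 9, 6, 2, 7, 0, 3],
   [7, 4, 7, 4, 9, 4, 1, 5],
   [7, 0, 0, 0, 3, 9, 0, 4],
   [11, 3, 6, 5, 10, 7, 5, 5, 11, 6],
   [1, 9, 2, 7, 1, 1, 1, 6],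
   [1, 5, 7, 9, 9, 5, 0, 8],
   [0, 2, 0, 3, 1, 1, 2, 1, 1, 1, 2, 1, 3],
   [0, 6, 1, 3, 0, 0, 0, 2],
   [0, 8, 7, 4, 8, 7, 1, 6],
   [0, 3, 7, 0, 5, 6, 1, 9],
   [5, 8, 7, 1, 6, 0, 4, 1],
   [5, 2, 8, 5, 3, 7, 1, 3],
   [5, 6, 5, 6, 5, 6],
   [6, 8, 0, 3, 7, 1, 1]]

/-- Some rules. -/
def mclCertR6 : List (List ℕ) :=
  [[6, 3, 10, 7, 11, 6, 11, 4, 2, 5],
   [6, 2, 9, 4, 8, 7, 0, 4],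
   [6, 3, 9, 3, 0, 0, 6, 6],
   [6, 4, 7, 8, 4, 2, 1, 9],
   [6, 2, 0, 6, 3, 7, 1, 8],
   [0, 3, 3, 0, 5, 9, 3, 6],
   [5, 7, 9, 9, 5, 0, 8, 1],
   [5, 7, 3, 3, 5, 7, 2],
   [5, 0, 7, 4, 1, 7, 1, 9],
   [1, 7, 0, 6, 9, 5, 6, 9],
   [4, 0, 0, 9, 0, 7, 4, 0],
   [4, 8, 1, 7, 1, 7, 0, 7],
   [4, 9, 2, 5, 3, 5, 8],
   [6, 6, 0, 8, 1, 1, 3, 9],
   [2, 0, 3, 0, 0, 0, 3, 0, 0, 2, 1, 3, 1],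
   [2, 11, 5, 11, 6, 5, 2, 5, 3, 4],
   [2, 7, 1, 3, 7, 9, 0, 6],
   [6, 2, 7, 0, 3, 7, 9],
   [7, 5, 2, 8, 6, 2, 1, 5],
   [7, 8, 0, 0, 8, 1, 9, 4],
   [7, 1, 6, 0, 4, 1, 5, 8],
   [4, 11, 4, 8, 5, 9, 5, 8, 4, 9, 11],
   [4, 11, 4, 8, 5, 9, 5, 8, 4, 9, 10],
   [6, 8, 1, 2, 6, 9, 4, 0],
   [6, 3, 5, 2, 9, 5, 1, 3],
   [6, 8, 0, 9, 9, 6, 9, 2],
   [6, 6, 3, 9, 3, 0, 0, 6],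
   [6, 5, 8, 0, 9, 1, 1, 9],
   [3, 6, 3, 6, 3, 6],
   [1, 2, 0, 7, 1, 3, 1, 1],
   [1, 8, 1, 1, 5, 1, 5, 6],
   [0, 0, 9, 0, 7, 4, 0, 4],
   [0, 9, 5, 6, 1, 6, 0, 6],
   [0, 8, 0, 8, 0, 8],
   [7, 9, 0, 6, 2, 7, 1, 3],
   [7, 4, 6, 4, 7, 11, 5, 11, 3, 4],
   [7, 0, 0, 6, 3, 3, 1, 9],
   [7, 4, 8, 7, 1, 6, 0, 8],
   [6, 9, 4, 0, 5, 1, 7, 0],
   [6, 1, 3, 1, 2, 0, 6],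
   [6, 4, 1, 8, 4, 4, 1, 8],
   [0, 6, 6, 1, 3, 1, 2],
   [0, 8, 8, 5, 3, 8, 3, 5],
   [0, 0, 5, 1, 7, 0, 4, 4],
   [3, 4, 6, 4, 0, 3, 7, 9],
   [0, 6, 9, 4, 0, 5, 1, 7],
   [4, 8, 0, 6, 6, 2, 1, 8],
   [3, 8, 4, 1, 3, 1, 7, 3],
   [8, 7, 0, 6, 6, 5, 3, 0],
   [8, 0, 2, 7, 1, 6, 2],
   [8, 7, 4, 4, 0, 5],
   [8, 4, 0, 9, 2, 4, 0, 7],
   [8, 6, 3, 7, 8, 1, 1, 6],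
   [8, 8, 2, 1, 7, 9, 0, 8],
   [5, 10, 6, 10, 3, 6, 5, 11, 7, 5],
   [5, 11, 6, 2, 4, 7, 7, 7, 3, 11],
   [3, 10, 4, 4, 10, 2, 11, 5, 5, 11],
   [1, 1, 1, 2, 0, 7, 1, 3],
   [1, 2, 0, 0, 2, 1, 1, 1, 3, 1, 3, 1, 1, 2],
   [1, 6, 0, 4, 1, 1, 5, 5],
   [1, 1, 5, 5, 1, 6, 0, 4],
   [1, 6, 2, 8, 0, 2, 7],
   [11, 7, 11, 4, 10, 4, 3, 11, 5],
   [11, 3, 11, 5, 5, 10, 2, 10, 4, 4]]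

/-- Some rules. -/
def mclCertR7 : List (List ℕ) :=
  [[4, 4, 10, 4, 11, 5, 5, 11, 5, 10],
   [9, 9, 9, 3, 9, 7, 1, 1],
   [0, 6, 3, 1, 9, 3, 7],
   [1, 2, 1, 3, 0, 2, 0, 3, 1, 1, 2, 1, 1],
   [7, 1, 1, 5, 5, 3, 0, 9],
   [9, 7, 1, 1, 9, 9, 9, 3],
   [0, 0, 0, 3, 0, 0, 2, 1, 3, 1, 2, 0, 3],
   [9, 6, 5, 7, 8, 0, 3, 5],
   [9, 6, 6, 4, 9, 1, 2, 4],
   [9, 5, 8, 3, 7, 5, 1, 6],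
   [0, 3, 0, 0, 2, 1, 3, 1, 2, 0, 3, 0, 0],
   [0, 3, 0, 0, 0, 3, 0, 0, 2, 1, 3, 1, 2],
   [0, 0, 2, 1, 3, 1, 2, 0, 3, 0, 0, 0, 3],
   [0, 3, 0, 6, 1, 8, 0, 5],
   [2, 1, 7, 9, 0, 8, 8, 8],
   [6, 6, 1, 3, 1, 3, 3, 0],
   [1, 6, 2, 8, 0, 3, 3, 7],
   [2, 7, 11, 4, 11, 7, 3, 5, 3, 5],
   [5, 9, 0, 5, 7, 9, 0, 5],
   [6, 6, 6, 3, 9, 3, 0, 0],
   [6, 11, 5, 11, 6, 3, 4, 2, 4, 2],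
   [6, 1, 8, 1, 1, 5, 1, 5],
   [6, 0, 7, 3, 0, 7, 5, 8],
   [5, 8, 7, 3, 0, 9, 7, 1],
   [5, 5, 0, 0, 6, 8, 1, 2],
   [5, 1, 8, 2, 1, 1, 1, 6],
   [8, 1, 9, 4, 7, 8, 0, 0],
   [7, 9, 0, 5, 5, 9, 0, 5],
   [7, 7, 1, 6, 9, 1, 2, 4],
   [7, 1, 3, 0, 3, 3, 0, 7],
   [7, 1, 6, 1, 9, 3, 1, 9],
   [7, 0, 6, 6, 5, 3, 0, 8],
   [1, 8, 0, 5, 0, 3, 0, 6],
   [11, 6, 2, 4, 7, 7, 7, 3, 11, 5],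
   [11, 5, 5, 9, 4, 9, 4, 9, 5, 10, 4, 4],
   [1, 3, 1, 1, 2, 1, 2, 0, 0, 2, 1, 1, 1, 3],
   [1, 2, 1, 4, 1, 9, 0, 7],
   [11, 6, 5, 2, 5, 3, 4, 2, 11, 5],
   [4, 3, 8, 8, 6, 1, 9, 9],
   [8, 6, 2, 1, 6, 3, 7],
   [8, 1, 5, 9, 6, 1, 5, 3],
   [2, 8, 4, 1, 3, 1, 7],
   [3, 1, 1, 2, 1, 2, 0, 0, 2, 1, 1, 1, 3, 1],
   [4, 4, 3, 0, 9, 7, 1, 1],
   [4, 0, 7, 8, 4, 0, 9, 2],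
   [4, 7, 8, 0, 0, 8, 1, 9],
   [7, 1, 3, 1, 1, 1, 2, 0],
   [7, 1, 1, 6, 8, 0, 2, 2],
   [0, 7, 1, 3, 1, 1, 1, 2],
   [0, 7, 4, 1, 6, 2, 1, 8],
   [1, 3, 0, 2, 0, 3, 1, 1, 2, 1, 1, 1, 2],
   [1, 9, 5, 0, 7, 4, 1, 7],
   [9, 9, 3, 9, 7, 1, 1, 9],
   [11, 3, 4, 6, 2, 7, 7, 2, 11, 5],
   [4, 1, 7, 1, 9, 5, 0, 7],
   [4, 4, 1, 8, 6, 4, 1, 8],
   [9, 0, 7, 4, 0, 4, 0, 0],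
   [9, 6, 6, 0, 8, 1, 1, 3],
   [3, 9, 0, 4, 1, 9, 2, 7],
   [2, 9, 2, 4, 9, 9, 1, 4],
   [11, 4, 4, 6, 10, 4, 7, 2, 11, 7],
   [8, 7, 3, 0, 9, 7, 1, 5],
   [2, 6, 1, 7, 9, 4, 6, 1],
   [6, 4, 1, 8, 5, 5, 1, 8]]

/-- Some rules. -/
def mclCertR8 : List (List ℕ) :=
  [[5, 5, 1, 6, 0, 4, 1, 1],
   [5, 6, 5, 6, 4, 0, 5, 8],
   [5, 2, 0, 3, 5, 2, 0, 3],
   [9, 2, 5, 3, 5, 8, 4],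
   [0, 7, 9, 9, 2, 5, 8, 8],
   [5, 9, 6, 6, 6, 9, 0, 7],
   [5, 7, 7, 8, 7, 7, 1, 6],
   [11, 8, 8, 8, 10, 5, 9, 5, 8, 11, 9],
   [1, 5, 5, 6, 9, 4],
   [5, 8, 10, 9, 5, 9, 4, 9, 5, 11, 9, 5],
   [6, 2, 4, 7, 7, 7, 3, 11, 5, 11],
   [5, 6, 11, 4, 11, 2, 11, 5, 10],
   [5, 10, 5, 9, 4, 9, 4, 9, 5, 5, 11, 5],
   [5, 10, 7, 10, 4, 11, 4, 3, 11],
   [8, 5, 8, 5, 8, 5, 11, 5, 5, 11],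
   [11, 9, 4, 8, 4, 10, 9, 9, 9, 11, 8],
   [2, 1, 9, 3, 7, 0, 6, 2],
   [3, 0, 0, 2, 0, 2, 0, 0, 0, 3, 1, 1, 3, 0],
   [11, 7, 11, 4, 11, 4, 3, 10, 5],
   [4, 11, 7, 11, 5, 10, 4, 3, 11],
   [4, 10, 3, 10, 5, 11, 7, 4, 11],
   [11, 3, 10, 5, 2, 7, 4, 3, 11, 2],
   [11, 4, 7, 2, 10, 7, 10, 5, 5, 6],
   [6, 11, 4, 2, 5, 6, 3, 10, 7, 10],
   [7, 11, 7, 11, 7, 2, 6, 10, 4, 2],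
   [3, 4, 10, 6, 4, 3, 11, 5, 2, 11],
   [11, 7, 2, 4, 10, 2, 10, 5, 5, 3],
   [4, 2, 11, 5, 11, 6, 5, 2, 5, 3],
   [5, 10, 2, 10, 5, 5, 11, 3, 11, 5],
   [2, 10, 4, 4, 10, 3, 11, 5, 5, 11],
   [11, 7, 11, 7, 2, 6, 10, 4, 2, 7],
   [7, 4, 10, 5, 3, 11, 7, 2, 11],
   [7, 4, 11, 5, 3, 11, 7, 3, 3, 10],
   [11, 4, 3, 6, 10, 3, 3, 11, 3],
   [11, 7, 5, 5, 10, 6, 10, 3, 6, 5],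
   [9, 5, 5, 8, 5, 11, 9, 5, 5, 8, 10, 5],
   [4, 11, 6, 4, 2, 5, 3, 5, 2, 11],
   [11, 6, 4, 3, 10, 4, 2, 11, 3, 5],
   [5, 11, 3, 11, 5, 5, 10, 2, 10, 5],
   [9, 10, 8, 8, 8, 11, 5, 9, 5, 8, 11],
   [4, 8, 5, 8, 4, 8, 11, 9, 5, 5, 8, 11],
   [8, 8, 10, 5, 9, 5, 8, 11, 9, 11, 8],
   [9, 10, 8, 11, 9, 4, 8, 4, 11, 9, 9],
   [11, 3, 4, 10, 6, 4, 3, 11, 5, 2],
   [11, 3, 11, 5, 3, 6, 10, 2, 4, 4],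
   [4, 10, 7, 4, 11, 5, 11, 3, 11],
   [4, 4, 10, 5, 11, 5, 5, 11, 5, 5, 5, 10],
   [8, 11, 5, 5, 10, 9, 4, 10, 5, 5, 11, 5],
   [8, 5, 10, 9, 5, 5, 8, 11, 5, 9, 4, 4],
   [8, 4, 11, 5, 5, 10, 5, 9, 10, 5, 5, 11],
   [5, 8, 4, 8, 4, 8, 11, 8, 5, 5, 9, 11],
   [1, 4, 4, 6, 9, 4],
   [5, 8, 5, 10, 9, 5, 5, 8, 11, 5, 9, 5],
   [2, 8, 8, 8, 5, 5, 3, 0],
   [3, 4, 10, 2, 11, 3, 11, 2, 5, 6],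
   [4, 3, 11, 5, 11, 7, 11, 4, 10],
   [7, 3, 3, 10, 7, 4, 11, 5, 3, 11],
   [8, 10, 9, 4, 8, 4, 11, 9, 9, 9, 11],
   [8, 11, 9, 4, 8, 4, 11, 9, 9, 9, 10],
   [4, 10, 7, 10, 5, 11, 4, 3, 11],
   [4, 11, 7, 11, 5, 11, 4, 3, 10],
   [7, 10, 7, 11, 7, 2, 6, 11, 4, 2],
   [7, 11, 4, 11, 6, 6, 3, 5, 2, 4],
   [3, 10, 6, 4, 7, 3, 11, 6, 4, 7]]

/-- Some rules. -/
def mclCertR9 : List (List ℕ) :=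
  [[8, 4, 8, 11, 8, 5, 5, 9, 11, 5, 8, 4],
   [7, 2, 4, 11, 2, 11, 5, 5, 3, 10],
   [7, 2, 4, 10, 2, 10, 5, 5, 3, 11],
   [6, 10, 4, 2, 7, 11, 7, 11, 7, 2],
   [2, 7, 3, 3, 7, 2, 7],
   [3, 4, 7, 11, 4, 11, 3, 5, 2, 4],
   [10, 10],
   [4, 2, 10, 7, 10, 6, 11, 6, 4, 6],
   [2, 9, 5, 1, 3, 6, 3, 5],
   [4, 4, 2, 10, 3, 5, 5, 2, 11, 3],
   [11, 6, 11, 2, 7, 4, 3, 5, 11, 7],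
   [11, 2, 10, 3, 10, 5, 5, 5, 3, 6],
   [11, 7, 4, 11, 4, 10, 3, 10, 5],
   [4, 11, 7, 4, 10, 5, 11, 3, 11],
   [11, 5, 5, 10, 8, 4, 10, 5, 5, 11, 5, 9],
   [11, 5, 5, 10, 9, 9, 10, 5, 5, 11, 8, 8],
   [5, 5, 6, 9, 4, 1],
   [4, 10, 3, 11, 5, 5, 11, 2, 10, 4],
   [4, 3, 4, 7, 11, 4, 11, 3, 5, 2],
   [2, 4, 10, 2, 10, 5, 5, 3, 11, 7],
   [5, 5, 2, 10, 3, 5, 5, 2, 11, 3],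
   [8, 10, 9, 10, 9, 9, 9, 9, 11, 5, 9, 5],
   [8, 4, 10, 9, 9, 9, 11, 8, 11, 9, 4],
   [2, 9, 1, 6, 4, 4, 9, 6],
   [5, 10, 7, 11, 6, 11, 5, 5, 3, 6],
   [7, 4, 3, 10, 2, 11, 3, 11, 5, 2],
   [2, 2, 2],
   [11, 5, 11, 6, 2, 4, 2, 6, 6, 6],
   [3, 3, 7, 2, 7, 2, 7],
   [6, 11, 4, 7, 2, 10, 7, 10, 5, 5],
   [6, 11, 3, 6, 5, 10, 7, 5, 5, 11],
   [2, 10, 7, 4, 11, 5, 3, 11, 7],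
   [5, 11, 5, 5, 9, 4, 9, 4, 9, 5, 10, 5],
   [11, 3, 3, 4, 10, 5, 6, 11, 3, 6],
   [3, 5, 10, 7, 3, 6, 11, 6, 11, 6],
   [11, 2, 11, 3, 10, 7, 2, 5],
   [5, 5, 11, 2, 10, 4, 4, 10, 3, 11],
   [4, 11, 2, 11, 3, 10, 2, 5, 6, 3],
   [11, 2, 4, 4, 10, 3, 11, 5, 3, 6],
   [3, 4, 6, 4, 6, 3, 7],
   [3, 10, 2, 11, 3, 11, 5, 2, 7, 4],
   [7, 11, 4, 4, 6, 10, 4, 7, 2, 11],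
   [2, 11, 4, 11, 6, 4, 2, 5, 3, 5],
   [6, 11, 5, 11, 6, 2, 4, 2, 6, 6],
   [11, 4, 10, 6, 10, 5, 11, 2, 5],
   [11, 5, 9, 5, 8, 10, 9, 11, 8, 8, 8],
   [7, 10, 2, 6, 5, 7, 11, 2, 6, 5],
   [6, 11, 6, 3, 5, 10, 7, 3, 6, 11],
   [6, 10, 6, 3, 5, 11, 7, 3, 6, 10],
   [11, 2, 7, 4, 3, 5, 11, 7, 11, 6],
   [11, 6, 11, 6, 3, 5, 10, 7, 3, 6],
   [7, 10, 6, 5, 5, 7, 11, 6, 5, 5],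
   [2, 10, 3, 5, 5, 2, 11, 3, 4, 4],
   [11, 7, 3, 6, 10, 6, 10, 6, 3, 5],
   [4, 4, 11, 6, 11, 3, 6, 5, 10, 7],
   [1, 6, 9, 5, 8, 3, 7, 5],
   [5, 10, 9, 5, 5, 8, 11, 5, 9, 4, 4, 8],
   [6, 2, 7, 7, 2, 11, 5, 11, 3, 4],
   [6, 4, 3, 10, 4, 2, 11, 3, 5, 11],
   [5, 8, 7, 4, 4, 0],
   [11, 8, 5, 5, 9, 10, 5, 9, 5, 9, 5, 9],
   [11, 8, 11, 9, 4, 8, 4, 10, 8, 8, 8, 8],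
   [9, 4, 9, 9, 11, 5, 11, 5, 8, 4, 9],
   [8, 11, 5, 5, 10, 9, 9, 10, 5, 5, 11, 8]]

/-- Some rules. -/
def mclCertR10 : List (List ℕ) :=
  [[6, 5, 7, 10, 2, 6, 5, 7, 11, 2],
   [3, 10, 7, 2, 4, 11, 2, 11, 5, 5],
   [3, 10, 7, 2, 4, 11, 2, 11, 4, 4],
   [7, 11, 7, 2, 6, 10, 4, 2, 7, 11],
   [7, 11, 7, 2, 6, 11, 4, 2, 7, 10],
   [7, 8, 5, 5, 7, 0, 8, 3],
   [9, 10, 9, 5, 9, 5, 9, 4, 11, 8, 4, 4],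
   [8, 4, 9, 11, 5, 11, 5, 8, 5, 9, 4],
   [4, 2, 10, 3, 5, 5, 2, 11, 3, 4],
   [5, 7, 10, 6, 5, 5, 7, 11, 6, 5],
   [11, 7, 11, 4, 4, 6, 10, 4, 7, 2],
   [4, 6, 9, 4, 1, 4],
   [11, 5, 5, 10, 9, 4, 10, 5, 5, 11, 5, 8],
   [8, 10, 9, 10, 8, 8, 8, 11, 5, 9, 5],
   [6, 2, 2, 7, 8, 6, 2, 1],
   [3, 1, 9, 3, 7, 0, 6],
   [9, 9, 9, 9, 11, 5, 9, 5, 8, 10, 9, 10],
   [2, 11, 3, 11, 5, 2, 7, 4, 3, 10],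
   [2, 5, 11, 2, 11, 3, 10, 7],
   [2, 6, 11, 4, 2, 7, 10, 7, 10, 7],
   [5, 7, 10, 2, 6, 5, 7, 11, 2, 6],
   [9, 10, 9, 5, 9, 5, 9, 4, 11, 8, 5, 5],
   [8, 11, 9, 4, 8, 4, 10, 8, 8, 8, 8, 11],
   [4, 8, 4, 10, 9, 9, 9, 11, 8, 11, 9],
   [9, 4, 8, 7, 0, 4, 6, 2],
   [2, 4, 4, 9, 9, 9, 3, 1],
   [1, 2, 9, 3, 6, 2, 6, 9],
   [1, 0],
   [11, 4, 11, 5, 8, 4, 9, 5, 8, 5, 9],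
   [1, 3, 5, 2, 8, 5, 3, 7],
   [6, 5, 9, 3, 6, 2, 0, 6],
   [9, 10, 5, 5, 11, 4, 9, 5, 5, 5, 9, 4],
   [8, 3, 7, 8, 5, 5, 7, 0],
   [2, 4, 11, 2, 11, 5, 5, 3, 10, 7],
   [8, 5, 9, 10, 8, 5, 9, 11, 8, 5, 9, 10],
   [8, 4, 9, 11, 4, 11, 4, 8, 5, 9, 5],
   [1, 6, 2, 2, 7, 8, 6, 2],
   [2, 6, 10, 2, 4, 11, 5, 6, 11, 2],
   [3, 5, 11, 7, 11, 6, 11, 2, 7, 4],
   [1, 8, 7, 7, 7, 8, 4, 6],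
   [5, 4],
   [8, 8, 3, 0, 7, 3, 7, 8],
   [7, 5, 7, 5, 2, 6, 2],
   [7, 2, 10, 7, 10, 5, 5, 6, 11, 4],
   [7, 5, 6, 5, 2, 10, 4, 10, 6, 5],
   [0, 3, 3, 7, 1, 6, 2, 8],
   [0, 0, 6, 3, 8, 0, 7, 0],
   [9, 7, 0, 0, 6, 3, 3, 1],
   [7, 8, 4, 2, 1, 9, 6, 4],
   [6, 4, 3, 6, 4, 3],
   [3, 5, 2, 8, 5, 3, 7, 1],
   [1, 6, 3, 7, 8, 6, 2],
   [2, 7, 1, 6, 2, 8, 0],
   [9, 5, 6, 0, 8, 2, 4, 7],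
   [4, 1, 9, 2, 7, 3, 9, 0],
   [5, 7, 11, 5, 11, 3, 4, 2, 4, 3],
   [10, 7, 11, 7, 2, 6, 11, 4, 2, 7],
   [2, 8, 2, 7, 7, 7, 1, 1],
   [5, 10, 6, 10, 4, 11, 2, 5, 11],
   [5, 11, 6, 11, 4, 11, 3, 3, 5, 10],
   [4, 9, 10, 5, 5, 11, 4, 9, 5, 5, 5, 9],
   [9, 4, 8, 4, 10, 9, 9, 9, 11, 8, 11],
   [9, 4, 8, 4, 11, 9, 9, 9, 11, 8, 10],
   [4, 8, 4, 9, 11, 5, 11, 5, 8, 5, 9]]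

/-- Some rules. -/
def mclCertR11 : List (List ℕ) :=
  [[3, 5, 8, 4, 9, 2, 5],
   [6, 10, 2, 4, 11, 5, 6, 11, 3],
   [10, 2, 4, 11, 5, 6, 11, 2, 2, 6],
   [8, 10, 4, 4, 11, 5, 8, 5, 8, 4, 4, 4],
   [2, 5, 7, 3, 3, 5, 7],
   [7, 11, 4, 11, 7, 3, 5, 3, 5, 2],
   [4, 6, 3, 7, 3, 4, 6],
   [3, 6, 4, 3, 6, 4],
   [0, 2, 8, 8, 8, 5, 5, 3],
   [6, 2, 1, 5, 7, 5, 2, 8],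
   [7, 7, 7, 8, 4, 6, 1, 8],
   [9, 1, 2, 4, 9, 6, 6, 4],
   [5, 6, 11, 3, 6, 11, 3, 3, 4, 10],
   [5, 6, 10, 3, 6, 11, 2, 4, 11],
   [10, 3, 5, 11, 6, 4, 3, 11, 4, 2],
   [4, 3, 10, 2, 11, 3, 11, 5, 2, 7],
   [3, 10, 4, 7, 2, 7, 2, 11, 2, 11],
   [7, 2, 11, 7, 11, 4, 4, 6, 10, 4],
   [4, 8, 11, 8, 5, 5, 9, 11, 5, 8, 4, 8],
   [4, 0, 5, 8, 5, 6, 5, 6],
   [6, 3, 5, 2, 4, 7, 11, 4, 11, 6],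
   [10, 7, 11, 6, 11, 4, 2, 5, 6, 3],
   [2, 10, 4, 10, 6, 5, 7, 5, 6, 5],
   [7, 3, 3, 7, 2, 7, 2],
   [10, 4, 4, 10, 9, 4, 9, 4, 9, 4],
   [10, 11],
   [11, 10],
   [11, 4, 8, 5, 8, 5, 8, 4, 4, 10, 5, 5],
   [9, 4, 9, 9, 4, 8, 4, 9, 11, 4, 11],
   [9, 4, 9, 9, 4, 8, 4, 9, 11, 4, 10],
   [10, 6, 4, 3, 11, 5, 2, 11, 3, 4],
   [5, 2, 10, 3, 4, 4, 2, 11, 3, 5],
   [7, 11, 5, 11, 3, 4, 7, 4, 6, 4],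
   [7, 10, 5, 5, 6, 11, 4, 7, 2, 10],
   [5, 9, 11, 8, 5, 9, 11, 8, 5, 9, 10, 8],
   [8, 5, 9, 4, 2, 4, 3],
   [4, 8, 5, 9, 11, 5, 11, 4, 8, 4, 9],
   [2, 2, 6, 4, 3, 6, 4],
   [2, 2, 6, 3, 6, 3, 6],
   [9, 4, 6, 1, 2, 6, 1, 7],
   [7, 3, 5, 3, 7, 10, 4, 11, 7, 7],
   [10, 6, 4, 3, 11, 4, 2, 11, 3, 5],
   [8, 4, 10, 5, 5, 11, 5, 9, 11, 5, 5, 10],
   [5, 10, 6, 4, 3, 11, 4, 2, 11, 3],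
   [4, 10, 2, 11, 3, 11, 2, 5, 6, 3],
   [4, 10, 2, 10, 5, 5, 3, 11, 7, 2],
   [4, 10, 3, 11, 5, 3, 6, 11, 2, 4],
   [6, 10, 2, 11, 3, 11, 4, 2, 2],
   [2, 10, 3, 5, 5, 2, 11, 3, 5, 5],
   [9, 9, 2, 5, 8, 8, 0, 7],
   [0, 6, 2, 4, 9, 3, 4, 2],
   [5, 11, 7, 11, 4, 11, 4, 3, 10],
   [4, 10, 7, 11, 6, 11, 4, 7, 2, 4],
   [4, 11, 4, 11, 4, 4, 4, 10, 5, 10],
   [8, 5, 8, 11, 5, 11, 8, 5, 9, 5, 8],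
   [5, 10, 2, 11, 3, 11, 7, 2],
   [5, 11, 6, 3, 4, 2, 4, 2, 6, 11],
   [6, 6, 11, 5, 11, 6, 2, 4, 2, 6],
   [5, 11, 6, 3, 4, 2, 4, 2, 6, 10],
   [3, 5, 11, 7, 3, 6, 10, 6, 10, 6],
   [9, 5, 1, 3, 6, 3, 5, 2],
   [4, 4, 10, 7, 11, 6, 11, 4, 7, 2],
   [4, 2, 10, 3, 5, 11, 6, 4, 3, 11],
   [4, 2, 11, 3, 5, 11, 6, 4, 3, 10]]

/-- Some rules. -/
def mclCertR12 : List (List ℕ) :=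
  [[2, 6, 11, 5, 11, 6, 3, 4, 2, 4],
   [5, 9, 11, 4, 11, 4, 8, 8, 5, 8, 8],
   [5, 8, 4, 10, 5, 5, 11, 5, 5, 8, 5, 8],
   [4, 10, 9, 5, 5, 8, 11, 4, 9, 4, 4, 8],
   [6, 9, 5, 8, 3, 7, 5, 1],
   [11, 8, 4, 9, 5, 8, 5, 9, 5, 11, 4],
   [8, 8, 10, 5, 5, 11, 9, 5, 8, 5, 8, 5],
   [8, 5, 9, 4, 8, 4, 9, 5, 11, 5, 11],
   [8, 5, 9, 4, 8, 4, 9, 5, 11, 5, 10],
   [8, 10, 5, 5, 11, 9, 5, 8, 5, 8, 5, 8],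
   [11, 4, 8, 8, 5, 8, 8, 5, 9, 11, 4],
   [4, 8, 4, 9, 11, 4, 11, 9, 4, 9, 9],
   [6, 4, 2, 10, 7, 10, 6, 11, 6, 4],
   [4, 11, 6, 11, 3, 6, 5, 10, 7, 4],
   [2, 4, 9, 3, 4, 2, 0, 6],
   [1, 3, 9, 6, 6, 0, 8, 1],
   [7, 11, 5, 11, 3, 4, 2, 4, 3, 5],
   [3, 7, 2, 8, 4, 7, 7, 1],
   [3, 5, 2, 4, 7, 11, 4, 11, 6, 6],
   [1, 7, 2, 8, 4, 1, 3],
   [7, 10, 4, 2, 11, 3, 5, 11, 2, 5],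
   [7, 4, 9, 4, 1, 5, 7, 4],
   [2, 9, 3, 6, 2, 6, 9, 1],
   [7, 1, 6, 9, 1, 2, 4, 7],
   [10, 5, 6, 11, 3, 6, 11, 3, 3, 4],
   [4, 3, 6, 4, 3, 6],
   [7, 11, 4, 11, 2, 6, 6, 6, 5, 3],
   [2, 8, 4, 7, 3, 7, 1, 8],
   [1, 5, 5, 1, 6, 0, 4, 1],
   [6, 10, 4, 7, 2, 11, 7, 11, 4, 4],
   [5, 11, 7, 11, 6, 11, 2, 7, 4, 3],
   [7, 2, 11, 5, 11, 3, 4, 6, 2, 7],
   [3, 7, 5, 2, 11, 4, 11, 3, 6, 6],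
   [8, 0, 6, 6, 2, 1, 8, 4],
   [6, 6, 6, 6, 6, 6, 6],
   [6, 4, 4, 9, 6, 2, 9, 1],
   [0, 3, 5, 2, 0, 3, 5, 2],
   [3, 7, 1, 1, 6, 8, 0],
   [4, 7, 7, 7, 3, 11, 5, 11, 6, 2],
   [4, 3, 5, 11, 7, 11, 6, 11, 2, 7],
   [11, 4, 10, 3, 10, 5, 11, 7, 4],
   [5, 7, 2, 5, 7, 3, 3],
   [4, 2, 11, 3, 5, 5, 2, 10, 3, 4],
   [0, 6, 2, 1, 9, 7, 0],
   [0, 6, 8, 0, 2, 8, 0, 7],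
   [6, 9, 2, 6, 8, 0, 9, 9],
   [6, 0, 4, 1, 1, 5, 5, 1],
   [9, 7, 1, 1, 5, 5, 3, 0],
   [5, 3, 8, 1, 5, 9, 6, 1],
   [3, 4, 2, 7, 2, 0, 4, 8],
   [4, 9, 0, 0, 6, 4, 2, 1],
   [7, 2, 7, 2, 7, 3, 3],
   [7, 11, 4, 11, 3, 5, 2, 4, 3, 4],
   [7, 10, 4, 11, 7, 7, 7, 3, 5, 3],
   [6, 10, 3, 6, 5, 11, 7, 5, 5, 10],
   [4, 11, 5, 3, 11, 7, 3, 3, 10, 7],
   [9, 4, 10, 5, 5, 11, 5, 8, 11, 4, 4, 10],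
   [9, 4, 11, 5, 5, 10, 5, 8, 10, 4, 4, 11],
   [5, 8, 5, 9, 11, 4, 11, 5, 8, 4, 9],
   [5, 9, 5, 8, 10, 9, 11, 8, 8, 8, 11],
   [9, 10, 4, 4, 11, 4, 9, 4, 9, 5, 5, 5],
   [2, 4, 3, 4, 7, 11, 4, 11, 3, 5],
   [11, 4, 2, 7, 10, 7, 11, 7, 2, 6],
   [6, 5, 3, 7, 11, 4, 11, 2, 6, 6]]

/-- Some rules. -/
def mclCertR13 : List (List ℕ) :=
  [[6, 3, 7, 3, 4, 6, 4],
   [5, 7, 4, 7, 4, 9, 4, 1],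
   [5, 2, 6, 2, 7, 5, 7],
   [6, 5, 2, 5, 3, 4, 2, 11, 5, 11],
   [6, 5, 2, 5, 3, 4, 2, 10, 5, 10],
   [3, 1, 7, 3, 3, 8, 4, 1],
   [3, 5, 2, 7, 11, 4, 11, 7, 3, 5],
   [10, 2, 11, 3, 11, 4, 2, 2, 6],
   [6, 6, 5, 3, 7, 11, 4, 11, 2, 6],
   [6, 6, 4, 9, 1, 2, 4, 9],
   [0, 5, 9, 3, 6, 0, 2],
   [7, 9, 4, 6, 1, 2, 6, 1],
   [11, 4, 11, 7, 3, 5, 3, 5, 2, 7],
   [7, 2, 7, 3, 3, 7, 2],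
   [5, 3, 5, 2, 11, 4, 11, 6, 4, 2],
   [4, 10, 6, 10, 5, 11, 2, 5, 11],
   [4, 11, 6, 11, 5, 11, 3, 3, 5, 10],
   [11, 4, 8, 5, 8, 4, 8, 11, 9, 5, 5, 8],
   [3, 7, 9, 3, 4, 6, 4, 0],
   [3, 5, 3, 7, 10, 4, 11, 7, 7, 7],
   [11, 5, 10, 6, 10, 4, 11, 2, 5],
   [11, 5, 10, 3, 10, 4, 11, 7, 4],
   [4, 7, 4, 7, 4, 7],
   [2, 7, 5, 7, 5, 2, 6],
   [3, 7, 8, 8, 8, 3, 0, 7],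
   [2, 7, 7, 2, 11, 5, 11, 3, 4, 6],
   [0, 5, 8, 7, 4, 4],
   [2, 7, 7, 7, 1, 1, 2, 8],
   [5, 8, 5, 6, 5, 6, 4, 0],
   [3, 5, 2, 9, 5, 1, 3, 6],
   [6, 4, 7, 5, 6, 4, 2, 10, 5, 10],
   [2, 6, 5, 7, 11, 2, 6, 5, 7, 10],
   [10, 4, 8, 10, 5, 5, 11, 9, 5, 11, 5, 5],
   [3, 5, 2, 0, 3, 5, 2, 0],
   [9, 1, 4, 8, 8, 6, 4, 0],
   [9, 0, 8, 8, 8, 2, 1, 7],
   [7, 2, 0, 4, 8, 3, 4, 2],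
   [3, 4, 2, 4, 2, 6, 11, 5, 11, 6],
   [7, 4, 1, 6, 2, 1, 8, 0],
   [7, 1, 2, 1, 4, 1, 9, 0],
   [5, 3, 10, 7, 2, 11, 7, 4, 11],
   [5, 3, 11, 7, 2, 11, 7, 4, 10],
   [5, 11, 5, 5, 10, 8, 5, 8, 5, 8],
   [1, 5, 3, 8, 1, 5, 9, 6],
   [4, 8, 5, 10, 9, 5, 5, 8, 11, 5, 9, 4],
   [1, 9, 4, 7, 8, 0, 0, 8],
   [1, 9, 9, 4, 3, 8, 8, 6],
   [9, 2, 4, 9, 9, 1, 4, 2],
   [7, 7, 8, 2, 0, 0, 9, 1],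
   [7, 5, 1, 6, 9, 5, 8, 3],
   [3, 10, 4, 3, 6, 11, 3, 3, 10],
   [7, 3, 0, 7, 5, 8, 6, 0],
   [2, 1, 6, 3, 7, 8, 6],
   [6, 8, 6, 3, 7, 8, 1, 1],
   [2, 6, 8, 0, 9, 9, 6, 9],
   [4, 1, 6, 2, 1, 8, 0, 7],
   [5, 3, 7, 1, 3, 5, 2, 8],
   [7, 1, 7, 0, 7, 4, 8, 1],
   [0, 8, 2, 4, 7, 9, 5, 6],
   [1, 5, 7, 5, 2, 8, 6, 2],
   [7, 0, 0, 6, 2, 1, 9],
   [4, 9, 9, 1, 4, 2, 9, 2],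
   [9, 9, 9, 9, 9, 9, 9],
   [10, 7, 11, 6, 11, 5, 5, 3, 6, 5]]

/-- Some rules. -/
def mclCertR14 : List (List ℕ) :=
  [[5, 5, 11, 8, 5, 8, 5, 8, 5, 11],
   [5, 5, 11, 8, 5, 8, 5, 8, 5, 10],
   [4, 9, 5, 10, 9, 5, 5, 8, 11, 9, 5, 9],
   [4, 4, 10, 5, 9, 4, 9, 4, 9, 5, 5, 11],
   [4, 4, 11, 8, 5, 8, 5, 8, 5, 10],
   [2, 1, 8, 2, 2, 8, 8, 7],
   [6, 2, 4, 9, 3, 4, 2, 0],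
   [1, 1, 6, 5, 1, 8, 2, 1],
   [6, 0, 0, 9, 2, 0, 6, 8],
   [1, 6, 8, 6, 3, 7, 8, 1],
   [1, 8, 3, 8, 8, 7, 2],
   [4, 4, 0, 5, 8, 7],
   [4, 4, 6, 9, 4, 1],
   [8, 0, 5, 0, 3, 0, 6, 1],
   [2, 9, 9, 9, 6, 2, 6, 1],
   [11, 3, 10, 5, 3, 6, 11, 2, 5, 5],
   [9, 10, 9, 9, 9, 9, 11, 5, 9, 5, 8, 10],
   [8, 6, 0, 3, 9, 9, 9, 1],
   [6, 9, 0, 4, 3, 7, 0, 8],
   [8, 4, 8, 0, 6, 6, 2, 1],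
   [8, 11, 9, 5, 5, 8, 11, 4, 8, 5, 8, 4],
   [8, 4, 9, 4, 8, 5, 9, 4, 11, 5, 11],
   [8, 4, 9, 4, 8, 5, 9, 4, 11, 5, 10],
   [4, 4, 10, 8, 5, 8, 5, 8, 5, 11],
   [6, 11, 3, 6, 5, 10, 7, 4, 4, 11],
   [4, 3, 6, 4, 2, 2, 6],
   [7, 7, 3, 5, 3, 7, 10, 4, 11, 7],
   [0, 3, 9, 9, 9, 1, 8, 6],
   [2, 6, 2, 7, 5, 7, 5],
   [6, 3, 3, 7, 0, 3, 7, 9],
   [10, 6, 5, 5, 7, 11, 6, 5, 5, 7],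
   [2, 4, 7, 9, 5, 6, 0, 8],
   [7, 5, 5, 0, 5, 8],
   [0, 3, 7, 9, 3, 4, 6, 4],
   [8, 2, 4, 7, 9, 5, 6, 0],
   [0, 7, 3, 0, 7, 5, 8, 6],
   [6, 2, 6, 1, 2, 9, 9, 9],
   [8, 6, 0, 0, 9, 2, 0, 6],
   [4, 0, 9, 2, 4, 0, 7, 8],
   [3, 8, 8, 7, 2, 1, 8],
   [1, 6, 8, 0, 3, 7, 1],
   [7, 7, 1, 9, 5, 9, 0, 3],
   [4, 6, 4, 0, 3, 7, 9, 3],
   [2, 7, 0, 3, 7, 9, 6],
   [9, 9, 4, 3, 8, 8, 6, 1],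
   [8, 7, 9, 1, 6, 2, 5, 1],
   [7, 0, 3, 7, 9, 6, 2],
   [2, 11, 3, 10, 5, 2, 7, 4, 3, 11],
   [11, 5, 3, 10, 7, 2, 11, 7, 4],
   [7, 4, 6, 5, 7, 11, 4, 11, 3, 5],
   [7, 7, 3, 11, 5, 11, 6, 2, 4, 7],
   [10, 5, 5, 11, 3, 11, 5, 5, 10, 2],
   [10, 7, 2, 4, 11, 2, 11, 5, 5, 3],
   [11, 4, 11, 2, 11, 5, 10, 5, 6],
   [11, 6, 4, 7, 3, 10, 6, 4, 7, 3],
   [11, 6, 4, 3, 10, 5, 2, 11, 3, 4],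
   [9, 3, 9, 0, 6, 2, 6, 5],
   [10, 5, 5, 11, 4, 9, 11, 5, 5, 10, 8, 5],
   [11, 4, 9, 11, 5, 5, 10, 8, 5, 10, 4, 4],
   [9, 5, 9, 9, 11, 4, 11, 9, 5, 9, 9],
   [9, 4, 10, 5, 5, 11, 5, 8, 11, 5, 5, 10],
   [5, 2, 5, 3, 4, 2, 10, 5, 10, 6],
   [10, 4, 10, 2, 6, 6, 6, 5, 3, 7],
   [0, 9, 6, 2, 7, 9, 7, 0]]

/-- Some rules. -/
def mclCertR15 : List (List ℕ) :=
  [[1, 7, 0, 3, 0, 9, 7, 5],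
   [7, 7, 7, 7, 7, 7, 7],
   [7, 0, 6, 9, 5, 6, 9, 1],
   [1, 7, 4, 8, 6, 5, 3, 9],
   [3, 6, 2, 6, 9, 1, 2, 9],
   [6, 6, 9, 6, 6, 4, 7, 0],
   [6, 10, 6, 10, 6, 3, 5, 11, 7, 3],
   [4, 6, 5, 7, 11, 4, 11, 3, 5, 7],
   [6, 9, 1, 2, 4, 7, 7, 1],
   [6, 10, 2, 4, 11, 5, 6, 11, 2, 2],
   [3, 9, 9, 9, 1, 8, 6, 0],
   [5, 6, 1, 9, 0, 3, 7, 0],
   [8, 5, 8, 4, 8, 11, 9, 5, 5, 8, 10, 4],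
   [7, 3, 3, 5, 7, 2, 5],
   [11, 6, 11, 5, 5, 3, 6, 5, 10, 7],
   [5, 10, 7, 3, 6, 11, 6, 11, 6, 3],
   [2, 10, 7, 10, 6, 11, 6, 4, 6, 4],
   [4, 8, 7, 0, 4, 6, 2, 9],
   [4, 10, 5, 5, 11, 5, 9, 11, 4, 4, 10, 8],
   [5, 6, 3, 10, 7, 11, 6, 11, 4, 2],
   [2, 4, 3, 5, 7, 11, 5, 11, 3, 4],
   [5, 7, 4, 6, 5, 7, 11, 4, 11, 3],
   [4, 3, 11, 7, 2, 4, 11, 2, 10, 4],
   [1, 1, 6, 8, 6, 3, 7, 8],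
   [0, 9, 9, 6, 9, 2, 6, 8],
   [1, 1, 1, 6, 5, 1, 8, 2],
   [2, 6, 6, 6, 11, 5, 11, 6, 2, 4],
   [4, 2, 4, 2, 6, 11, 5, 11, 6, 3],
   [9, 0, 5, 5, 9, 0, 5, 7],
   [6, 10, 2, 5, 5, 11, 3, 11, 5, 3],
   [6, 10, 4, 11, 2, 11, 5, 11, 5],
   [6, 4, 3, 11, 4, 2, 11, 3, 5, 10],
   [3, 6, 3, 5, 2, 9, 5, 1],
   [10, 8, 11, 9, 4, 8, 4, 11, 9, 9, 9],
   [4, 10, 6, 5, 7, 5, 6, 5, 2, 10],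
   [6, 2, 1, 6, 3, 7, 8],
   [4, 7, 9, 5, 6, 0, 8, 2],
   [1, 9, 7, 3, 8, 7, 8, 8],
   [6, 5, 3, 9, 1, 7, 4, 8],
   [7, 1, 3, 7, 2, 8, 4, 7],
   [1, 2, 8, 2, 7, 7, 7, 1],
   [8, 7, 7, 1, 6, 5, 7, 7],
   [8, 6, 4, 0, 9, 1, 4, 8],
   [11, 2, 10, 2, 10, 2, 11, 2, 11, 2],
   [9, 4, 8, 4, 9, 11, 4, 11, 9, 4, 9],
   [9, 6, 4, 7, 8, 4, 2, 1],
   [0, 0, 6, 3, 3, 1, 9, 7],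
   [5, 5, 3, 0, 9, 7, 1, 1],
   [6, 2, 6, 5, 9, 3, 9, 0],
   [6, 9, 0, 7, 5, 9, 6, 6],
   [3, 5, 7, 1, 1, 8, 5, 0],
   [8, 1, 2, 5, 5, 0, 0, 6],
   [5, 2, 11, 3, 4, 11, 6, 4, 3, 10],
   [5, 2, 11, 3, 4, 10, 6, 4, 3, 11],
   [3, 7, 3, 4, 6, 4, 6],
   [7, 11, 6, 11, 3, 5, 7, 5, 7, 11],
   [7, 11, 6, 11, 3, 5, 7, 5, 7, 10],
   [4, 9, 4, 9, 11, 5, 5, 11, 5, 5, 5, 9],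
   [4, 6, 4, 2, 10, 7, 10, 6, 11, 6],
   [7, 2, 1, 8, 3, 8, 8],
   [7, 7, 8, 4, 6, 1, 8, 7],
   [9, 0, 7, 5, 9, 6, 6, 6],
   [3, 9, 0, 4, 7, 0, 0, 0],
   [11, 9, 5, 9, 5, 9, 4, 10, 8, 4, 4, 9]]

/-- Some rules. -/
def mclCertR16 : List (List ℕ) :=
  [[3, 7, 9, 6, 3, 3, 7, 0],
   [4, 11, 7, 3, 5, 3, 5, 2, 7, 11],
   [4, 11, 7, 3, 5, 3, 5, 2, 7, 10],
   [11, 5, 11, 6, 5, 3, 4, 2, 7, 7],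
   [0, 6, 0, 5, 6, 1, 4, 8],
   [7, 8, 7, 7, 1, 6, 5, 7],
   [7, 0, 0, 9, 6, 2, 7, 9],
   [2, 7, 9, 7, 0, 0, 9, 6],
   [1, 3, 0, 3, 3, 0, 7, 7],
   [8, 5, 5, 3, 0, 2, 8, 8],
   [1, 3, 0, 0, 0, 2, 0, 6],
   [6, 1, 3, 0, 0, 0, 2, 0],
   [2, 0, 6, 3, 7, 1, 8, 6],
   [11, 9, 5, 9, 4, 9, 5, 10, 9, 5, 5, 8],
   [7, 2, 8, 3, 0, 8, 7, 3],
   [7, 3, 11, 5, 11, 6, 2, 4, 7, 7],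
   [0, 9, 7, 5, 1, 7, 0, 3],
   [6, 4, 6, 4, 2, 10, 7, 10, 6, 10],
   [9, 6, 2, 7, 9, 7, 0, 0],
   [4, 4, 11, 5, 5, 11, 5, 9, 4, 9, 4, 9],
   [5, 0, 5, 8, 7, 5],
   [10, 9, 5, 5, 8, 11, 9, 5, 9, 4, 9, 5],
   [4, 11, 4, 10, 4, 10, 9, 4, 9, 4, 9, 11],
   [11, 5, 11, 5, 8, 4, 9, 9, 4, 9, 9],
   [8, 4, 9, 11, 8, 4, 9, 11, 8, 4, 9, 10],
   [9, 11, 5, 11, 5, 8, 4, 9, 9, 4, 9],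
   [3, 11, 3, 6, 3, 6, 5, 10, 2, 11],
   [3, 10, 3, 6, 3, 6, 5, 11, 2, 10],
   [5, 5, 10, 4, 4, 8, 5, 8, 5, 8, 4, 11],
   [4, 4, 10, 4, 9, 4, 9, 5, 5, 5, 9, 10],
   [4, 1, 8, 4, 4, 1, 8, 6],
   [4, 9, 6, 2, 9, 1, 6, 4],
   [3, 0, 7, 5, 8, 6, 0, 7],
   [4, 9, 0, 5, 7, 9, 0, 4],
   [2, 4, 2, 6, 11, 5, 11, 6, 3, 4],
   [3, 0, 8, 7, 3, 7, 2, 8],
   [4, 7, 11, 4, 11, 3, 5, 2, 4, 3],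
   [4, 7, 4, 9, 4, 1, 5, 7],
   [11, 4, 11, 3, 5, 2, 4, 3, 4, 7],
   [9, 1, 7, 4, 8, 6, 5, 3],
   [11, 9, 4, 9, 5, 5, 5, 9, 4, 10, 4, 4],
   [10, 2, 11, 3, 11, 2, 5, 6, 3, 4],
   [4, 11, 2, 11, 5, 11, 5, 6, 10],
   [5, 8, 4, 9, 9, 4, 9, 9, 11, 5, 11],
   [5, 8, 4, 9, 9, 4, 9, 9, 11, 5, 10],
   [9, 5, 6, 1, 6, 0, 6, 0],
   [5, 5, 11, 5, 9, 4, 9, 4, 9, 4, 4, 11],
   [5, 5, 11, 5, 9, 4, 9, 4, 9, 4, 4, 10],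
   [6, 6, 2, 1, 8, 4, 8, 0],
   [1, 9, 0, 3, 7, 0, 5, 6],
   [4, 11, 4, 4, 10, 5, 8, 10, 4, 4, 11, 9],
   [4, 10, 4, 4, 11, 5, 5, 8, 5, 8, 5, 8],
   [4, 10, 4, 4, 10, 5, 11, 5, 5, 11],
   [9, 5, 5, 8, 11, 4, 8, 5, 8, 4, 8, 11],
   [9, 6, 5, 8, 0, 9, 1, 1],
   [6, 0, 5, 6, 1, 4, 8, 0],
   [0, 6, 3, 3, 1, 9, 7, 0],
   [8, 8, 4, 8, 11, 5, 11, 8, 8, 4, 8],
   [7, 8, 5, 3, 0, 8, 5, 7],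
   [6, 2, 7, 5, 7, 5, 2],
   [2, 6, 10, 4, 2, 7, 11, 7, 11, 7],
   [5, 2, 9, 5, 1, 3, 6, 3],
   [6, 0, 8, 1, 1, 3, 9, 6],
   [8, 0, 7, 0, 0, 0, 6, 3]]

/-- Some rules. -/
def mclCertR17 : List (List ℕ) :=
  [[1, 2, 4, 9, 6, 6, 4, 9],
   [3, 7, 1, 8, 6, 2, 0, 6],
   [9, 1, 2, 9, 3, 6, 2, 6],
   [5, 6, 9, 1, 7, 0, 6, 9],
   [3, 6, 9, 9, 3, 3, 9, 0],
   [5, 11, 6, 5, 2, 5, 3, 4, 2, 11],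
   [5, 11, 6, 5, 2, 5, 3, 4, 2, 10],
   [6, 10, 3, 6, 11, 2, 4, 11, 5],
   [11, 3, 11, 5, 2, 7, 4, 3, 10, 2],
   [6, 5, 7, 7, 8, 7, 7, 1],
   [3, 3, 7, 0, 3, 7, 9, 6],
   [1, 7, 9, 7, 1, 3, 8, 1],
   [2, 2, 8, 8, 7, 2, 1, 8],
   [2, 4, 0, 7, 8, 4, 0, 9],
   [0, 8, 8, 8, 2, 1, 7, 9],
   [7, 5, 1, 7, 0, 3, 0, 9],
   [0, 4, 0, 0, 9, 0, 7, 4],
   [5, 7, 11, 7, 11, 6, 11, 3, 5, 7],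
   [4, 3, 8, 5, 9, 4, 2],
   [9, 7, 3, 8, 7, 8, 8, 1],
   [6, 3, 7, 8, 1, 1, 6, 8],
   [8, 4, 7, 3, 7, 1, 8, 2],
   [5, 1, 8, 2, 6, 3, 8, 0],
   [7, 2, 8, 4, 7, 7, 1, 3],
   [10, 2, 11, 3, 11, 7, 3, 3, 5],
   [9, 5, 9, 0, 3, 7, 7, 1],
   [8, 2, 8, 4, 7, 3, 7, 1],
   [9, 3, 3, 9, 0, 3, 6, 9],
   [6, 1, 6, 0, 6, 0, 9, 5],
   [7, 7, 1, 3, 0, 2, 0],
   [0, 0, 9, 1, 7, 7, 8, 2],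
   [3, 6, 10, 2, 4, 11, 5, 6, 11],
   [3, 6, 11, 2, 4, 11, 5, 6, 10],
   [4, 4, 10, 2, 10, 3, 11, 7, 2, 4],
   [4, 2, 4, 3, 5, 7, 10, 5, 10, 3],
   [7, 5, 2, 11, 4, 11, 3, 6, 6, 3],
   [9, 6, 2, 6, 1, 2, 9, 9],
   [9, 10, 8, 5, 5, 9, 11, 5, 9, 5, 9, 5],
   [3, 8, 3, 5, 0, 8, 8, 5],
   [3, 8, 5, 9, 4, 2, 4],
   [5, 8, 11, 5, 5, 10, 9, 4, 10, 5, 5, 11],
   [8, 5, 5, 9, 11, 5, 8, 4, 8, 4, 8, 11],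
   [4, 9, 11, 4, 11, 4, 8, 5, 9, 5, 8],
   [4, 4, 9, 4, 9, 4, 9, 5, 11, 5, 5, 10],
   [3, 1, 1, 1, 2, 0, 7, 1],
   [11, 4, 11, 8, 4, 9, 5, 8, 5, 9, 5],
   [5, 9, 4, 9, 5, 11, 9, 5, 5, 8, 10, 9],
   [11, 8, 5, 5, 9, 10, 9, 5, 9, 5, 9, 4],
   [7, 1, 3, 8, 1, 1, 7, 9],
   [0, 7, 4, 1, 7, 1, 9, 5],
   [7, 5, 2, 6, 2, 7, 5],
   [5, 3, 10, 7, 2, 4, 11, 2, 11, 5],
   [2, 6, 3, 6, 3, 6, 2],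
   [4, 2, 2, 6, 4, 3, 6],
   [4, 3, 7, 0, 8, 6, 9, 0],
   [11, 3, 11, 4, 3, 6, 10, 3, 3],
   [9, 7, 1, 5, 8, 7, 3, 0],
   [6, 5, 9, 3, 9, 0, 6, 2],
   [6, 0, 4, 1, 5, 8, 7, 1],
   [6, 4, 0, 9, 1, 4, 8, 8],
   [3, 3, 1, 9, 7, 0, 0, 6],
   [11, 2, 10, 4, 4, 3, 11, 7, 2, 4],
   [4, 0, 5, 1, 7, 0, 6, 9],
   [7, 0, 5, 6, 1, 9, 0, 3]]

/-- Some rules. -/
def mclCertR18 : List (List ℕ) :=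
  [[9, 1, 8, 6, 0, 3, 9, 9],
   [9, 3, 7, 0, 6, 2, 2, 1],
   [1, 3, 1, 3, 3, 0, 6, 6],
   [10, 9, 5, 5, 8, 11, 5, 9, 5, 5, 8, 5],
   [1, 8, 5, 0, 3, 5, 7, 1],
   [0, 6, 4, 2, 1, 4, 9, 0],
   [7, 5, 7, 11, 7, 11, 6, 11, 3, 5],
   [7, 3, 8, 7, 8, 8, 1, 9],
   [5, 5, 9, 0, 5, 7, 9, 0],
   [9, 4, 9, 11, 5, 5, 11, 5, 5, 5, 9, 4],
   [9, 9, 1, 8, 6, 0, 3, 9],
   [8, 1, 9, 7, 3, 8, 7, 8],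
   [2, 11, 2, 11, 3, 10, 4, 7, 2, 7],
   [4, 11, 6, 4, 2, 5, 3, 5, 2, 10],
   [0, 9, 7, 1, 1, 5, 5, 3],
   [2, 1, 2, 0, 0, 0, 11, 3, 1, 1, 3, 1, 1, 1, 3, 1, 2, 1, 1, 10, 3, 0, 0],
   [1, 3, 1, 7, 2, 8, 4],
   [3, 5, 7, 2, 5, 7, 3],
   [3, 11, 5, 11, 6, 2, 4, 7, 7, 7],
   [4, 0, 5, 8, 7, 4],
   [4, 1, 1, 5, 5, 1, 6, 0],
   [6, 4, 0, 3, 7, 9, 3, 4],
   [0, 5, 8, 7, 5, 5],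
   [4, 10, 5, 5, 11, 9, 4, 9, 5, 5, 5, 9],
   [4, 10, 4, 10, 5, 11, 5, 11],
   [8, 0, 7, 0, 6, 8, 0, 2],
   [0, 2, 0, 7, 7, 1, 2, 2],
   [6, 4, 7, 3, 10, 6, 4, 7, 3, 11],
   [4, 11, 7, 7, 7, 3, 5, 3, 7, 10],
   [4, 2, 11, 3, 5, 10, 2, 5, 7, 11],
   [1, 1, 2, 8, 2, 7, 7, 7],
   [3, 0, 7, 3, 7, 8, 8, 8],
   [3, 7, 7, 1, 9, 5, 9, 0],
   [3, 3, 8, 4, 1, 3, 1, 7],
   [3, 7, 9, 6, 2, 7, 0],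
   [5, 10, 2, 10, 4, 11, 5, 6, 11],
   [7, 1, 8, 2, 8, 4, 7, 3],
   [7, 0, 6, 3, 1, 9, 3],
   [11, 2, 11, 3, 10, 2, 5, 6, 3, 4],
   [7, 2, 5, 10, 2, 11, 3, 11],
   [7, 2, 5, 11, 2, 11, 3, 10],
   [5, 3, 0, 2, 8, 8, 8, 5],
   [4, 11, 2, 10, 3, 10, 2, 5, 6, 3],
   [8, 3, 0, 7, 3, 7, 8, 8],
   [4, 4, 4, 8, 5, 8, 10, 4, 4, 11, 5, 8],
   [11, 9, 4, 8, 4, 10, 8, 8, 8, 8, 11, 8],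
   [2, 1, 8, 3, 8, 8, 7],
   [3, 9, 6, 6, 0, 8, 1, 1],
   [1, 8, 2, 8, 4, 7, 3, 7],
   [5, 9, 3, 9, 0, 6, 2, 6],
   [3, 0, 9, 7, 5, 1, 7, 0],
   [0, 5, 1, 7, 0, 6, 9, 4],
   [9, 1, 7, 0, 6, 9, 5, 6],
   [2, 8, 6, 2, 1, 5, 7, 5],
   [7, 0, 5, 5, 0, 0, 5, 1],
   [7, 0, 0, 0, 6, 3, 8, 0],
   [1, 1, 9, 6, 5, 8, 0, 9],
   [5, 10, 4, 10, 4, 11, 5, 11],
   [5, 10, 6, 4, 7, 5, 6, 4, 2, 10],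
   [7, 10, 5, 2, 11, 3, 4, 11, 2, 5],
   [3, 7, 1, 3, 5, 2, 8, 5],
   [3, 1, 2, 4, 4, 9, 9, 9],
   [4, 4, 11, 4, 9, 4, 9, 5, 5, 5, 9, 10],
   [8, 4, 8, 4, 8, 4, 10, 8, 5, 5, 9, 11]]

/-- Some rules. -/
def mclCertR19 : List (List ℕ) :=
  [[9, 5, 9, 5, 9, 10, 8, 5, 5, 9, 11, 5],
   [11, 4, 11, 9, 5, 9, 9, 9, 5, 9, 9],
   [2, 4, 9, 6, 6, 4, 9, 1],
   [4, 2, 9, 2, 4, 9, 9, 1],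
   [9, 7, 1, 6, 1, 9, 3, 1],
   [1, 9, 7, 1, 6, 1, 9, 3],
   [8, 0, 5, 1, 8, 2, 6, 3],
   [0, 6, 8, 1, 2, 6, 9, 4],
   [7, 0, 4, 6, 2, 9, 4, 8],
   [7, 2, 4, 11, 2, 10, 4, 4, 3, 11],
   [7, 2, 4, 11, 2, 11, 4, 4, 3, 10],
   [9, 7, 5, 1, 7, 0, 3, 0],
   [7, 2, 6, 10, 4, 2, 7, 11, 7, 11],
   [7, 2, 6, 11, 4, 2, 7, 10, 7, 10],
   [2, 4, 4, 0, 0, 6, 8, 1],
   [1, 9, 6, 5, 8, 0, 9, 1],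
   [11, 3, 4, 10, 2, 5, 7, 11, 5, 2],
   [10, 2, 4, 4, 11, 3, 11, 5, 3, 6],
   [9, 6, 6, 6, 9, 0, 7, 5],
   [9, 4, 1, 5, 5, 6],
   [4, 7, 4, 6, 4, 7, 11, 5, 11, 3],
   [2, 8, 4, 7, 7, 1, 3, 7],
   [9, 4, 2, 4, 3, 8, 5],
   [0, 7, 8, 4, 0, 9, 2, 4],
   [4, 11, 6, 4, 3, 10, 5, 2, 11, 3],
   [7, 7, 1, 1, 2, 8, 2, 7],
   [3, 7, 1, 6, 2, 8, 0, 3],
   [6, 4, 7, 11, 5, 11, 3, 4, 7, 4],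
   [5, 11, 6, 4, 3, 11, 4, 2, 10, 3],
   [5, 2, 8, 6, 2, 1, 5, 7],
   [11, 4, 11, 6, 4, 2, 5, 3, 5, 2],
   [11, 4, 11, 2, 6, 6, 6, 5, 3, 7],
   [11, 5, 11, 6, 3, 4, 2, 4, 2, 6],
   [10, 4, 11, 7, 7, 7, 3, 5, 3, 7],
   [4, 3, 6, 10, 2, 11, 3, 11],
   [4, 3, 6, 11, 2, 11, 3, 10],
   [0, 0, 6, 4, 2, 1, 4, 9],
   [5, 3, 0, 8, 5, 7, 7, 8],
   [8, 8, 5, 8, 5, 8, 5, 9, 11, 5, 5, 11],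
   [4, 8, 4, 9, 5, 11, 5, 11, 8, 5, 9],
   [8, 8, 5, 8, 5, 8, 5, 9, 11, 5, 5, 10],
   [10, 2, 11, 3, 11, 4, 3, 6],
   [3, 10, 3, 11, 3, 11, 3, 11, 3, 10],
   [3, 10, 3, 10, 3, 11, 3, 11, 3, 11],
   [6, 5, 7, 11, 4, 11, 3, 5, 7, 4],
   [8, 1, 1, 6, 8, 6, 3, 7],
   [8, 6, 2, 0, 6, 3, 7, 1],
   [7, 1, 8, 6, 2, 0, 6, 3],
   [9, 7, 0, 0, 6, 2, 1],
   [2, 4, 9, 9, 1, 4, 2, 9],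
   [8, 0, 2, 8, 0, 7, 0, 6],
   [6, 0, 8, 7, 4, 8, 7, 1],
   [6, 3, 3, 1, 9, 7, 0, 0],
   [6, 1, 8, 7, 7, 7, 8, 4],
   [7, 1, 1, 2, 8, 2, 7, 7],
   [7, 1, 9, 5, 0, 7, 4, 1],
   [9, 6, 9, 2, 6, 8, 0, 9],
   [8, 1, 5, 7, 9, 9, 5, 0],
   [3, 0, 8, 5, 7, 7, 8, 5],
   [4, 6, 8, 1, 2, 1, 6, 0],
   [7, 8, 8, 1, 9, 7, 3, 8],
   [8, 1, 7, 1, 7, 0, 7, 4],
   [1, 3, 0, 3, 0, 0, 2, 0, 2, 0, 0, 0, 3, 1],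
   [4, 7, 3, 7, 1, 8, 2, 8]]

/-- Some rules. -/
def mclCertR20 : List (List ℕ) :=
  [[2, 1, 4, 9, 0, 0, 6, 4],
   [4, 2, 0, 6, 2, 4, 9, 3],
   [3, 0, 6, 1, 8, 0, 5, 0],
   [5, 0, 8, 8, 5, 3, 8, 3],
   [5, 6, 0, 8, 2, 4, 7, 9],
   [9, 2, 9, 0, 3, 6, 9],
   [4, 7, 7, 1, 6, 9, 1, 2],
   [6, 6, 1, 3, 1, 2, 0],
   [0, 8, 7, 0, 6, 6, 5, 3],
   [5, 7, 7, 8, 5, 3, 0, 8],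
   [5, 6, 10, 5, 11, 2, 11, 4, 11],
   [5, 6, 10, 5, 11, 2, 11, 4, 10],
   [4, 9, 1, 2, 4, 9, 6, 6],
   [11, 4, 10, 4, 3, 11, 5, 11, 7],
   [0, 3, 0, 9, 7, 5, 1, 7],
   [5, 3, 0, 8, 7, 0, 6, 6],
   [3, 3, 0, 5, 9, 3, 6, 0],
   [2, 1, 6, 2, 2, 7, 8, 6],
   [6, 6, 1, 2, 2, 1, 2, 0],
   [9, 3, 0, 0, 6, 6, 6, 3],
   [8, 8, 6, 1, 9, 9, 4, 3],
   [1, 3, 8, 1, 1, 7, 9, 7],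
   [5, 6, 4, 0, 5, 8, 5, 6],
   [4, 8, 0, 6, 0, 5, 6, 1],
   [8, 8, 7, 2, 1, 8, 3],
   [0, 8, 1, 5, 7, 9, 9, 5],
   [4, 0, 4, 0, 0, 9, 0, 7],
   [8, 0, 0, 6, 8, 2, 8, 8],
   [0, 7, 7, 1, 3, 0, 2],
   [8, 4, 9, 2, 5, 3, 5],
   [3, 7, 1, 8, 2, 8, 4, 7],
   [0, 0, 9, 6, 2, 7, 9, 7],
   [0, 7, 0, 0, 0, 6, 3, 8],
   [8, 4, 10, 9, 5, 5, 8, 11, 4, 9, 4, 4],
   [1, 6, 0, 4, 1, 5, 8, 7],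
   [7, 1, 1, 4, 4, 3, 0, 9],
   [6, 3, 6, 3, 6, 2, 2],
   [2, 1, 9, 6, 4, 7, 8, 4],
   [5, 9, 3, 6, 0, 3, 3, 0],
   [4, 6, 1, 2, 6, 1, 7, 9],
   [8, 6, 2, 1, 6, 2, 2, 7],
   [5, 8, 8, 0, 7, 9, 9, 2],
   [6, 1, 9, 2, 7, 1, 1, 1],
   [6, 3, 4, 10, 2, 11, 3, 11, 2, 5],
   [5, 5, 8, 5, 10, 9, 5, 5, 8, 11, 5, 9],
   [6, 1, 5, 3, 8, 1, 5, 9],
   [6, 5, 5, 7, 10, 6, 5, 5, 7, 11],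
   [6, 5, 5, 7, 11, 6, 5, 5, 7, 10],
   [11, 8, 5, 9, 5, 8, 8, 5, 8, 10, 5],
   [11, 2, 10, 4, 4, 10, 3, 11, 5, 5],
   [8, 5, 8, 5, 8, 5, 5, 11, 5, 5, 10, 4],
   [8, 5, 8, 5, 8, 5, 11, 5, 5, 10],
   [9, 0, 4, 1, 9, 2, 7, 3],
   [2, 6, 5, 7, 10, 2, 6, 5, 7, 11],
   [5, 5, 7, 11, 6, 5, 5, 7, 10, 6],
   [11, 7, 11, 5, 10, 4, 3, 11, 4],
   [11, 4, 7, 2, 10, 7, 10, 4, 4, 6],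
   [1, 2, 4, 7, 7, 1, 6, 9],
   [4, 9, 4, 8, 5, 9, 4, 11, 5, 11, 8],
   [9, 11, 4, 11, 5, 8, 4, 9, 5, 8, 5],
   [9, 9, 6, 2, 6, 1, 2, 9],
   [11, 6, 11, 4, 11, 3, 3, 5, 10, 5],
   [5, 11, 5, 11, 6, 11, 4, 10, 2],
   [0, 6, 6, 2, 1, 8, 4, 8]]

/-- Some rules. -/
def mclCertR21 : List (List ℕ) :=
  [[7, 8, 4, 0, 9, 2, 4, 0],
   [5, 9, 9, 9, 5, 9, 9, 11, 4, 11, 9],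
   [5, 8, 5, 9, 4, 8, 4, 9, 11, 5, 11],
   [5, 8, 5, 9, 4, 8, 4, 9, 11, 5, 10],
   [4, 10, 9, 5, 5, 8, 11, 4, 9, 5, 5, 8],
   [0, 6, 6, 5, 3, 0, 8, 7],
   [8, 5, 3, 0, 8, 5, 7, 7],
   [6, 4, 2, 5, 3, 5, 2, 11, 4, 11],
   [6, 4, 2, 5, 3, 5, 2, 10, 4, 10],
   [5, 2, 4, 3, 4, 7, 10, 4, 10, 3],
   [0, 6, 2, 7, 1, 3, 7, 9],
   [11, 5, 11, 6, 2, 4, 7, 7, 7, 3],
   [11, 3, 10, 4, 7, 2, 7, 2, 11, 2],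
   [11, 5, 5, 5, 10, 4, 4, 10, 5, 11, 5, 5],
   [11, 5, 11, 8, 5, 9, 5, 8, 8, 5, 8],
   [3, 6, 9, 9, 2, 9, 0],
   [9, 5, 10, 5, 5, 11, 5, 5, 9, 4, 9, 4],
   [3, 7, 0, 8, 6, 9, 0, 4],
   [6, 0, 2, 0, 5, 9, 2, 2],
   [0, 7, 5, 8, 6, 0, 7, 3],
   [4, 7, 2, 10, 7, 10, 5, 5, 6, 11],
   [4, 7, 2, 11, 7, 11, 4, 4, 6, 10],
   [0, 6, 6, 5, 9, 3, 6, 2],
   [7, 1, 1, 6, 8, 0, 3],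
   [4, 2, 11, 3, 5, 11, 2, 5, 7, 10],
   [5, 8, 5, 8, 4, 4, 11, 5, 5, 11, 4, 8],
   [11, 5, 11, 7, 4, 10, 4, 10, 3],
   [2, 11, 5, 10, 5, 6, 11, 4, 11],
   [3, 5, 2, 11, 4, 11, 6, 4, 2, 5],
   [3, 4, 2, 0, 6, 2, 4, 9],
   [3, 9, 3, 0, 0, 6, 6, 6],
   [0, 0, 6, 8, 1, 2, 5, 5],
   [0, 0, 6, 8, 1, 2, 4, 4],
   [0, 6, 6, 9, 6, 6, 4, 7],
   [1, 6, 9, 1, 2, 4, 7, 7],
   [10, 6, 4, 7, 3, 11, 6, 4, 7, 3],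
   [9, 5, 5, 5, 9, 4, 9, 4, 11, 5, 5, 11],
   [9, 4, 9, 5, 5, 5, 9, 4, 11, 5, 5, 10],
   [11, 4, 7, 2, 7, 2, 10, 2, 10, 3],
   [2, 11, 3, 10, 7, 2, 5, 11],
   [7, 11, 6, 11, 4, 2, 5, 6, 3, 10],
   [7, 7, 1, 6, 5, 7, 7, 8],
   [1, 5, 5, 3, 0, 9, 7, 1],
   [1, 9, 7, 0, 0, 6, 2],
   [9, 0, 3, 7, 7, 1, 9, 5],
   [10, 2, 5, 5, 11, 3, 11, 5, 3, 6],
   [4, 1, 5, 8, 7, 1, 6, 0],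
   [8, 2, 6, 3, 8, 0, 5, 1],
   [11, 7, 2, 5, 10, 2, 10, 2, 2],
   [11, 5, 10, 4, 3, 11, 4, 11, 7],
   [9, 6, 3, 3, 7, 0, 3, 7],
   [4, 3, 0, 9, 7, 1, 1, 4],
   [9, 4, 1, 4, 4, 6],
   [7, 0, 8, 6, 9, 0, 4, 3],
   [8, 6, 2, 1, 5, 7, 5, 2],
   [2, 0, 6, 6, 1, 2, 2, 1],
   [11, 5, 6, 10, 3, 6, 11, 2, 4],
   [11, 5, 10, 2, 5, 11, 4, 11, 6],
   [5, 2, 7, 10, 4, 10, 7, 3, 5, 3],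
   [7, 7, 7, 3, 11, 5, 11, 6, 2, 4],
   [0, 0, 11, 3, 1, 1, 3, 1, 1, 1, 3, 1, 2, 1, 1, 10, 3, 0, 0, 2, 1, 2, 0],
   [8, 11, 8, 5, 5, 9, 11, 5, 8, 4, 8, 4],
   [6, 6, 5, 9, 3, 6, 2, 0],
   [6, 1, 4, 8, 0, 6, 0, 5]]

/-- Some rules. -/
def mclCertR22 : List (List ℕ) :=
  [[6, 3, 7, 5, 2, 11, 4, 11, 3, 6],
   [11, 4, 2, 10, 3, 5, 11, 6, 4, 3],
   [11, 7, 4, 10, 5, 3, 11, 7, 2],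
   [11, 4, 2, 11, 3, 5, 10, 2, 5, 7],
   [0, 0, 3, 9, 0, 4, 7, 0],
   [6, 2, 5, 1, 8, 7, 9, 1],
   [1, 8, 6, 0, 3, 9, 9, 9],
   [7, 7, 1, 3, 7, 2, 8, 4],
   [8, 0, 8, 0, 8, 0],
   [0, 5, 6, 1, 4, 8, 0, 6],
   [0, 5, 1, 8, 2, 6, 3, 8],
   [1, 2, 1, 6, 0, 4, 6, 8],
   [6, 3, 8, 0, 5, 1, 8, 2],
   [5, 1, 7, 0, 3, 0, 9, 7],
   [0, 5, 5, 9, 0, 5, 7, 9],
   [7, 1, 3, 0, 2, 0, 7],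
   [10, 8, 4, 9, 11, 8, 4, 9, 11, 8, 4, 9],
   [3, 0, 0, 6, 6, 6, 3, 9],
   [6, 0, 8, 2, 4, 7, 9, 5],
   [9, 9, 9, 1, 8, 6, 0, 3],
   [11, 5, 5, 11, 9, 5, 5, 5, 9, 4, 9, 4],
   [11, 5, 9, 5, 5, 8, 5, 10, 9, 5, 5, 8],
   [6, 0, 3, 3, 0, 5, 9, 3],
   [9, 0, 5, 7, 9, 0, 5, 5],
   [9, 0, 5, 7, 9, 0, 4, 4],
   [5, 7, 9, 0, 5, 5, 9, 0],
   [9, 7, 0, 0, 9, 6, 2, 7],
   [6, 6, 9, 0, 7, 5, 9, 6],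
   [2, 0, 4, 8, 3, 4, 2, 7],
   [5, 1, 8, 7, 9, 1, 6, 2],
   [3, 7, 5, 1, 6, 9, 5, 8],
   [11, 3, 5, 7, 4, 6, 5, 7, 11, 4],
   [2, 5, 5, 0, 0, 6, 8, 1],
   [2, 11, 3, 11, 5, 5, 5, 3, 6, 10],
   [2, 10, 3, 10, 5, 5, 5, 3, 6, 11],
   [7, 3, 7, 1, 8, 2, 8, 4],
   [5, 5, 9, 10, 9, 5, 9, 5, 9, 4, 11, 8],
   [7, 9, 0, 4, 4, 9, 0, 5],
   [9, 4, 9, 10, 5, 5, 11, 4, 9, 5, 5, 5],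
   [10, 7, 2, 5, 11, 3, 3, 10, 3],
   [0, 0, 0, 2, 0, 6, 1, 3],
   [1, 4, 9, 0, 0, 6, 4, 2],
   [8, 5, 9, 10, 8, 5, 9, 11, 8, 5, 9, 11],
   [0, 6, 6, 1, 3, 1, 3, 3],
   [4, 4, 0, 0, 5, 1, 7, 0],
   [8, 1, 2, 4, 4, 0, 0, 6],
   [9, 5, 0, 8, 1, 5, 7, 9],
   [1, 7, 9, 0, 8, 8, 8, 2],
   [5, 8, 4, 10, 9, 5, 5, 8, 11, 4, 9, 5],
   [10, 4, 11, 6, 11, 5, 11, 3, 3, 5],
   [0, 7, 5, 9, 6, 6, 6, 9],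
   [9, 4, 11, 5, 5, 10, 5, 8, 10, 5, 5, 11],
   [1, 3, 1, 7, 3, 3, 8, 4],
   [1, 1, 8, 5, 0, 3, 5, 7],
   [3, 0, 0, 3, 0, 2, 1, 1, 11, 2, 1, 1, 1, 3, 0, 2, 1, 3, 1, 1, 3, 10, 1, 1, 1],
   [3, 0, 2, 8, 8, 8, 5, 5],
   [4, 3, 5, 7, 11, 5, 11, 3, 4, 2],
   [4, 2, 10, 3, 4, 4, 2, 11, 3, 4],
   [0, 5, 0, 3, 0, 6, 1, 8],
   [3, 5, 7, 11, 5, 11, 3, 4, 2, 4],
   [2, 11, 3, 11, 4, 7, 2, 7, 2, 10],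
   [2, 11, 3, 10, 4, 7, 2, 7, 2, 11],
   [0, 4, 1, 1, 5, 5, 1, 6],
   [7, 0, 6, 9, 4, 0, 5, 1]]

/-- Some rules. -/
def mclCertR23 : List (List ℕ) :=
  [[9, 2, 7, 3, 9, 0, 4, 1],
   [9, 2, 6, 8, 0, 9, 9, 6],
   [7, 0, 3, 7, 9, 6, 3, 3],
   [8, 5, 8, 5, 8, 5, 9, 11, 5, 5, 10, 8],
   [1, 2, 5, 5, 0, 0, 6, 8],
   [0, 0, 9, 2, 0, 6, 8, 6],
   [8, 7, 4, 8, 7, 1, 6, 0],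
   [8, 4, 10, 5, 5, 11, 5, 5, 8, 5, 8, 5],
   [10, 3, 10, 4, 11, 7, 4, 11, 5],
   [5, 6, 10, 4, 11, 2, 11, 5, 10],
   [1, 6, 2, 5, 1, 8, 7, 9],
   [9, 1, 4, 2, 9, 2, 4, 9],
   [6, 9, 1, 2, 9, 3, 6, 2],
   [11, 7, 11, 6, 11, 2, 7, 4, 3, 5],
   [5, 1, 8, 6, 4, 1, 8, 5],
   [3, 1, 9, 7, 0, 0, 6, 3],
   [6, 2, 4, 7, 7, 7, 3, 10, 5, 10],
   [11, 8, 4, 9, 5, 8, 5, 9, 5, 10, 4],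
   [4, 11, 4, 11, 3, 11, 5, 10, 7],
   [10, 5, 11, 6, 11, 4, 11, 3, 3, 5],
   [3, 10, 7, 11, 6, 11, 4, 2, 5, 6],
   [2, 10, 5, 10, 6, 4, 7, 5, 6, 4],
   [11, 2, 11, 3, 10, 5, 2, 7, 4, 3],
   [4, 3, 11, 5, 2, 11, 3, 4, 10, 6],
   [11, 2, 11, 3, 10, 4, 7, 2, 7, 2],
   [11, 2, 5, 7, 10, 4, 2, 11, 3, 5],
   [7, 0, 6, 8, 0, 2, 8, 0],
   [10, 7, 3, 6, 11, 6, 11, 6, 3, 5],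
   [4, 7, 3, 10, 6, 4, 7, 3, 11, 6],
   [4, 9, 11, 5, 5, 11, 5, 5, 5, 9, 4, 9],
   [4, 6, 4, 7, 11, 5, 11, 3, 4, 7],
   [7, 1, 1, 8, 5, 0, 3, 5],
   [5, 8, 4, 9, 4, 11, 4, 11, 8, 5, 9],
   [9, 4, 7, 8, 0, 0, 8, 1],
   [5, 10, 2, 11, 3, 11, 7, 3, 3],
   [5, 9, 4, 9, 4, 9, 4, 4, 11, 5, 5, 11],
   [4, 11, 5, 6, 10, 5, 11, 2, 11],
   [4, 11, 5, 6, 11, 5, 10, 2, 10],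
   [8, 4, 11, 8, 5, 5, 9, 10, 8, 4, 8, 4],
   [2, 0, 5, 9, 3, 6, 0],
   [8, 8, 8, 11, 5, 9, 5, 8, 11, 9, 10],
   [8, 8, 8, 10, 5, 9, 5, 8, 11, 9, 11],
   [8, 5, 8, 5, 8, 5, 9, 10, 4, 4, 11, 8],
   [8, 8, 1, 9, 7, 3, 8, 7],
   [5, 8, 11, 4, 11, 5, 10, 4, 10, 8, 5, 8],
   [7, 7, 7, 1, 1, 2, 8, 2],
   [2, 7, 2, 7, 2, 7],
   [6, 4, 2, 1, 4, 9, 0, 0],
   [9, 9, 5, 9, 9, 11, 4, 11, 9, 5, 9],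
   [11, 5, 5, 10, 9, 5, 8, 5, 8, 5, 8, 8],
   [2, 2, 6, 0, 2, 0, 5, 9],
   [4, 4, 4, 8, 10, 4, 4, 11, 5, 8, 5, 8],
   [11, 5, 11, 3, 4, 6, 2, 7, 7, 2],
   [1, 9, 3, 1, 9, 7, 1, 6],
   [5, 8, 0, 9, 1, 1, 9, 6],
   [10, 4, 4, 10, 5, 11, 5, 5, 11, 5, 5, 5],
   [5, 8, 5, 8, 4, 11, 5, 5, 10, 4, 4, 8],
   [5, 0, 3, 0, 6, 1, 8, 0],
   [5, 8, 10, 9, 10, 9, 9, 9, 9, 11, 5, 9],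
   [1, 3, 4, 2, 1, 3, 4, 2],
   [6, 10, 2, 4, 4, 11, 3, 11, 5, 3],
   [7, 9, 0, 8, 8, 8, 2, 1],
   [1, 6, 1, 9, 3, 1, 9, 7],
   [8, 5, 5, 1, 8, 6, 4, 1]]

/-- Some rules. -/
def mclCertR24 : List (List ℕ) :=
  [[11, 5, 8, 5, 8, 5, 8, 11, 5, 5],
   [1, 8, 6, 2, 0, 6, 3, 7],
   [11, 6, 6, 3, 5, 2, 4, 7, 11, 4],
   [0, 8, 5, 7, 7, 8, 5, 3],
   [6, 9, 4, 0, 6, 8, 1, 2],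
   [6, 10, 5, 11, 2, 5, 11, 4, 10],
   [0, 9, 0, 7, 4, 0, 4, 0],
   [5, 5, 2, 11, 3, 5, 5, 2, 10, 3],
   [2, 11, 7, 2, 5, 10, 2, 10, 2],
   [3, 0, 3, 3, 0, 7, 7, 1],
   [9, 4, 4, 8, 11, 9, 5, 9, 4, 9, 5, 10],
   [9, 4, 4, 8, 10, 9, 5, 9, 4, 9, 5, 11],
   [4, 7, 11, 4, 11, 6, 6, 3, 5, 2],
   [9, 1, 1, 9, 6, 5, 8, 0],
   [11, 5, 5, 10, 4, 8, 5, 8, 5, 8, 5, 5],
   [4, 8, 4, 8, 4, 11, 8, 5, 5, 9, 10, 8],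
   [2, 6, 9, 1, 2, 9, 3, 6],
   [0, 0, 6, 8, 2, 8, 8, 8],
   [0, 7, 4, 8, 1, 7, 1, 7],
   [5, 11, 4, 11, 8, 4, 9, 5, 8, 5, 9],
   [5, 10, 9, 5, 5, 8, 11, 5, 9, 5, 5, 8],
   [3, 3, 7, 1, 6, 2, 8, 0],
   [9, 11, 4, 11, 9, 5, 9, 9, 9, 5, 9],
   [9, 5, 9, 4, 9, 5, 10, 9, 5, 5, 8, 11],
   [5, 10, 2, 5, 7, 11, 4, 2, 11, 3],
   [6, 5, 7, 11, 2, 6, 5, 7, 10, 2],
   [3, 10, 7, 2, 5, 11, 2, 11],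
   [3, 10, 7, 2, 5, 11, 2, 10],
   [5, 3, 7, 11, 4, 11, 2, 6, 6, 6],
   [11, 3, 5, 5, 2, 10, 3, 5, 5, 2],
   [5, 10, 4, 4, 10, 4, 11, 5, 5, 11],
   [2, 4, 3, 5, 7, 10, 5, 10, 3, 4],
   [4, 2, 5, 6, 3, 10, 7, 11, 6, 11],
   [10, 3, 3, 11, 3, 11, 4, 3, 6],
   [4, 10, 5, 3, 11, 7, 2, 11, 7],
   [5, 10, 5, 6, 11, 4, 11, 3, 3, 10],
   [4, 3, 10, 4, 11, 7, 11, 5, 11],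
   [4, 3, 11, 4, 11, 7, 11, 5, 10],
   [11, 4, 11, 6, 6, 3, 5, 2, 4, 7],
   [5, 11, 7, 4, 11, 4, 10, 3, 10],
   [5, 11, 7, 4, 10, 4, 10, 3, 11],
   [4, 2, 10, 5, 10, 6, 4, 7, 5, 6],
   [11, 2, 11, 2, 10, 2, 10, 2, 11, 2],
   [2, 4, 7, 11, 4, 11, 6, 6, 3, 5],
   [11, 2, 11, 5, 11, 5, 6, 10, 4],
   [11, 7, 2, 11, 7, 4, 10, 5, 3],
   [2, 10, 7, 2, 10, 7, 4, 11, 5, 2],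
   [4, 9, 11, 5, 11, 5, 8, 5, 9, 4, 8],
   [3, 9, 7, 1, 1, 9, 9, 9],
   [9, 4, 4, 11, 5, 5, 11, 5, 9, 4, 9, 4],
   [3, 3, 0, 6, 6, 1, 3, 1],
   [8, 5, 5, 9, 11, 5, 9, 5, 9, 5, 9, 10],
   [8, 5, 5, 9, 10, 5, 9, 5, 9, 5, 9, 11],
   [4, 9, 10, 5, 5, 11, 8, 5, 11, 5, 5, 10],
   [5, 5, 5, 9, 4, 9, 4, 9, 11, 5, 5, 11],
   [9, 11, 9, 5, 9, 5, 9, 4, 10, 8, 5, 5],
   [1, 7, 3, 3, 8, 4, 1, 3],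
   [0, 3, 5, 7, 1, 1, 8, 5],
   [4, 10, 5, 6, 11, 5, 11, 3, 3, 10],
   [9, 11, 5, 5, 11, 5, 5, 5, 9, 4, 9, 4],
   [7, 8, 6, 2, 1, 6, 2, 2],
   [11, 8, 4, 11, 5, 5, 10, 5, 9, 10, 4, 4],
   [8, 4, 8, 4, 11, 8, 5, 5, 9, 10, 8, 4],
   [1, 1, 2, 1, 2, 0, 0, 2, 1, 1, 1, 3, 1, 3]]

/-- Some rules. -/
def mclCertR25 : List (List ℕ) :=
  [[1, 1, 3, 9, 6, 6, 0, 8],
   [4, 1, 3, 1, 7, 2, 8],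
   [6, 2, 6, 9, 1, 2, 9, 3],
   [8, 0, 0, 8, 1, 9, 4, 7],
   [2, 8, 0, 3, 3, 7, 1, 6],
   [9, 3, 6, 2, 0, 6, 6, 5],
   [8, 0, 3, 3, 7, 1, 6, 2],
   [4, 11, 5, 11, 3, 11, 4, 10, 7],
   [0, 7, 7, 1, 3, 0, 3, 3],
   [0, 6, 3, 8, 0, 7, 0, 0],
   [0, 8, 6, 9, 0, 4, 3, 7],
   [11, 4, 8, 5, 9, 5, 8, 4, 9, 11, 4],
   [5, 5, 11, 4, 4, 4, 10, 4, 4, 10, 4, 11],
   [11, 5, 5, 11, 4, 4, 4, 8, 5, 8, 5, 8],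
   [4, 11, 4, 11, 8, 5, 9, 5, 8, 4, 9],
   [7, 11, 5, 11, 6, 5, 3, 4, 2, 7],
   [1, 2, 4, 4, 0, 0, 6, 8],
   [4, 1, 2, 2, 1, 7, 2, 8],
   [7, 7, 11, 5, 11, 6, 5, 3, 4, 2],
   [5, 2, 7, 4, 3, 10, 2, 11, 3, 11],
   [5, 2, 7, 4, 3, 11, 2, 11, 3, 10],
   [4, 3, 6, 10, 3, 3, 11, 3, 11],
   [4, 7, 2, 7, 2, 11, 2, 11, 3, 10],
   [11, 5, 11, 3, 4, 2, 4, 3, 5, 7],
   [1, 3, 0, 3, 10, 0, 0, 2, 0, 0, 2, 1, 2, 1, 1, 3, 11, 1, 3, 0, 3, 0, 3],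
   [5, 10, 5, 11, 6, 11, 4, 11, 2],
   [5, 8, 10, 5, 9, 5, 5, 8, 5, 11, 9, 5],
   [5, 10, 5, 5, 11, 5, 5, 9, 4, 9, 4, 9],
   [5, 10, 5, 6, 11, 4, 11, 2, 11],
   [4, 2, 4, 3, 5, 7, 11, 5, 11, 3],
   [4, 9, 5, 11, 9, 4, 4, 8, 10, 9, 5, 9],
   [8, 5, 8, 5, 8, 4, 4, 4, 10, 4, 4, 10],
   [4, 10, 5, 11, 3, 11, 4, 11, 7],
   [7, 11, 5, 10, 4, 3, 11, 4, 11],
   [7, 10, 5, 11, 4, 3, 11, 4, 10],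
   [2, 0, 3, 1, 1, 2, 1, 1, 1, 2, 1, 3, 0],
   [3, 6, 0, 2, 0, 5, 9],
   [0, 0, 0, 3, 9, 0, 4, 7],
   [8, 0, 7, 9, 9, 2, 5, 8],
   [8, 8, 7, 2, 1, 8, 2, 2],
   [8, 7, 1, 6, 0, 8, 7, 4],
   [4, 3, 11, 2, 11, 3, 10, 5, 2, 7],
   [10, 5, 3, 6, 11, 2, 5, 5, 10, 3],
   [7, 3, 9, 0, 4, 1, 9, 2],
   [5, 8, 4, 4, 10, 4, 4, 11, 4, 8, 5, 8],
   [4, 4, 10, 8, 4, 10, 5, 5, 11, 5, 9, 11],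
   [4, 4, 11, 8, 4, 11, 5, 5, 10, 5, 9, 10],
   [4, 4, 10, 5, 8, 5, 8, 5, 8, 11],
   [4, 4, 11, 5, 8, 5, 8, 5, 8, 10],
   [9, 3, 9, 7, 1, 1, 9, 9],
   [11, 9, 9, 9, 10, 8, 11, 9, 4, 8, 4],
   [11, 4, 11, 4, 10, 4, 10, 9, 4, 9, 4, 9],
   [11, 5, 8, 4, 9, 9, 4, 9, 9, 11, 5],
   [1, 2, 6, 9, 4, 0, 6, 8],
   [3, 0, 0, 0, 2, 0, 6, 1],
   [1, 7, 1, 9, 5, 0, 7, 4],
   [9, 4, 9, 4, 9, 4, 11, 5, 5, 10],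
   [5, 5, 3, 0, 2, 8, 8, 8],
   [6, 2, 4, 2, 6, 6, 6, 11, 5, 11],
   [9, 9, 3, 1, 2, 4, 4, 9],
   [9, 9, 2, 9, 0, 3, 6],
   [1, 1, 11, 2, 1, 1, 1, 3, 0, 2, 1, 3, 1, 1, 3, 10, 1, 1, 1, 3, 0, 0, 3, 0, 2],
   [11, 8, 5, 9, 10, 8, 5, 9, 11, 8, 5, 9],
   [0, 0, 5, 1, 7, 0, 5, 5]]

/-- Some rules. -/
def mclCertR26 : List (List ℕ) :=
  [[0, 0, 8, 1, 9, 4, 7, 8],
   [7, 3, 6, 10, 6, 10, 6, 3, 5, 11],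
   [7, 3, 6, 11, 6, 11, 6, 3, 5, 10],
   [1, 2, 11, 0, 0, 3, 0, 2, 0, 0, 0, 2, 0, 0, 2, 10, 1, 1, 1, 3, 0, 3, 1],
   [8, 7, 2, 1, 8, 2, 2, 8],
   [0, 3, 9, 0, 4, 7, 0, 0],
   [8, 8, 5, 8, 11, 5, 11, 8, 5, 9, 5],
   [0, 3, 6, 9, 9, 2, 9],
   [5, 11, 5, 11, 8, 5, 9, 4, 8, 4, 9],
   [5, 3, 7, 10, 4, 11, 7, 7, 7, 3],
   [4, 2, 7, 7, 11, 5, 11, 6, 5, 3],
   [11, 5, 10, 4, 4, 10, 4, 11, 5, 5],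
   [5, 3, 8, 3, 5, 0, 8, 8],
   [4, 9, 5, 11, 5, 11, 8, 5, 9, 4, 8],
   [5, 3, 6, 10, 2, 5, 5, 11, 3, 11],
   [5, 3, 6, 11, 2, 5, 5, 11, 3, 10],
   [1, 5, 1, 5, 6, 1, 8, 1],
   [3, 7, 0, 5, 6, 1, 9, 0],
   [7, 1, 1, 1, 6, 1, 9, 2],
   [7, 4, 0, 4, 0, 0, 9, 0],
   [1, 1, 1, 6, 1, 9, 2, 7],
   [1, 7, 2, 8, 4, 1, 2, 2],
   [11, 7, 4, 10, 4, 11, 3, 11, 5],
   [6, 2, 8, 0, 3, 3, 7, 1],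
   [0, 0, 3, 0, 0, 2, 1, 3, 1, 2, 0, 3, 0],
   [1, 9, 9, 9, 3, 9, 7, 1],
   [9, 7, 1, 1, 4, 4, 3, 0],
   [0, 2, 8, 0, 7, 0, 6, 8],
   [5, 3, 0, 9, 7, 1, 1, 5],
   [5, 5, 7, 0, 8, 3, 7, 8],
   [5, 5, 3, 10, 7, 2, 4, 11, 2, 11],
   [5, 5, 11, 3, 11, 5, 5, 10, 2, 10],
   [5, 9, 0, 3, 7, 7, 1, 9],
   [8, 4, 6, 1, 8, 7, 7, 7],
   [3, 0, 8, 7, 0, 6, 6, 5],
   [0, 9, 7, 1, 1, 4, 4, 3],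
   [7, 0, 8, 3, 7, 8, 5, 5],
   [2, 4, 3, 8, 5, 9, 4],
   [2, 6, 3, 8, 0, 5, 1, 8],
   [0, 9, 7, 1, 5, 8, 7, 3],
   [9, 5, 9, 4, 9, 5, 10, 9, 4, 4, 8, 10],
   [8, 3, 0, 8, 7, 3, 7, 2],
   [4, 7, 0, 0, 0, 3, 9, 0],
   [9, 3, 6, 0, 2, 0, 5],
   [7, 4, 4, 0, 5, 8],
   [10, 2, 6, 6, 6, 5, 3, 7, 10, 4],
   [4, 9, 10, 9, 5, 9, 5, 9, 4, 11, 8, 4],
   [5, 11, 6, 2, 4, 2, 6, 6, 6, 11],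
   [5, 11, 6, 2, 4, 2, 6, 6, 6, 10],
   [6, 0, 6, 0, 9, 5, 6, 1],
   [8, 0, 9, 1, 1, 9, 6, 5],
   [11, 9, 4, 9, 4, 9, 4, 11, 5, 5],
   [8, 4, 7, 7, 1, 3, 7, 2],
   [1, 1, 2, 1, 1, 1, 2, 1, 3, 0, 2, 0, 3],
   [1, 1, 2, 0, 0, 0, 11, 2, 0, 0, 2, 0, 3, 1, 2, 0, 0, 0, 3, 10, 0, 0, 3, 1, 2],
   [5, 5, 10, 5, 9, 4, 9, 4, 9, 5, 5, 11],
   [5, 5, 10, 8, 4, 10, 5, 5, 11, 5, 9, 11],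
   [5, 5, 11, 8, 4, 11, 5, 5, 10, 5, 9, 10],
   [6, 8, 2, 8, 8, 8, 0, 0],
   [5, 5, 11, 4, 8, 5, 8, 5, 8, 4, 4, 11],
   [4, 4, 0, 0, 6, 8, 1, 2],
   [8, 3, 7, 5, 1, 6, 9, 5],
   [5, 8, 3, 7, 5, 1, 6, 9],
   [0, 5, 1, 7, 0, 5, 5, 0]]

/-- Some rules. -/
def mclCertR27 : List (List ℕ) :=
  [[6, 9, 1, 7, 0, 6, 9, 5],
   [2, 11, 3, 5, 5, 2, 10, 3, 5, 5],
   [4, 11, 5, 5, 5, 10, 5, 10, 5, 11],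
   [4, 11, 5, 5, 11, 5, 10, 4, 4, 10],
   [6, 8, 1, 2, 5, 5, 0, 0],
   [10, 9, 10, 9, 9, 9, 9, 11, 5, 9, 5, 8],
   [3, 7, 8, 1, 1, 6, 8, 6],
   [9, 5, 9, 4, 9, 5, 11, 9, 5, 5, 8, 10],
   [7, 11, 4, 11, 3, 5, 7, 4, 6, 5],
   [5, 5, 11, 8, 8, 5, 8, 5, 8, 5, 9, 11],
   [5, 5, 11, 8, 8, 5, 8, 5, 8, 5, 9, 10],
   [2, 7, 7, 11, 5, 11, 6, 5, 3, 4],
   [6, 1, 9, 3, 1, 9, 7, 1],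
   [11, 7, 2, 6, 10, 4, 2, 7, 11, 7],
   [0, 6, 3, 7, 1, 8, 6, 2],
   [2, 0, 2, 0, 7, 7, 1, 2],
   [11, 6, 4, 2, 5, 3, 5, 2, 11, 4],
   [6, 0, 2, 0, 5, 9, 3],
   [9, 4, 9, 4, 9, 5, 10, 5, 5, 11, 5, 5],
   [4, 4, 10, 8, 4, 10, 4, 4, 11, 5, 9, 11],
   [4, 4, 11, 8, 4, 11, 4, 4, 10, 5, 9, 10],
   [2, 7, 8, 6, 2, 1, 6, 2],
   [8, 4, 9, 9, 4, 9, 9, 5, 11, 5, 11],
   [8, 4, 9, 9, 4, 9, 9, 5, 11, 5, 10],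
   [3, 7, 10, 4, 11, 7, 7, 7, 3, 5],
   [10, 4, 4, 6, 11, 4, 7, 2, 10, 7],
   [10, 6, 11, 6, 4, 6, 4, 2, 10, 7],
   [5, 3, 4, 2, 7, 7, 11, 5, 11, 6],
   [10, 3, 11, 3, 11, 3, 11, 3, 10, 3],
   [4, 10, 2, 5, 7, 11, 5, 2, 11, 3],
   [4, 3, 10, 5, 2, 11, 3, 4, 11, 6],
   [7, 5, 5, 10, 6, 10, 3, 6, 5, 11],
   [7, 11, 6, 11, 5, 5, 3, 6, 5, 10],
   [6, 6, 3, 5, 2, 4, 7, 11, 4, 11],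
   [6, 6, 3, 5, 2, 4, 7, 10, 4, 10],
   [2, 11, 3, 5, 11, 6, 4, 3, 10, 4],
   [5, 3, 6, 11, 2, 4, 4, 10, 3, 11],
   [11, 2, 4, 11, 5, 6, 10, 3, 6],
   [2, 10, 7, 10, 5, 5, 6, 11, 4, 7],
   [4, 10, 4, 8, 10, 5, 5, 11, 9, 5, 11, 4],
   [0, 0, 11, 2, 0, 0, 2, 0, 3, 1, 2, 0, 0, 0, 3, 10, 0, 0, 3, 1, 2, 1, 1, 2, 0],
   [0, 9, 1, 1, 9, 6, 5, 8],
   [4, 2, 1, 9, 6, 4, 7, 8],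
   [9, 4, 9, 5, 5, 11, 4, 4, 10, 5, 9, 4],
   [9, 5, 5, 8, 10, 9, 5, 9, 4, 9, 5, 11],
   [9, 5, 5, 8, 11, 9, 5, 9, 4, 9, 5, 10],
   [11, 3, 5, 5, 2, 10, 3, 4, 4, 2],
   [11, 8, 5, 8, 5, 8, 5, 11, 5, 5],
   [5, 11, 8, 8, 5, 8, 5, 8, 5, 9, 11, 5],
   [11, 5, 10, 7, 10, 4, 11, 4, 3],
   [11, 5, 11, 6, 5, 2, 5, 3, 4, 2],
   [11, 4, 10, 2, 5, 11, 5, 11, 6],
   [5, 5, 5, 10, 4, 10, 5, 11, 5, 11],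
   [5, 11, 8, 4, 9, 4, 8, 5, 9, 4, 11],
   [5, 11, 8, 4, 9, 4, 8, 5, 9, 4, 10],
   [10, 4, 11, 3, 6, 6, 3, 7, 5, 2],
   [5, 8, 8, 5, 8, 11, 5, 11, 8, 5, 9],
   [10, 4, 9, 5, 5, 8, 4, 11, 9, 5, 5, 8],
   [3, 10, 4, 3, 6, 11, 2, 11],
   [4, 11, 5, 5, 10, 9, 4, 9, 5, 5, 5, 9],
   [4, 11, 5, 5, 10, 4, 4, 8, 5, 8, 5, 8],
   [5, 5, 11, 5, 5, 9, 4, 9, 4, 9, 5, 10],
   [8, 6, 4, 1, 8, 5, 5, 1],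
   [1, 3, 7, 9, 0, 6, 2, 7]]

/-- Some rules. -/
def mclCertR28 : List (List ℕ) :=
  [[5, 10, 4, 8, 4, 9, 4, 8, 5, 9, 11],
   [5, 10, 4, 8, 4, 9, 4, 8, 5, 9, 10],
   [6, 11, 5, 11, 3, 3, 5, 10, 4, 11],
   [4, 8, 8, 6, 4, 0, 9, 1],
   [7, 8, 6, 2, 1, 6, 3],
   [0, 3, 5, 9, 6, 5, 7, 8],
   [3, 0, 6, 6, 1, 3, 1, 3],
   [6, 6, 6, 11, 5, 11, 6, 2, 4, 2],
   [3, 0, 9, 7, 1, 1, 4, 4],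
   [3, 0, 9, 7, 1, 5, 8, 7],
   [3, 1, 9, 7, 1, 6, 1, 9],
   [7, 1, 9, 5, 9, 0, 3, 7],
   [5, 9, 11, 5, 9, 5, 9, 5, 9, 10, 8, 5],
   [5, 7, 0, 8, 3, 7, 8, 5],
   [9, 11, 5, 5, 10, 8, 10, 5, 5, 11],
   [5, 5, 11, 9, 5, 5, 5, 9, 4, 9, 4, 11],
   [9, 10, 5, 5, 11, 8, 11, 5, 5, 10],
   [0, 4, 1, 5, 8, 7, 1, 6],
   [5, 5, 10, 6, 10, 3, 6, 5, 11, 7],
   [11, 5, 11, 3, 4, 7, 4, 6, 4, 7],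
   [3, 1, 2, 0, 6, 6, 1],
   [7, 5, 5, 11, 6, 11, 3, 6, 5, 10],
   [11, 3, 11, 7, 3, 3, 5, 10, 2],
   [7, 3, 3, 5, 10, 2, 11, 3, 11],
   [5, 10, 7, 4, 11, 4, 11, 3, 11],
   [5, 10, 7, 4, 11, 4, 11, 3, 10],
   [3, 5, 2, 4, 3, 4, 7, 11, 4, 11],
   [3, 5, 2, 4, 3, 4, 7, 10, 4, 10],
   [11, 9, 4, 11, 5, 5, 10, 5, 8, 10, 4, 4],
   [3, 6, 5, 11, 7, 5, 5, 10, 6, 10],
   [5, 10, 2, 11, 3, 11, 3, 6, 3, 6],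
   [8, 5, 6, 5, 6, 4, 0, 5],
   [9, 6, 2, 9, 1, 6, 4, 4],
   [2, 4, 2, 6, 6, 6, 11, 5, 11, 6],
   [8, 5, 8, 5, 8, 5, 10, 4, 4, 11],
   [1, 2, 1, 1, 1, 2, 1, 3, 0, 2, 0, 3, 1],
   [4, 3, 6, 11, 2, 11, 2, 2, 10],
   [10, 2, 11, 3, 11, 7, 2, 5],
   [10, 2, 10, 5, 5, 3, 11, 7, 2, 4],
   [9, 5, 9, 5, 9, 4, 10, 8, 5, 5, 9, 11],
   [9, 5, 9, 5, 9, 4, 11, 8, 5, 5, 9, 10],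
   [5, 5, 10, 9, 10, 5, 5, 11, 8, 11],
   [4, 0, 0, 6, 8, 1, 2, 4],
   [4, 10, 5, 6, 11, 3, 6, 11, 3, 3],
   [4, 10, 8, 4, 4, 9, 11, 9, 5, 9, 5, 9],
   [1, 4, 4, 1, 6, 0, 4, 1],
   [0, 9, 1, 7, 7, 8, 2, 0],
   [4, 9, 4, 9, 4, 9, 11, 5, 5, 11],
   [2, 8, 8, 7, 2, 1, 8, 2],
   [0, 4, 1, 9, 2, 7, 3, 9],
   [8, 1, 1, 3, 9, 6, 6, 0],
   [5, 8, 4, 9, 2, 5, 3],
   [5, 5, 1, 8, 6, 4, 1, 8],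
   [10, 3, 6, 5, 11, 7, 5, 5, 10, 6],
   [11, 4, 4, 10, 8, 8, 10, 4, 4, 11, 9, 9],
   [11, 2, 7, 4, 3, 5, 10, 7, 10, 6],
   [11, 6, 11, 3, 5, 7, 5, 7, 11, 7],
   [4, 11, 3, 5, 7, 4, 6, 5, 7, 11],
   [4, 11, 3, 5, 2, 4, 3, 4, 7, 10],
   [4, 11, 5, 9, 4, 9, 4, 9, 4, 4, 10, 4],
   [6, 0, 9, 5, 6, 1, 6, 0],
   [8, 5, 5, 9, 10, 8, 4, 8, 4, 8, 4, 11],
   [5, 9, 5, 9, 5, 9, 10, 8, 5, 5, 9, 11],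
   [10, 5, 6, 11, 5, 11, 3, 3, 10, 4]]

/-- Some rules. -/
def mclCertR29 : List (List ℕ) :=
  [[3, 8, 0, 7, 0, 0, 0, 6],
   [7, 1, 3, 7, 9, 0, 6, 2],
   [11, 5, 8, 5, 8, 5, 8, 10, 4, 4],
   [5, 5, 5, 3, 6, 11, 2, 10, 3, 10],
   [10, 4, 3, 6, 11, 2, 11, 2, 2],
   [0, 9, 2, 0, 6, 8, 6, 0],
   [5, 9, 4, 9, 4, 9, 5, 5, 11, 5, 5, 10],
   [4, 8, 11, 5, 5, 11, 9, 9, 4, 9, 4, 9],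
   [3, 7, 9, 0, 6, 2, 7, 1],
   [6, 8, 6, 0, 0, 9, 2, 0],
   [7, 2, 7, 2, 11, 2, 11, 3, 10, 4],
   [11, 5, 5, 11, 5, 8, 5, 8, 5, 8],
   [9, 6, 2, 7, 0, 3, 7],
   [9, 5, 0, 7, 4, 1, 7, 1],
   [8, 5, 8, 10, 5, 5, 11, 5, 8, 4, 4, 4],
   [11, 3, 11, 3, 11, 3, 10, 3, 10, 3],
   [2, 11, 3, 5, 10, 6, 4, 3, 11, 4],
   [0, 4, 8, 3, 4, 2, 7, 2],
   [4, 7, 7, 1, 3, 7, 2, 8],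
   [1, 1, 3, 1, 3, 1, 1, 2, 1, 2, 0, 0, 2, 1],
   [0, 5, 7, 9, 0, 5, 5, 9],
   [3, 6, 6, 3, 7, 5, 2, 11, 4, 11],
   [3, 6, 6, 3, 7, 5, 2, 10, 4, 10],
   [5, 5, 10, 4, 4, 9, 4, 9, 4, 9, 5, 11],
   [4, 4, 10, 5, 5, 9, 4, 9, 4, 9, 5, 10],
   [6, 11, 3, 5, 7, 5, 7, 11, 7, 11],
   [6, 11, 5, 5, 3, 6, 5, 10, 7, 10],
   [2, 6, 6, 6, 5, 3, 7, 11, 4, 11],
   [10, 8, 5, 9, 11, 8, 5, 9, 11, 8, 5, 9],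
   [3, 4, 6, 2, 7, 7, 2, 11, 5, 11],
   [3, 4, 6, 2, 7, 7, 2, 10, 5, 10],
   [7, 2, 11, 7, 4, 11, 5, 3, 10],
   [11, 6, 4, 4, 7, 10, 6, 5, 5, 7],
   [5, 7, 11, 4, 11, 3, 5, 7, 4, 6],
   [6, 4, 2, 10, 5, 10, 6, 4, 7, 5],
   [5, 2, 7, 11, 4, 11, 7, 3, 5, 3],
   [11, 4, 10, 7, 10, 5, 11, 4, 3],
   [4, 4, 10, 3, 11, 5, 3, 6, 11, 2],
   [9, 4, 10, 8, 5, 5, 9, 11, 9, 5, 9, 5],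
   [11, 5, 8, 4, 8, 4, 8, 11, 8, 5, 5, 9],
   [4, 0, 9, 1, 4, 8, 8, 6],
   [4, 4, 10, 8, 5, 8, 5, 8, 4, 4, 4, 10],
   [9, 9, 9, 10, 8, 11, 9, 4, 8, 4, 11],
   [9, 9, 11, 4, 11, 9, 5, 9, 9, 9, 5],
   [2, 0, 7, 7, 1, 2, 2, 0],
   [2, 0, 6, 8, 6, 0, 0, 9],
   [9, 9, 11, 5, 11, 5, 8, 4, 9, 9, 4],
   [9, 9, 4, 9, 4, 9, 4, 8, 11, 5, 5, 10],
   [6, 4, 7, 0, 6, 6, 9, 6],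
   [5, 8, 11, 5, 11, 8, 5, 9, 5, 8, 8],
   [5, 2, 4, 7, 11, 4, 11, 6, 6, 3],
   [4, 1, 1, 4, 4, 1, 6, 0],
   [4, 4, 9, 0, 5, 7, 9, 0],
   [11, 3, 5, 10, 6, 4, 3, 11, 4, 2],
   [11, 5, 5, 10, 4, 9, 10, 4, 4, 11, 8, 5],
   [5, 5, 10, 9, 10, 4, 4, 11, 8, 11],
   [5, 5, 11, 9, 11, 4, 4, 10, 8, 10],
   [8, 4, 11, 5, 5, 10, 5, 9, 10, 4, 4, 11],
   [8, 4, 10, 5, 5, 11, 5, 9, 11, 4, 4, 10],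
   [5, 5, 3, 11, 7, 2, 4, 10, 2, 10],
   [4, 4, 10, 3, 11, 5, 5, 11, 2, 10],
   [6, 3, 5, 2, 4, 7, 10, 4, 10, 6],
   [4, 11, 4, 4, 10, 4, 4, 8, 5, 8, 5, 8],
   [4, 11, 3, 5, 2, 4, 3, 4, 7, 11]]

/-- Some rules. -/
def mclCertR30 : List (List ℕ) :=
  [[10, 8, 4, 8, 4, 8, 4, 11, 8, 4, 4, 9],
   [7, 10, 4, 4, 6, 11, 4, 7, 2, 10],
   [2, 5, 5, 11, 3, 11, 5, 3, 6, 10],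
   [2, 4, 4, 10, 3, 11, 5, 3, 6, 11],
   [1, 3, 10, 1, 1, 1, 3, 0, 0, 3, 0, 2, 1, 1, 11, 2, 1, 1, 1, 3, 0, 2, 1, 3, 1],
   [2, 2, 1, 9, 3, 7, 0, 6],
   [9, 3, 1, 9, 7, 1, 6, 1],
   [0, 2, 1, 3, 1, 1, 3, 10, 1, 1, 1, 3, 0, 0, 3, 0, 2, 1, 1, 11, 2, 1, 1, 1, 3],
   [7, 9, 7, 0, 0, 9, 6, 2],
   [11, 5, 5, 10, 4, 4, 9, 4, 9, 4, 9, 5],
   [1, 1, 2, 11, 0, 0, 3, 0, 2, 0, 0, 0, 2, 0, 0, 2, 10, 1, 1, 1, 3, 0, 3],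
   [1, 3, 0, 2, 0, 7, 7],
   [11, 8, 4, 8, 4, 8, 4, 10, 8, 5, 5, 9],
   [11, 3, 10, 3, 10, 3, 11, 3, 11, 3],
   [5, 11, 3, 4, 6, 2, 7, 7, 2, 11],
   [10, 2, 11, 2, 11, 2, 11, 2, 10, 2],
   [2, 10, 2, 11, 3, 11, 4, 7, 2, 7],
   [2, 11, 7, 4, 11, 5, 3, 10, 7],
   [5, 5, 10, 9, 4, 9, 5, 5, 5, 9, 4, 11],
   [5, 5, 11, 9, 4, 9, 5, 5, 5, 9, 4, 10],
   [11, 4, 11, 3, 6, 6, 3, 7, 5, 2],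
   [5, 10, 5, 11, 6, 11, 4, 11, 3, 3],
   [6, 4, 3, 10, 5, 2, 11, 3, 4, 11],
   [6, 4, 3, 11, 5, 2, 11, 3, 4, 10],
   [5, 6, 4, 2, 10, 5, 10, 6, 4, 7],
   [6, 2, 7, 7, 2, 10, 5, 10, 3, 4],
   [9, 4, 8, 5, 9, 4, 11, 5, 11, 8, 4],
   [11, 2, 11, 3, 10, 4, 3, 6],
   [10, 4, 3, 6, 11, 3, 3, 10, 3],
   [9, 5, 11, 5, 11, 8, 4, 9, 9, 4, 9],
   [11, 2, 5, 7, 10, 5, 2, 11, 3, 4],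
   [1, 5, 8, 7, 3, 0, 9, 7],
   [5, 8, 8, 5, 9, 4, 11, 4, 11, 8, 8],
   [9, 11, 8, 5, 9, 11, 8, 5, 9, 10, 8, 5],
   [9, 4, 9, 5, 11, 9, 5, 5, 8, 10, 9, 5],
   [8, 8, 5, 8, 8, 5, 9, 4, 11, 4, 11],
   [8, 8, 5, 8, 8, 5, 9, 4, 11, 4, 10],
   [8, 5, 9, 11, 8, 5, 9, 11, 8, 5, 9, 10],
   [8, 4, 8, 4, 8, 4, 11, 8, 5, 5, 9, 10],
   [0, 0, 2, 1, 1, 1, 3, 1, 3, 1, 1, 2, 1, 2],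
   [9, 11, 5, 5, 11, 8, 8, 5, 8, 5, 8, 5],
   [2, 4, 7, 7, 1, 6, 9, 1],
   [7, 0, 6, 6, 9, 6, 6, 4],
   [4, 11, 2, 6, 6, 6, 5, 3, 7, 11],
   [4, 10, 2, 6, 6, 6, 5, 3, 7, 10],
   [4, 4, 10, 2, 10, 5, 5, 11, 3, 11],
   [4, 4, 10, 2, 11, 5, 5, 11, 3, 10],
   [2, 7, 4, 3, 11, 2, 11, 3, 10, 5],
   [2, 8, 8, 8, 0, 0, 6, 8],
   [11, 5, 5, 10, 9, 5, 10, 5, 5, 11, 4, 8],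
   [0, 2, 0, 5, 9, 3, 6],
   [0, 2, 0, 2, 0, 0, 0, 3, 1, 1, 3, 0, 3, 0],
   [4, 8, 8, 5, 8, 8, 5, 9, 11, 4, 11],
   [4, 4, 10, 5, 11, 5, 5, 11, 4, 10],
   [11, 5, 9, 5, 5, 8, 5, 10, 9, 4, 4, 8],
   [0, 3, 1, 3, 0, 3, 10, 0, 0, 2, 0, 0, 2, 1, 2, 1, 1, 3, 11, 1, 3, 0, 3],
   [11, 3, 5, 7, 5, 7, 11, 7, 11, 6],
   [2, 1, 8, 0, 7, 4, 1, 6],
   [4, 7, 3, 11, 6, 4, 7, 3, 10, 6],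
   [0, 2, 0, 5, 9, 2, 2, 6],
   [6, 10, 4, 11, 2, 5, 11, 5, 10],
   [6, 8, 1, 2, 4, 4, 0, 0],
   [0, 0, 3, 0, 2, 1, 1, 11, 2, 1, 1, 1, 3, 0, 2, 1, 3, 1, 1, 3, 10, 1, 1, 1, 3],
   [4, 4, 3, 10, 7, 2, 4, 11, 2, 11]]

/-- Some rules. -/
def mclCertR31 : List (List ℕ) :=
  [[4, 4, 3, 11, 7, 2, 4, 11, 2, 10],
   [9, 0, 4, 4, 9, 0, 5, 7],
   [5, 7, 8, 0, 3, 5, 9, 6],
   [8, 5, 3, 7, 1, 3, 5, 2],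
   [11, 7, 2, 4, 11, 2, 10, 4, 4, 3],
   [10, 5, 5, 11, 8, 4, 9, 4, 9, 4, 9, 9],
   [1, 9, 5, 9, 0, 3, 7, 7],
   [8, 8, 0, 7, 9, 9, 2, 5],
   [3, 4, 2, 4, 2, 6, 10, 5, 10, 6],
   [5, 11, 5, 8, 5, 9, 4, 8, 4, 9, 11],
   [5, 11, 5, 8, 5, 9, 4, 8, 4, 9, 10],
   [8, 6, 9, 0, 4, 3, 7, 0],
   [9, 9, 9, 3, 1, 2, 4, 4],
   [0, 6, 8, 1, 2, 5, 5, 0],
   [8, 6, 4, 1, 8, 4, 4, 1],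
   [11, 5, 5, 10, 4, 8, 10, 5, 5, 11, 9, 5],
   [1, 8, 4, 4, 1, 8, 6, 4],
   [11, 3, 11, 5, 10, 7, 4, 11, 4],
   [1, 2, 1, 1, 2, 0, 0, 0, 11, 2, 0, 0, 2, 0, 3, 1, 2, 0, 0, 0, 3, 10, 0, 0, 3],
   [0, 9, 1, 4, 8, 8, 6, 4],
   [2, 0, 6, 6, 1, 3, 1],
   [6, 5, 7, 8, 0, 3, 5, 9],
   [1, 8, 4, 8, 0, 6, 6, 2],
   [5, 10, 6, 2, 4, 7, 7, 7, 3, 10],
   [11, 6, 11, 3, 6, 5, 10, 7, 5, 5],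
   [8, 2, 8, 8, 8, 0, 0, 6],
   [5, 11, 8, 5, 9, 4, 8, 4, 9, 5, 11],
   [5, 11, 4, 4, 4, 10, 4, 10, 4, 11],
   [11, 7, 2, 6, 11, 4, 2, 7, 10, 7],
   [8, 4, 4, 9, 11, 9, 5, 9, 5, 9, 4, 10],
   [8, 4, 4, 9, 10, 9, 5, 9, 5, 9, 4, 11],
   [5, 5, 11, 3, 10, 4, 4, 10, 2, 11],
   [7, 4, 11, 5, 3, 10, 7, 2, 11],
   [8, 4, 9, 4, 9, 4, 9, 9, 10, 4, 4, 10],
   [7, 3, 5, 3, 5, 2, 7, 11, 4, 11],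
   [10, 5, 10, 4, 11, 4, 11, 5],
   [7, 3, 5, 3, 5, 2, 7, 10, 4, 10],
   [4, 2, 6, 11, 5, 11, 6, 3, 4, 2],
   [6, 11, 6, 4, 6, 4, 2, 10, 7, 10],
   [10, 5, 6, 11, 4, 11, 3, 3, 10, 5],
   [4, 9, 10, 8, 4, 9, 11, 8, 4, 9, 11, 8],
   [11, 9, 5, 9, 5, 9, 4, 10, 8, 5, 5, 9],
   [9, 4, 8, 4, 10, 8, 8, 8, 8, 11, 8, 11],
   [5, 8, 5, 8, 11, 5, 11, 5, 10, 5, 10, 8],
   [1, 8, 0, 7, 4, 1, 6, 2],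
   [3, 0, 3, 10, 0, 0, 2, 0, 0, 2, 1, 2, 1, 1, 3, 11, 1, 3, 0, 3, 0, 3, 1],
   [1, 1, 3, 0, 3, 0, 0, 2, 0, 2, 0, 0, 0, 3],
   [0, 0, 0, 3, 1, 1, 3, 0, 3, 0, 0, 2, 0, 2],
   [4, 9, 5, 5, 8, 4, 11, 9, 5, 5, 8, 10],
   [4, 9, 5, 5, 8, 4, 10, 9, 5, 5, 8, 11],
   [8, 11, 9, 4, 8, 4, 10, 9, 9, 9, 11],
   [4, 4, 10, 8, 8, 5, 8, 5, 8, 5, 9, 11],
   [4, 4, 11, 8, 8, 5, 8, 5, 8, 5, 9, 10],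
   [5, 11, 3, 4, 6, 2, 7, 7, 2, 10],
   [2, 11, 7, 11, 4, 4, 6, 10, 4, 7],
   [11, 6, 4, 4, 7, 10, 6, 4, 4, 7],
   [5, 5, 8, 4, 10, 9, 5, 5, 8, 11, 4, 9],
   [10, 4, 11, 2, 11, 5, 11, 5, 6],
   [6, 5, 2, 10, 4, 10, 6, 5, 7, 5],
   [9, 4, 8, 4, 9, 11, 5, 11, 5, 8, 5],
   [8, 4, 8, 11, 9, 5, 5, 8, 11, 4, 8, 5],
   [5, 8, 11, 5, 5, 11, 5, 8, 5, 8],
   [9, 5, 5, 8, 5, 10, 9, 5, 5, 8, 11, 5],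
   [9, 5, 5, 8, 10, 4, 9, 5, 5, 8, 4, 11]]

/-- Some rules. -/
def mclCertR32 : List (List ℕ) :=
  [[9, 5, 5, 8, 11, 4, 9, 5, 5, 8, 4, 10],
   [11, 6, 4, 6, 4, 2, 10, 7, 10, 6],
   [5, 10, 8, 5, 9, 5, 8, 8, 5, 8, 11],
   [5, 10, 8, 5, 9, 5, 8, 8, 5, 8, 10],
   [3, 11, 4, 11, 7, 10, 5, 10, 4],
   [9, 9, 4, 9, 4, 9, 4, 8, 10, 5, 5, 11],
   [4, 9, 9, 4, 8, 4, 9, 11, 4, 11, 9],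
   [2, 2, 7, 8, 6, 2, 1, 6],
   [8, 8, 8, 0, 0, 6, 8, 2],
   [9, 10, 5, 9, 5, 9, 5, 9, 11, 8, 5, 5],
   [5, 8, 5, 8, 4, 10, 4, 4, 11, 5, 5, 8],
   [11, 3, 11, 4, 2, 2, 6, 10, 2],
   [6, 10, 2, 10, 3, 11, 4, 3],
   [5, 8, 5, 8, 8, 10, 5, 5, 11, 9, 5, 8],
   [10, 6, 5, 5, 7, 11, 6, 4, 4, 7],
   [11, 5, 11, 8, 4, 9, 4, 8, 5, 9, 4],
   [11, 4, 11, 5, 10, 4, 10, 8, 5, 8, 5, 8],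
   [3, 10, 5, 2, 7, 4, 3, 11, 2, 11],
   [3, 9, 0, 6, 2, 6, 5, 9],
   [10, 4, 7, 2, 7, 2, 11, 2, 11, 3],
   [3, 7, 11, 4, 11, 2, 6, 6, 6, 5],
   [9, 10, 5, 9, 5, 9, 5, 9, 11, 8, 4, 4],
   [5, 9, 5, 8, 4, 9, 11, 4, 11, 4, 8],
   [8, 5, 8, 10, 5, 10, 8, 5, 9, 5, 8],
   [8, 8, 8, 8, 11, 8, 11, 9, 4, 8, 4, 10],
   [4, 10, 7, 7, 7, 3, 5, 3, 7, 10],
   [6, 3, 4, 2, 4, 2, 6, 10, 5, 10],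
   [3, 4, 10, 6, 4, 3, 11, 5, 2, 10],
   [10, 5, 9, 4, 9, 4, 9, 5, 5, 11, 5, 5],
   [3, 6, 5, 10, 7, 5, 5, 11, 6, 11],
   [10, 8, 8, 8, 8, 11, 8, 11, 9, 4, 8, 4],
   [4, 11, 8, 8, 5, 8, 8, 5, 9, 4, 11],
   [4, 11, 8, 8, 5, 8, 8, 5, 9, 4, 10],
   [5, 8, 4, 9, 11, 4, 11, 4, 8, 5, 9],
   [9, 10, 4, 4, 11, 4, 9, 5, 5, 5, 9, 4],
   [9, 4, 9, 4, 4, 11, 5, 5, 11, 5, 9, 4],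
   [5, 7, 11, 4, 2, 11, 3, 5, 10, 2],
   [11, 5, 6, 10, 5, 11, 2, 11, 4],
   [9, 4, 9, 4, 11, 5, 5, 11, 9, 4],
   [10, 5, 11, 5, 8, 4, 9, 9, 4, 9, 9],
   [11, 7, 3, 3, 10, 7, 4, 11, 5, 3],
   [11, 5, 11, 4, 8, 4, 9, 4, 8, 5, 9],
   [2, 11, 3, 11, 7, 3, 3, 5, 10],
   [7, 1, 6, 2, 8, 0, 3, 3],
   [10, 9, 5, 9, 5, 9, 4, 11, 8, 4, 4, 9],
   [6, 2, 7, 1, 3, 7, 9, 0],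
   [9, 9, 10, 5, 5, 11, 8, 8, 11, 4, 4, 10],
   [9, 9, 11, 5, 5, 10, 8, 8, 10, 4, 4, 11],
   [4, 11, 8, 5, 9, 5, 8, 4, 9, 4, 11],
   [4, 11, 8, 5, 9, 5, 8, 4, 9, 4, 10],
   [8, 4, 10, 9, 5, 5, 8, 11, 4, 9, 5, 5],
   [9, 9, 9, 11, 8, 11, 9, 4, 8, 4, 10],
   [10, 9, 5, 5, 8, 11, 4, 9, 5, 5, 8, 4],
   [10, 9, 9, 9, 11, 8, 11, 9, 4, 8, 4],
   [8, 8, 4, 8, 8, 8, 4, 8, 11, 5, 11],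
   [8, 5, 9, 11, 8, 5, 9, 10, 8, 5, 9, 11],
   [11, 7, 11, 5, 11, 4, 3, 10, 4],
   [5, 5, 10, 8, 8, 5, 8, 5, 8, 5, 9, 11],
   [11, 9, 4, 8, 4, 11, 9, 9, 9, 10, 8],
   [8, 5, 8, 5, 8, 5, 11, 4, 4, 10],
   [4, 9, 9, 11, 5, 11, 5, 8, 4, 9, 9],
   [4, 9, 4, 9, 4, 9, 10, 4, 4, 11],
   [4, 9, 10, 4, 4, 11, 8, 5, 11, 4, 4, 10],
   [5, 5, 8, 5, 8, 5, 8, 4, 10, 4, 4, 11]]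

/-- Some rules. -/
def mclCertR33 : List (List ℕ) :=
  [[11, 3, 11, 4, 7, 2, 7, 2, 10, 2],
   [5, 9, 5, 9, 4, 10, 8, 5, 5, 9, 11, 9],
   [5, 11, 4, 4, 10, 4, 4, 9, 4, 9, 4, 9],
   [10, 9, 5, 9, 4, 9, 5, 11, 9, 5, 5, 8],
   [9, 5, 8, 10, 9, 10, 9, 9, 9, 9, 11, 5],
   [1, 2, 1, 2, 0, 0, 2, 1, 1, 1, 3, 1, 3, 1],
   [8, 5, 8, 5, 11, 5, 5, 11, 8, 4, 4, 4],
   [0, 3, 0, 0, 2, 0, 2, 0, 0, 0, 3, 1, 1, 3],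
   [5, 11, 4, 8, 11, 5, 5, 10, 9, 5, 10, 5],
   [3, 6, 3, 6, 2, 2, 6],
   [11, 4, 11, 4, 8, 8, 5, 8, 8, 5, 9],
   [0, 0, 2, 0, 2, 0, 0, 0, 3, 1, 1, 3, 0, 3],
   [9, 5, 6, 9, 1, 7, 0, 6],
   [11, 6, 5, 5, 7, 10, 6, 4, 4, 7],
   [10, 7, 4, 11, 5, 3, 11, 7, 2],
   [4, 11, 3, 6, 6, 3, 7, 5, 2, 11],
   [4, 11, 3, 6, 6, 3, 7, 5, 2, 10],
   [9, 4, 9, 5, 5, 5, 9, 4, 10, 4, 4, 11],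
   [9, 4, 9, 4, 9, 4, 10, 4, 4, 10],
   [5, 7, 2, 5, 7, 2],
   [8, 5, 5, 9, 11, 5, 8, 4, 8, 4, 8, 10],
   [1, 3, 0, 0, 3, 0, 2, 1, 1, 11, 2, 1, 1, 1, 3, 0, 2, 1, 3, 1, 1, 3, 10, 1, 1],
   [0, 8, 1, 1, 3, 9, 6, 6],
   [5, 8, 11, 5, 5, 10, 9, 4, 10, 4, 4, 11],
   [5, 8, 10, 5, 5, 11, 9, 4, 11, 4, 4, 10],
   [9, 4, 8, 4, 11, 9, 9, 9, 10, 8, 11],
   [9, 4, 8, 4, 11, 9, 9, 9, 10, 8, 10],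
   [11, 5, 11, 8, 4, 9, 9, 4, 9, 9, 5],
   [5, 9, 5, 8, 11, 9, 11, 8, 8, 8, 10],
   [6, 6, 3, 7, 5, 2, 10, 4, 10, 3],
   [6, 5, 11, 7, 5, 5, 10, 6, 10, 3],
   [8, 5, 9, 5, 8, 8, 5, 8, 11, 5, 11],
   [8, 5, 9, 5, 8, 8, 5, 8, 11, 5, 10],
   [11, 5, 8, 4, 9, 9, 4, 9, 9, 10, 5],
   [2, 6, 0, 2, 0, 5, 9, 2],
   [11, 4, 8, 4, 9, 4, 8, 5, 9, 11, 5],
   [1, 1, 4, 4, 1, 6, 0, 4],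
   [1, 3, 7, 2, 8, 4, 7, 7],
   [11, 8, 5, 9, 4, 8, 4, 9, 5, 11, 5],
   [11, 8, 8, 5, 8, 8, 5, 9, 4, 11, 4],
   [8, 5, 5, 9, 10, 9, 5, 9, 5, 9, 4, 11],
   [8, 5, 5, 9, 11, 9, 5, 9, 5, 9, 4, 10],
   [7, 2, 5, 10, 2, 10, 2, 2, 11],
   [5, 11, 9, 5, 5, 8, 10, 5, 9, 5, 5, 8],
   [9, 5, 5, 8, 11, 5, 9, 4, 4, 8, 5, 10],
   [4, 8, 11, 5, 5, 10, 9, 5, 10, 4, 4, 11],
   [3, 6, 11, 6, 11, 6, 3, 5, 10, 7],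
   [5, 9, 4, 11, 4, 11, 8, 8, 5, 8, 8],
   [4, 4, 8, 5, 10, 9, 5, 5, 8, 11, 5, 9],
   [5, 9, 5, 9, 11, 8, 5, 5, 9, 10, 5, 9],
   [10, 7, 10, 5, 11, 4, 3, 11, 4],
   [11, 5, 5, 10, 5, 9, 4, 9, 4, 9, 5, 5],
   [4, 9, 4, 9, 5, 10, 5, 5, 11, 5, 5, 9],
   [7, 10, 6, 11, 6, 4, 6, 4, 2, 10],
   [4, 9, 5, 8, 5, 9, 5, 11, 4, 10, 8],
   [9, 5, 8, 4, 9, 11, 4, 11, 4, 8, 5],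
   [5, 10, 5, 10, 8, 5, 8, 5, 8, 11, 5, 11],
   [5, 10, 9, 4, 9, 4, 9, 11, 5, 11, 4, 10],
   [3, 11, 7, 2, 4, 10, 2, 10, 5, 5],
   [3, 11, 7, 2, 4, 11, 2, 10, 4, 4],
   [8, 2, 1, 1, 1, 6, 5, 1],
   [1, 8, 6, 4, 1, 8, 5, 5],
   [8, 11, 4, 4, 10, 9, 5, 10, 4, 4, 11, 4],
   [6, 2, 1, 9, 7, 0, 0]]

/-- Some rules. -/
def mclCertR34 : List (List ℕ) :=
  [[3, 4, 2, 4, 3, 5, 7, 11, 5, 11],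
   [3, 4, 2, 4, 3, 5, 7, 10, 5, 10],
   [6, 3, 7, 1, 8, 6, 2, 0],
   [5, 10, 5, 5, 11, 8, 5, 8, 4, 4, 4, 8],
   [8, 4, 8, 4, 8, 11, 8, 5, 5, 9, 11, 5],
   [3, 4, 2, 1, 3, 4, 2, 1],
   [2, 2, 0, 2, 0, 7, 7, 1],
   [10, 7, 2, 10, 7, 4, 11, 5, 2, 2],
   [2, 5, 7, 10, 4, 2, 11, 3, 5, 11],
   [2, 5, 7, 11, 4, 2, 11, 3, 5, 10],
   [2, 4, 11, 5, 6, 10, 3, 6, 11],
   [2, 4, 11, 5, 6, 10, 3, 6, 10],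
   [5, 8, 11, 9, 11, 8, 8, 8, 10, 5, 9],
   [5, 8, 4, 8, 4, 8, 11, 8, 5, 5, 9, 10],
   [9, 9, 11, 8, 11, 9, 4, 8, 4, 10, 9],
   [8, 8, 8, 11, 8, 11, 9, 4, 8, 4, 10, 8],
   [8, 10, 5, 9, 5, 5, 8, 5, 11, 9, 4, 4],
   [9, 5, 10, 9, 5, 5, 8, 11, 9, 5, 9, 4],
   [5, 11, 5, 10, 4, 10, 4, 11],
   [5, 11, 4, 11, 4, 10, 5, 10],
   [5, 11, 5, 5, 5, 10, 4, 10, 5, 11],
   [3, 11, 4, 11, 7, 11, 5, 10, 4],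
   [11, 4, 11, 3, 3, 10, 5, 10, 5, 6],
   [11, 5, 11, 4, 3, 10, 4, 11, 7],
   [7, 11, 4, 11, 4, 3, 10, 5, 11],
   [2, 4, 11, 5, 6, 11, 3, 6, 10],
   [11, 4, 11, 5, 6, 10, 5, 11, 2],
   [4, 8, 4, 10, 8, 8, 8, 8, 11, 8, 11, 9],
   [5, 9, 4, 8, 4, 9, 5, 11, 5, 11, 8],
   [8, 10, 9, 5, 9, 4, 9, 5, 11, 9, 4, 4],
   [4, 8, 8, 5, 8, 8, 5, 9, 11, 4, 10],
   [6, 11, 5, 11, 2, 5, 10, 4, 11],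
   [6, 11, 5, 11, 2, 5, 10, 4, 10],
   [2, 11, 5, 5, 11, 3, 10, 4, 4, 10],
   [3, 5, 7, 4, 6, 5, 7, 11, 4, 11],
   [8, 8, 10, 5, 5, 11, 9, 9, 11, 4, 4, 10],
   [8, 5, 5, 9, 11, 8, 4, 8, 4, 8, 4, 10],
   [5, 9, 5, 9, 5, 9, 11, 8, 4, 4, 9, 10],
   [5, 5, 11, 8, 8, 11, 5, 5, 10, 9, 9, 10],
   [2, 11, 4, 11, 5, 6, 10, 5, 11],
   [2, 11, 4, 11, 5, 6, 10, 5, 10],
   [6, 11, 4, 2, 5, 6, 3, 10, 7, 11],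
   [5, 10, 6, 5, 2, 5, 3, 4, 2, 10],
   [5, 10, 5, 10, 4, 11, 4, 11],
   [4, 10, 5, 10, 5, 11, 4, 11],
   [4, 10, 5, 11, 5, 11, 4, 10],
   [11, 5, 11, 6, 11, 4, 10, 2, 5],
   [9, 4, 9, 4, 9, 11, 4, 11, 4, 10, 4, 10],
   [5, 8, 11, 9, 10, 8, 8, 8, 11, 5, 9],
   [4, 9, 4, 8, 5, 9, 11, 5, 11, 4, 8],
   [4, 10, 5, 5, 11, 5, 9, 11, 5, 5, 10, 8],
   [7, 2, 7, 2, 10, 2, 11, 3, 11, 4],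
   [4, 9, 5, 8, 5, 9, 11, 4, 11, 5, 8],
   [9, 3, 1, 2, 4, 4, 9, 9],
   [4, 8, 10, 5, 9, 5, 5, 8, 5, 11, 9, 4],
   [4, 7, 0, 6, 6, 9, 6, 6],
   [3, 11, 5, 10, 7, 10, 4, 11, 4],
   [2, 1, 7, 2, 8, 4, 1, 2],
   [10, 3, 11, 5, 3, 6, 11, 2, 4, 4],
   [4, 7, 11, 5, 11, 3, 4, 7, 4, 6],
   [9, 4, 11, 4, 10, 8, 5, 9, 5, 8, 4],
   [10, 5, 5, 11, 8, 8, 11, 5, 5, 10, 9, 9],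
   [8, 11, 4, 4, 10, 9, 9, 10, 4, 4, 11, 8],
   [6, 11, 5, 5, 3, 6, 5, 10, 7, 11]]

/-- Some rules. -/
def mclCertR35 : List (List ℕ) :=
  [[3, 8, 1, 1, 7, 9, 7, 1],
   [6, 2, 0, 6, 6, 5, 9, 3],
   [3, 8, 0, 5, 1, 8, 2, 6],
   [6, 5, 6, 4, 0, 5, 8, 5],
   [8, 11, 5, 5, 10, 9, 5, 10, 5, 5, 11, 4],
   [11, 5, 3, 6, 11, 2, 4, 4, 10, 3],
   [10, 4, 8, 5, 8, 5, 8, 5, 5, 11, 5, 5],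
   [9, 4, 8, 4, 9, 5, 11, 5, 11, 8, 5],
   [3, 1, 1, 1, 3, 1, 2, 1, 1, 10, 3, 0, 0, 2, 1, 2, 0, 0, 0, 11, 3, 1, 1],
   [3, 7, 8, 6, 2, 1, 6],
   [2, 11, 3, 11, 7, 2, 5, 10],
   [3, 5, 11, 6, 4, 3, 10, 4, 2, 11],
   [4, 11, 5, 11, 5, 10, 4, 10],
   [9, 4, 9, 4, 9, 11, 5, 11, 4, 10, 5, 10],
   [4, 11, 5, 11, 8, 4, 9, 4, 8, 5, 9],
   [9, 5, 5, 8, 11, 5, 9, 5, 5, 8, 5, 10],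
   [5, 5, 10, 9, 9, 4, 9, 4, 9, 4, 8, 11],
   [8, 4, 9, 9, 4, 9, 9, 5, 10, 5, 11],
   [8, 4, 9, 9, 4, 9, 9, 5, 10, 5, 10],
   [10, 4, 11, 5, 5, 11, 5, 10, 4, 4],
   [5, 11, 5, 10, 5, 10, 8, 5, 8, 5, 8, 11],
   [11, 3, 10, 7, 2, 5, 11, 2],
   [3, 11, 4, 2, 11, 3, 5, 10, 6, 4],
   [5, 8, 4, 8, 4, 8, 10, 8, 5, 5, 9, 11],
   [4, 8, 5, 8, 5, 8, 5, 5, 11, 5, 5, 10],
   [5, 9, 5, 5, 8, 5, 11, 9, 5, 5, 8, 10],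
   [7, 2, 4, 10, 2, 11, 5, 5, 3, 10],
   [4, 10, 2, 10, 5, 11, 5, 6, 11],
   [4, 10, 2, 11, 5, 11, 5, 6, 10],
   [5, 8, 5, 8, 4, 10, 5, 5, 11, 5, 5, 8],
   [0, 3, 1, 1, 2, 11, 0, 0, 3, 0, 2, 0, 0, 0, 2, 0, 0, 2, 10, 1, 1, 1, 3],
   [2, 11, 4, 11, 3, 6, 6, 3, 7, 5],
   [2, 1, 4, 1, 9, 0, 7, 1],
   [7, 9, 9, 5, 0, 8, 1, 5],
   [2, 8, 0, 7, 0, 6, 8, 0],
   [0, 4, 3, 7, 0, 8, 6, 9],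
   [8, 5, 8, 4, 4, 11, 5, 5, 11, 4, 8, 5],
   [3, 5, 2, 4, 3, 4, 7, 10, 4, 11],
   [3, 4, 7, 4, 6, 4, 7, 11, 5, 11],
   [9, 9, 1, 4, 2, 9, 2, 4],
   [4, 8, 4, 11, 9, 9, 9, 10, 8, 11, 9],
   [4, 8, 5, 9, 5, 8, 4, 9, 11, 4, 11],
   [4, 8, 5, 9, 5, 8, 4, 9, 11, 4, 10],
   [4, 4, 10, 5, 9, 10, 5, 5, 11, 8, 4, 11],
   [11, 3, 11, 7, 2, 5, 10, 2],
   [10, 5, 8, 10, 5, 5, 11, 9, 4, 11, 5, 5],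
   [6, 11, 5, 11, 3, 3, 5, 10, 4, 10],
   [3, 3, 11, 3, 11, 4, 3, 6, 10],
   [2, 0, 6, 6, 5, 9, 3, 6],
   [4, 2, 7, 11, 7, 11, 7, 2, 6, 10],
   [4, 2, 7, 10, 7, 11, 7, 2, 6, 11],
   [5, 9, 5, 9, 5, 9, 11, 8, 5, 5, 9, 10],
   [0, 3, 10, 0, 0, 2, 0, 0, 2, 1, 2, 1, 1, 3, 11, 1, 3, 0, 3, 0, 3, 1, 3],
   [10, 4, 4, 11, 4, 9, 4, 9, 5, 5, 5, 9],
   [11, 4, 10, 4, 8, 8, 5, 8, 8, 5, 9],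
   [3, 6, 2, 0, 6, 6, 5, 9],
   [3, 5, 7, 5, 7, 11, 7, 11, 6, 11],
   [8, 4, 4, 9, 10, 9, 5, 9, 5, 9, 4, 10],
   [5, 9, 5, 8, 10, 9, 10, 9, 9, 9, 9, 11],
   [3, 11, 7, 3, 3, 5, 10, 2, 11],
   [3, 11, 7, 3, 3, 5, 10, 2, 10],
   [5, 5, 10, 4, 9, 10, 5, 5, 11, 8, 5, 11],
   [5, 8, 4, 11, 5, 5, 10, 4, 4, 8, 5, 8],
   [3, 5, 9, 6, 5, 7, 8, 0]]

/-- Some rules. -/
def mclCertR36 : List (List ℕ) :=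
  [[0, 6, 8, 2, 8, 8, 8, 0],
   [5, 11, 4, 10, 5, 10, 9, 4, 9, 4, 9, 11],
   [3, 1, 7, 2, 8, 4, 1],
   [2, 1, 1, 1, 6, 5, 1, 8],
   [11, 2, 6, 5, 7, 10, 2, 6, 5, 7],
   [5, 11, 4, 4, 10, 4, 8, 10, 5, 5, 11, 9],
   [4, 10, 2, 10, 3, 11, 7, 2, 4, 4],
   [8, 4, 9, 4, 8, 5, 9, 11, 5, 11, 4],
   [5, 9, 4, 9, 4, 9, 5, 5, 11, 4, 4, 10],
   [8, 1, 1, 5, 1, 5, 6, 1],
   [2, 11, 3, 10, 4, 3, 6, 11],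
   [0, 4, 4, 0, 0, 5, 1, 7],
   [11, 4, 9, 5, 5, 8, 4, 10, 9, 4, 4, 8],
   [1, 3, 1, 2, 0, 3, 0, 0, 0, 3, 0, 0, 2],
   [5, 8, 5, 8, 5, 8, 11, 5, 5, 11],
   [5, 8, 5, 8, 5, 8, 11, 5, 5, 10],
   [4, 6, 1, 8, 7, 7, 7, 8],
   [6, 4, 4, 7, 11, 6, 4, 4, 7, 10],
   [6, 4, 4, 7, 10, 6, 4, 4, 7, 11],
   [5, 5, 0, 0, 5, 1, 7, 0],
   [4, 10, 8, 5, 5, 9, 11, 9, 5, 9, 5, 9],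
   [4, 4, 10, 9, 4, 9, 4, 9, 5, 5, 5, 10],
   [9, 4, 9, 5, 10, 5, 5, 11, 5, 5, 9, 4],
   [8, 11, 5, 5, 10, 9, 10, 5, 5, 11],
   [8, 10, 5, 5, 11, 9, 11, 5, 5, 10],
   [6, 4, 2, 2, 6, 4, 3],
   [5, 5, 11, 5, 8, 5, 8, 5, 8, 11],
   [5, 5, 11, 5, 8, 5, 8, 5, 8, 10],
   [7, 2, 8, 4, 1, 3, 1],
   [7, 2, 11, 7, 4, 10, 5, 3, 11],
   [5, 5, 6, 11, 4, 7, 2, 10, 7, 10],
   [1, 2, 0, 0, 0, 3, 10, 0, 0, 3, 1, 2, 1, 1, 2, 0, 0, 0, 11, 2, 0, 0, 2, 0, 3],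
   [1, 8, 6, 4, 1, 8, 4, 4],
   [11, 6, 11, 3, 6, 5, 10, 7, 4, 4],
   [10, 8, 8, 8, 11, 5, 9, 5, 8, 11, 9],
   [3, 4, 10, 2, 5, 7, 11, 5, 2, 11],
   [3, 4, 10, 2, 5, 7, 11, 5, 2, 10],
   [11, 8, 5, 9, 5, 8, 4, 9, 4, 11, 4],
   [6, 11, 4, 11, 3, 3, 5, 10, 5, 11],
   [6, 11, 4, 11, 3, 3, 5, 10, 5, 10],
   [5, 11, 4, 8, 4, 9, 4, 8, 5, 9, 11],
   [5, 11, 4, 8, 4, 9, 4, 8, 5, 9, 10],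
   [10, 4, 4, 11, 9, 4, 9, 5, 5, 5, 9, 4],
   [4, 4, 4, 10, 4, 10, 4, 11, 5, 11],
   [4, 3, 11, 4, 2, 11, 3, 5, 10, 6],
   [11, 5, 5, 10, 8, 5, 10, 4, 4, 11, 4, 9],
   [5, 7, 9, 0, 4, 4, 9, 0],
   [5, 5, 10, 8, 10, 4, 4, 11, 9, 11],
   [5, 5, 9, 11, 9, 5, 9, 5, 9, 4, 10, 8],
   [9, 11, 5, 5, 10, 8, 8, 10, 5, 5, 11, 9],
   [7, 10, 6, 4, 4, 7, 11, 6, 5, 5],
   [5, 9, 5, 9, 4, 11, 8, 5, 5, 9, 10, 9],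
   [8, 4, 9, 4, 9, 4, 9, 9, 10, 5, 5, 11],
   [8, 4, 9, 4, 9, 4, 9, 9, 11, 5, 5, 10],
   [11, 8, 8, 5, 8, 5, 8, 5, 9, 11, 5, 5],
   [8, 8, 8, 11, 5, 9, 5, 8, 10, 9, 11],
   [6, 3, 4, 2, 4, 2, 6, 11, 5, 11],
   [11, 5, 5, 10, 9, 4, 9, 5, 5, 5, 9, 4],
   [6, 8, 0, 2, 8, 0, 7, 0],
   [8, 11, 5, 5, 11, 5, 8, 5, 8, 5],
   [5, 11, 8, 4, 9, 9, 4, 9, 9, 5, 11],
   [5, 11, 8, 4, 9, 9, 4, 9, 9, 5, 10],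
   [1, 1, 11, 2, 1, 2, 0, 2, 1, 2, 1, 2, 0, 10, 2, 0, 0, 3, 0, 3, 1, 1, 3],
   [4, 8, 10, 8, 4, 4, 9, 11, 5, 8, 4, 8]]

/-- Some rules. -/
def mclCertR37 : List (List ℕ) :=
  [[9, 10, 5, 5, 11, 8, 4, 9, 4, 9, 4, 9],
   [2, 5, 5, 11, 3, 10, 5, 3, 6, 11],
   [11, 4, 8, 11, 5, 5, 10, 9, 5, 10, 4, 4],
   [5, 5, 9, 11, 5, 9, 5, 9, 5, 9, 10, 8],
   [7, 11, 6, 11, 4, 7, 2, 4, 4, 10],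
   [4, 9, 10, 5, 5, 11, 8, 5, 11, 4, 4, 10],
   [9, 9, 6, 9, 2, 6, 8, 0],
   [9, 9, 11, 8, 10, 9, 4, 8, 4, 11, 9],
   [4, 9, 4, 9, 5, 5, 11, 5, 5, 10, 5, 9],
   [0, 3, 1, 1, 2, 1, 1, 1, 2, 1, 3, 0, 2],
   [4, 11, 6, 6, 3, 5, 2, 4, 7, 10],
   [4, 7, 2, 7, 2, 10, 2, 11, 3, 11],
   [11, 6, 3, 5, 10, 7, 3, 6, 11, 6],
   [3, 10, 5, 2, 7, 4, 3, 11, 2, 10],
   [4, 3, 11, 4, 11, 7, 10, 5, 10],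
   [4, 3, 11, 4, 10, 7, 10, 5, 11],
   [0, 3, 0, 2, 1, 1, 11, 2, 1, 1, 1, 3, 0, 2, 1, 3, 1, 1, 3, 10, 1, 1, 1, 3, 0],
   [7, 11, 6, 4, 4, 7, 10, 6, 5, 5],
   [7, 11, 6, 4, 4, 7, 10, 6, 4, 4],
   [2, 1, 3, 1, 1, 3, 10, 1, 1, 1, 3, 0, 0, 3, 0, 2, 1, 1, 11, 2, 1, 1, 1, 3, 0],
   [5, 11, 3, 4, 2, 4, 3, 5, 7, 11],
   [5, 11, 3, 4, 2, 4, 3, 5, 7, 10],
   [1, 1, 1, 2, 1, 3, 0, 2, 0, 3, 1, 1, 2],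
   [1, 2, 0, 10, 2, 0, 0, 3, 0, 3, 1, 1, 3, 1, 1, 11, 2, 1, 2, 0, 2, 1, 2],
   [3, 11, 5, 2, 7, 4, 3, 10, 2, 11],
   [10, 6, 2, 4, 7, 7, 7, 3, 10, 5],
   [2, 6, 6, 6, 5, 3, 7, 10, 4, 10],
   [1, 11, 2, 1, 2, 0, 2, 1, 2, 1, 2, 0, 10, 2, 0, 0, 3, 0, 3, 1, 1, 3, 1],
   [1, 7, 0, 4, 4, 0, 0, 5],
   [9, 5, 11, 5, 5, 10, 4, 4, 9, 4, 9, 4],
   [9, 5, 5, 8, 10, 5, 9, 5, 5, 8, 5, 11],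
   [2, 11, 7, 4, 10, 5, 3, 11, 7],
   [11, 5, 5, 3, 10, 7, 2, 4, 11, 2],
   [0, 0, 0, 2, 0, 0, 2, 10, 1, 1, 1, 3, 0, 3, 1, 1, 2, 11, 0, 0, 3, 0, 2],
   [5, 1, 7, 0, 4, 4, 0, 0],
   [11, 6, 11, 4, 7, 2, 4, 4, 10, 7],
   [0, 11, 3, 1, 1, 3, 1, 1, 1, 3, 1, 2, 1, 1, 10, 3, 0, 0, 2, 1, 2, 0, 0],
   [7, 0, 4, 4, 0, 0, 5, 1],
   [3, 10, 0, 0, 2, 0, 0, 2, 1, 2, 1, 1, 3, 11, 1, 3, 0, 3, 0, 3, 1, 3, 0],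
   [11, 8, 4, 8, 4, 8, 4, 10, 8, 4, 4, 9],
   [3, 1, 3, 0, 3, 10, 0, 0, 2, 0, 0, 2, 1, 2, 1, 1, 3, 11, 1, 3, 0, 3, 0],
   [7, 7, 7, 3, 5, 3, 7, 10, 4, 11],
   [7, 7, 7, 3, 5, 3, 7, 10, 4, 10],
   [2, 11, 3, 11, 2, 5, 6, 3, 4, 10],
   [2, 11, 3, 10, 2, 5, 6, 3, 4, 11],
   [9, 4, 8, 5, 9, 11, 5, 11, 4, 8, 4],
   [1, 1, 1, 3, 1, 3, 1, 1, 2, 1, 2, 0, 0, 2],
   [5, 6, 10, 4, 11, 2, 11, 5, 11],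
   [11, 5, 5, 11, 3, 10, 4, 4, 10, 2],
   [11, 9, 5, 5, 8, 10, 9, 5, 9, 4, 9, 5],
   [4, 8, 11, 9, 5, 5, 8, 11, 4, 8, 5, 8],
   [3, 11, 5, 5, 11, 2, 10, 4, 4, 10],
   [3, 11, 5, 5, 10, 2, 10, 4, 4, 11],
   [9, 11, 9, 5, 9, 5, 9, 4, 10, 8, 4, 4],
   [11, 9, 5, 9, 4, 9, 5, 10, 9, 4, 4, 8],
   [3, 1, 1, 2, 11, 0, 0, 3, 0, 2, 0, 0, 0, 2, 0, 0, 2, 10, 1, 1, 1, 3, 0],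
   [2, 10, 1, 1, 1, 3, 0, 3, 1, 1, 2, 11, 0, 0, 3, 0, 2, 0, 0, 0, 2, 0, 0],
   [4, 4, 4, 8, 5, 8, 5, 8, 11, 5, 5, 11],
   [10, 2, 6, 5, 7, 11, 2, 6, 5, 7],
   [5, 10, 4, 4, 9, 4, 9, 4, 9, 5, 11, 5],
   [4, 10, 4, 4, 9, 4, 9, 4, 9, 5, 11, 4],
   [4, 10, 8, 4, 9, 5, 8, 5, 9, 5, 11],
   [5, 11, 7, 11, 4, 10, 4, 3, 10],
   [11, 6, 5, 5, 7, 10, 6, 5, 5, 7]]

/-- Some rules. -/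
def mclCertR38 : List (List ℕ) :=
  [[1, 1, 10, 3, 0, 0, 2, 1, 2, 0, 0, 0, 11, 3, 1, 1, 3, 1, 1, 1, 3, 1, 2],
   [4, 8, 4, 9, 4, 8, 5, 9, 11, 5, 11],
   [5, 9, 5, 5, 8, 5, 10, 9, 5, 5, 8, 11],
   [0, 3, 1, 1, 3, 1, 1, 11, 2, 1, 2, 0, 2, 1, 2, 1, 2, 0, 10, 2, 0, 0, 3],
   [5, 7, 11, 6, 5, 5, 7, 10, 6, 5],
   [2, 7, 4, 3, 5, 11, 7, 11, 6, 11],
   [2, 5, 11, 5, 11, 6, 10, 4, 10],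
   [2, 5, 11, 5, 10, 6, 10, 4, 11],
   [7, 10, 6, 10, 4, 2, 5, 6, 3, 10],
   [11, 5, 11, 3, 3, 5, 10, 4, 11, 6],
   [1, 2, 1, 1, 10, 3, 0, 0, 2, 1, 2, 0, 0, 0, 11, 3, 1, 1, 3, 1, 1, 1, 3],
   [5, 9, 4, 11, 8, 5, 5, 9, 10, 9, 5, 9],
   [9, 9, 9, 11, 5, 9, 5, 8, 10, 9, 10, 9],
   [11, 4, 11, 9, 4, 9, 9, 4, 8, 4, 9],
   [4, 4, 6, 11, 4, 7, 2, 10, 7, 10],
   [8, 8, 8, 11, 5, 9, 5, 8, 10, 9, 10],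
   [1, 1, 1, 3, 0, 0, 3, 0, 2, 1, 1, 11, 2, 1, 1, 1, 3, 0, 2, 1, 3, 1, 1, 3, 10],
   [4, 10, 6, 4, 3, 11, 5, 2, 11, 3],
   [5, 11, 8, 5, 9, 5, 8, 8, 5, 8, 10],
   [2, 1, 1, 10, 3, 0, 0, 2, 1, 2, 0, 0, 0, 11, 3, 1, 1, 3, 1, 1, 1, 3, 1],
   [11, 4, 2, 5, 6, 3, 10, 7, 11, 6],
   [1, 1, 1, 3, 0, 2, 1, 3, 1, 1, 3, 10, 1, 1, 1, 3, 0, 0, 3, 0, 2, 1, 1, 11, 2],
   [0, 0, 0, 11, 2, 0, 0, 2, 0, 3, 1, 2, 0, 0, 0, 3, 10, 0, 0, 3, 1, 2, 1, 1, 2],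
   [11, 4, 8, 11, 4, 4, 10, 9, 5, 10, 4, 4],
   [10, 4, 4, 10, 5, 11, 5, 5, 11, 4],
   [11, 7, 4, 10, 5, 11, 3, 11, 4],
   [2, 0, 0, 0, 3, 10, 0, 0, 3, 1, 2, 1, 1, 2, 0, 0, 0, 11, 2, 0, 0, 2, 0, 3, 1],
   [11, 3, 10, 4, 3, 6, 11, 2],
   [5, 10, 9, 5, 5, 8, 11, 9, 5, 9, 4, 9],
   [5, 11, 8, 5, 9, 4, 8, 4, 9, 5, 10],
   [3, 6, 10, 6, 10, 6, 3, 5, 11, 7],
   [11, 8, 4, 9, 9, 4, 9, 9, 5, 11, 5],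
   [11, 5, 9, 5, 8, 10, 9, 10, 9, 9, 9, 9],
   [5, 8, 5, 8, 10, 4, 4, 10, 5, 8],
   [10, 2, 4, 11, 5, 6, 11, 3, 6],
   [9, 4, 10, 8, 4, 4, 9, 10, 9, 5, 9, 5],
   [5, 1, 7, 0, 6, 9, 4, 0],
   [0, 0, 2, 0, 0, 2, 1, 2, 1, 1, 3, 11, 1, 3, 0, 3, 0, 3, 1, 3, 0, 3, 10],
   [3, 11, 4, 2, 10, 3, 5, 11, 6, 4],
   [1, 1, 3, 1, 2, 1, 1, 10, 3, 0, 0, 2, 1, 2, 0, 0, 0, 11, 3, 1, 1, 3, 1],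
   [11, 5, 8, 11, 5, 5, 10, 9, 4, 10, 4, 4],
   [7, 4, 11, 4, 10, 3, 10, 5, 11],
   [7, 4, 11, 4, 10, 3, 10, 5, 10],
   [4, 2, 5, 6, 3, 10, 7, 10, 6, 11],
   [1, 1, 4, 4, 3, 0, 9, 7],
   [5, 6, 11, 4, 10, 2, 10, 5, 11],
   [1, 3, 0, 3, 0, 3, 1, 3, 0, 3, 10, 0, 0, 2, 0, 0, 2, 1, 2, 1, 1, 3, 11],
   [11, 5, 5, 11, 8, 5, 8, 5, 8, 5],
   [11, 8, 5, 5, 9, 10, 8, 4, 8, 4, 8, 4],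
   [0, 0, 3, 0, 2, 0, 0, 0, 2, 0, 0, 2, 10, 1, 1, 1, 3, 0, 3, 1, 1, 2, 11],
   [1, 1, 1, 3, 1, 2, 1, 1, 10, 3, 0, 0, 2, 1, 2, 0, 0, 0, 11, 3, 1, 1, 3],
   [4, 4, 10, 4, 8, 5, 8, 5, 8, 5, 5, 11],
   [2, 0, 0, 0, 2, 0, 0, 2, 10, 1, 1, 1, 3, 0, 3, 1, 1, 2, 11, 0, 0, 3, 0],
   [11, 5, 2, 7, 4, 3, 10, 2, 11, 3],
   [5, 10, 7, 5, 5, 11, 6, 11, 3, 6],
   [5, 9, 4, 10, 8, 5, 5, 9, 11, 9, 5, 9],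
   [5, 5, 10, 4, 8, 5, 8, 5, 8, 5, 5, 11],
   [9, 4, 9, 4, 9, 4, 11, 5, 5, 11],
   [4, 4, 10, 9, 4, 10, 5, 5, 11, 5, 8, 11],
   [3, 11, 3, 11, 4, 3, 6, 10, 3],
   [10, 6, 3, 5, 11, 7, 3, 6, 10, 6],
   [4, 10, 2, 10, 5, 5, 11, 3, 11, 4],
   [4, 4, 8, 4, 10, 9, 4, 4, 8, 11, 4, 9],
   [10, 5, 9, 4, 9, 4, 9, 5, 5, 11, 4, 4]]

/-- Some rules. -/
def mclCertR39 : List (List ℕ) :=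
  [[9, 11, 5, 5, 10, 8, 4, 10, 5, 5, 11, 5],
   [3, 6, 11, 3, 3, 4, 10, 5, 6, 11],
   [2, 5, 1, 8, 7, 9, 1, 6],
   [8, 1, 2, 6, 9, 4, 0, 6],
   [5, 5, 10, 2, 10, 5, 5, 11, 3, 11],
   [6, 5, 10, 7, 5, 5, 11, 6, 11, 3],
   [11, 8, 11, 9, 4, 8, 4, 10, 9, 9, 9],
   [3, 5, 5, 2, 10, 3, 4, 4, 2, 11],
   [3, 3, 4, 10, 5, 6, 11, 3, 6, 11],
   [10, 7, 4, 4, 11, 6, 11, 3, 6, 5],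
   [4, 8, 4, 8, 11, 8, 5, 5, 9, 11, 5, 8],
   [2, 1, 1, 11, 2, 1, 1, 1, 3, 0, 2, 1, 3, 1, 1, 3, 10, 1, 1, 1, 3, 0, 0, 3, 0],
   [5, 5, 5, 10, 4, 4, 10, 5, 11, 5, 5, 11],
   [6, 11, 5, 10, 2, 5, 11, 4, 11],
   [2, 11, 3, 4, 4, 2, 10, 3, 4, 4],
   [3, 5, 5, 2, 10, 3, 5, 5, 2, 11],
   [7, 10, 4, 11, 4, 3, 11, 5, 10],
   [7, 11, 4, 10, 4, 3, 11, 5, 11],
   [11, 2, 11, 3, 10, 7, 2, 4, 4, 4],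
   [8, 8, 11, 5, 5, 10, 9, 9, 10, 5, 5, 11],
   [8, 8, 10, 5, 5, 11, 9, 9, 11, 5, 5, 10],
   [4, 10, 5, 11, 5, 11, 5, 5, 5, 10],
   [6, 11, 2, 7, 4, 3, 5, 10, 7, 10],
   [9, 5, 8, 5, 8, 5, 8, 8, 10, 4, 4, 11],
   [9, 5, 8, 5, 8, 5, 8, 8, 11, 4, 4, 10],
   [8, 2, 2, 8, 8, 7, 2, 1],
   [10, 4, 4, 11, 9, 11, 5, 5, 10, 8],
   [5, 11, 3, 3, 5, 10, 4, 10, 6, 11],
   [11, 8, 4, 4, 9, 10, 5, 9, 5, 9, 5, 9],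
   [8, 5, 8, 5, 8, 11, 5, 5, 11, 4, 4, 4],
   [11, 5, 5, 10, 5, 9, 10, 5, 5, 11, 8, 4],
   [11, 3, 5, 11, 2, 5, 7, 10, 4, 2],
   [11, 3, 4, 11, 2, 5, 7, 10, 5, 2],
   [5, 9, 5, 8, 4, 9, 11, 4, 10, 4, 8],
   [1, 3, 1, 1, 11, 2, 1, 2, 0, 2, 1, 2, 1, 2, 0, 10, 2, 0, 0, 3, 0, 3, 1],
   [1, 3, 1, 2, 1, 1, 10, 3, 0, 0, 2, 1, 2, 0, 0, 0, 11, 3, 1, 1, 3, 1, 1],
   [11, 9, 5, 5, 8, 10, 4, 9, 5, 5, 8, 4],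
   [5, 5, 11, 9, 5, 8, 5, 8, 5, 8, 8, 10],
   [5, 5, 10, 9, 5, 8, 5, 8, 5, 8, 8, 11],
   [5, 2, 11, 3, 5, 5, 2, 10, 3, 5],
   [11, 4, 10, 2, 10, 5, 11, 5, 6],
   [3, 6, 3, 6, 5, 10, 2, 11, 3, 11],
   [3, 6, 3, 6, 5, 11, 2, 10, 3, 10],
   [5, 5, 11, 3, 10, 5, 3, 6, 11, 2],
   [4, 4, 11, 4, 8, 5, 8, 5, 8, 4, 4, 10],
   [5, 5, 11, 4, 9, 4, 9, 4, 9, 11],
   [5, 5, 11, 4, 9, 5, 5, 5, 9, 4, 9, 10],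
   [10, 4, 2, 11, 3, 5, 11, 6, 4, 3],
   [1, 2, 0, 6, 6, 1, 3],
   [11, 5, 10, 2, 10, 4, 11, 5, 6],
   [10, 5, 5, 6, 11, 4, 7, 2, 10, 7],
   [0, 7, 0, 6, 8, 0, 2, 8],
   [11, 5, 5, 10, 2, 10, 5, 5, 11, 3],
   [1, 7, 0, 6, 9, 4, 0, 5],
   [5, 11, 8, 5, 9, 5, 8, 8, 5, 8, 11],
   [11, 5, 5, 5, 10, 4, 10, 5, 11, 5],
   [4, 7, 5, 6, 4, 2, 10, 5, 10, 6],
   [11, 6, 11, 2, 7, 4, 3, 5, 10, 7],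
   [5, 5, 7, 10, 6, 5, 5, 7, 11, 6],
   [2, 6, 1, 2, 9, 9, 9, 6],
   [2, 0, 0, 2, 0, 3, 1, 2, 0, 0, 0, 3, 10, 0, 0, 3, 1, 2, 1, 1, 2, 0, 0, 0, 11],
   [3, 0, 3, 1, 3, 0, 3, 10, 0, 0, 2, 0, 0, 2, 1, 2, 1, 1, 3, 11, 1, 3, 0],
   [9, 5, 8, 5, 8, 5, 8, 8, 10, 5, 5, 11],
   [9, 5, 8, 5, 8, 5, 8, 8, 11, 5, 5, 10]]

/-- Some rules. -/
def mclCertR40 : List (List ℕ) :=
  [[8, 4, 8, 11, 5, 11, 8, 8, 4, 8, 8],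
   [10, 3, 11, 5, 5, 11, 2, 10, 4, 4],
   [3, 7, 2, 7, 2, 7, 3],
   [10, 6, 10, 3, 6, 5, 11, 7, 5, 5],
   [11, 4, 2, 5, 6, 3, 10, 7, 10, 6],
   [5, 10, 5, 6, 11, 4, 11, 2, 10],
   [11, 4, 7, 2, 4, 4, 10, 7, 11, 6],
   [11, 4, 8, 5, 8, 5, 8, 4, 4, 11, 5, 5],
   [2, 0, 5, 9, 2, 2, 6, 0],
   [4, 10, 9, 9, 9, 11, 8, 11, 9, 4, 8],
   [11, 9, 5, 5, 8, 11, 4, 8, 5, 8, 4, 8],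
   [8, 8, 5, 8, 5, 8, 5, 9, 10, 4, 4, 11],
   [8, 8, 5, 8, 5, 8, 5, 9, 11, 4, 4, 10],
   [10, 5, 10, 6, 2, 4, 7, 7, 7, 3],
   [2, 10, 5, 5, 3, 11, 7, 2, 4, 10],
   [2, 10, 4, 4, 3, 11, 7, 2, 4, 11],
   [11, 4, 11, 3, 11, 5, 10, 7, 4],
   [10, 8, 5, 8, 5, 8, 5, 11, 4, 4],
   [6, 11, 4, 11, 2, 10, 5, 10, 5],
   [10, 3, 5, 5, 2, 11, 3, 5, 5, 2],
   [2, 6, 5, 9, 3, 9, 0, 6],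
   [10, 4, 2, 7, 11, 7, 11, 7, 2, 6],
   [11, 5, 10, 7, 4, 11, 4, 11, 3],
   [9, 4, 4, 8, 5, 11, 9, 5, 5, 8, 10, 5],
   [11, 4, 4, 10, 8, 8, 10, 5, 5, 11, 9, 9],
   [8, 4, 8, 8, 8, 4, 8, 11, 5, 11, 8],
   [4, 11, 8, 4, 9, 5, 8, 5, 9, 5, 11],
   [4, 11, 8, 4, 9, 5, 8, 5, 9, 5, 10],
   [0, 5, 1, 7, 0, 4, 4, 0],
   [5, 5, 10, 4, 8, 10, 5, 5, 11, 9, 5, 11],
   [5, 5, 11, 4, 8, 11, 5, 5, 10, 9, 5, 10],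
   [10, 5, 2, 7, 4, 3, 11, 2, 11, 3],
   [9, 5, 9, 10, 8, 5, 5, 9, 11, 5, 9, 5],
   [3, 10, 4, 11, 7, 4, 11, 5, 10],
   [11, 5, 5, 10, 8, 4, 9, 4, 9, 4, 9, 9],
   [10, 5, 9, 5, 5, 8, 5, 11, 9, 5, 5, 8],
   [9, 9, 10, 5, 5, 11, 8, 8, 11, 5, 5, 10],
   [9, 9, 11, 5, 5, 10, 8, 8, 10, 5, 5, 11],
   [4, 8, 11, 5, 11, 8, 8, 4, 8, 8, 8],
   [5, 8, 4, 8, 11, 9, 5, 5, 8, 11, 4, 8],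
   [2, 2, 10, 7, 2, 10, 7, 4, 11, 5],
   [2, 2, 10, 7, 2, 5, 11, 2, 11],
   [2, 2, 11, 7, 2, 5, 10, 2, 10],
   [7, 10, 5, 10, 3, 4, 2, 4, 3, 5],
   [3, 11, 6, 4, 7, 3, 10, 6, 4, 7],
   [4, 10, 4, 11, 5, 11, 4, 4, 4, 10],
   [10, 5, 9, 5, 9, 5, 9, 11, 8, 4, 4, 9],
   [9, 11, 4, 11, 4, 8, 5, 9, 5, 8, 4],
   [10, 6, 10, 4, 2, 5, 6, 3, 10, 7],
   [4, 4, 9, 4, 9, 4, 9, 5, 11, 4, 4, 10],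
   [10, 5, 10, 8, 4, 9, 4, 8, 5, 9, 4],
   [5, 9, 10, 8, 4, 8, 4, 8, 4, 11, 8, 5],
   [5, 8, 5, 8, 10, 4, 4, 11, 5, 8],
   [10, 4, 10, 9, 5, 9, 9, 9, 5, 9, 9],
   [5, 5, 10, 8, 8, 10, 5, 5, 11, 9, 9, 11],
   [4, 8, 11, 5, 5, 10, 9, 5, 10, 5, 5, 11],
   [10, 5, 6, 10, 5, 11, 2, 11, 4],
   [10, 5, 11, 3, 4, 2, 4, 3, 5, 7],
   [8, 5, 9, 10, 5, 11, 4, 8, 4, 9, 4],
   [10, 5, 5, 11, 5, 8, 5, 8, 5, 8],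
   [11, 3, 4, 11, 6, 4, 3, 10, 5, 2],
   [5, 10, 8, 5, 9, 4, 8, 4, 9, 5, 11],
   [4, 10, 6, 4, 2, 5, 3, 5, 2, 10],
   [11, 5, 8, 11, 5, 5, 10, 9, 4, 10, 5, 5]]

/-- Some rules. -/
def mclCertR41 : List (List ℕ) :=
  [[11, 7, 2, 10, 7, 4, 11, 5, 3],
   [4, 11, 6, 11, 5, 11, 2, 5, 10],
   [4, 2, 5, 3, 5, 2, 11, 4, 11, 6],
   [6, 6, 6, 5, 3, 7, 11, 4, 11, 2],
   [0, 0, 0, 11, 3, 1, 1, 3, 1, 1, 1, 3, 1, 2, 1, 1, 10, 3, 0, 0, 2, 1, 2],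
   [3, 6, 10, 2, 4, 11, 5, 6, 10],
   [2, 5, 7, 10, 5, 2, 11, 3, 4, 11],
   [2, 5, 7, 11, 5, 2, 11, 3, 4, 10],
   [3, 6, 5, 10, 7, 4, 4, 11, 6, 11],
   [10, 9, 5, 9, 4, 9, 5, 11, 9, 4, 4, 8],
   [7, 2, 6, 11, 4, 2, 7, 10, 7, 11],
   [4, 11, 5, 10, 5, 10, 4, 11],
   [5, 5, 8, 10, 9, 5, 9, 4, 9, 5, 11, 9],
   [3, 11, 4, 11, 7, 4, 10, 5, 11],
   [3, 11, 4, 11, 7, 4, 10, 5, 10],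
   [4, 10, 5, 6, 10, 5, 11, 2, 11],
   [5, 10, 7, 4, 4, 11, 6, 11, 3, 6],
   [6, 10, 3, 3, 11, 3, 11, 4, 3],
   [5, 8, 4, 8, 11, 9, 4, 4, 8, 10, 4, 8],
   [11, 5, 11, 7, 4, 10, 4, 11, 3],
   [2, 4, 10, 5, 6, 11, 3, 6, 11],
   [3, 4, 6, 2, 7, 7, 2, 10, 5, 11],
   [11, 5, 5, 9, 4, 9, 4, 9, 5, 10, 5, 5],
   [4, 4, 8, 5, 10, 9, 4, 4, 8, 11, 5, 9],
   [4, 4, 10, 8, 10, 4, 4, 11, 9, 11],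
   [4, 4, 11, 8, 11, 4, 4, 10, 9, 10],
   [5, 6, 11, 5, 11, 3, 3, 10, 4, 10],
   [6, 4, 2, 5, 3, 5, 2, 10, 4, 11],
   [4, 11, 5, 6, 11, 3, 6, 10, 2],
   [4, 2, 10, 5, 11, 6, 5, 2, 5, 3],
   [5, 5, 11, 3, 11, 4, 4, 10, 2, 10],
   [9, 5, 10, 4, 4, 11, 5, 5, 9, 4, 9, 4],
   [4, 8, 4, 10, 8, 5, 5, 9, 11, 8, 4, 8],
   [2, 0, 6, 1, 3, 0, 0, 0],
   [1, 6, 0, 8, 7, 4, 8, 7],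
   [10, 4, 4, 8, 5, 8, 5, 8, 4, 11, 4, 4],
   [9, 4, 9, 4, 9, 5, 11, 5, 5, 10, 4, 4],
   [11, 5, 11, 5, 6, 10, 4, 11, 2],
   [8, 8, 5, 9, 11, 4, 11, 4, 8, 8, 5],
   [7, 4, 4, 11, 6, 11, 3, 6, 5, 10],
   [6, 11, 4, 7, 2, 4, 4, 10, 7, 11],
   [6, 11, 4, 7, 2, 4, 4, 10, 7, 10],
   [4, 2, 5, 6, 3, 10, 7, 10, 6, 10],
   [11, 5, 11, 5, 10, 4, 10, 4],
   [2, 7, 2, 10, 2, 11, 3, 11, 4, 7],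
   [8, 5, 8, 5, 8, 4, 10, 5, 5, 11, 5, 5],
   [6, 11, 2, 7, 4, 3, 5, 10, 7, 11],
   [5, 9, 5, 9, 10, 8, 4, 4, 9, 11, 5, 9],
   [4, 11, 5, 5, 11, 9, 5, 5, 5, 9, 4, 9],
   [8, 5, 8, 5, 8, 5, 9, 11, 4, 4, 10, 8],
   [0, 2, 0, 7, 7, 1, 3],
   [3, 5, 5, 2, 11, 3, 5, 5, 2, 10],
   [8, 4, 9, 5, 8, 5, 9, 5, 11, 4, 11],
   [9, 9, 11, 5, 9, 5, 8, 10, 9, 10, 9, 9],
   [5, 9, 5, 8, 8, 5, 8, 11, 5, 11, 8],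
   [2, 11, 5, 11, 5, 6, 10, 4, 11],
   [2, 11, 5, 11, 5, 6, 10, 4, 10],
   [10, 3, 6, 11, 2, 4, 11, 5, 6],
   [4, 8, 10, 5, 5, 11, 9, 5, 11, 5, 5, 10],
   [3, 11, 5, 3, 6, 10, 2, 4, 4, 11],
   [3, 11, 5, 3, 6, 11, 2, 4, 4, 10],
   [4, 4, 8, 11, 4, 9, 5, 5, 8, 4, 10, 9],
   [4, 4, 4, 10, 5, 10, 4, 11, 4, 11],
   [8, 4, 9, 10, 8, 4, 9, 11, 8, 4, 9, 11]]

/-- Some rules. -/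
def mclCertR42 : List (List ℕ) :=
  [[4, 4, 3, 10, 7, 2, 4, 11, 2, 10],
   [9, 5, 5, 8, 11, 4, 8, 5, 8, 4, 8, 10],
   [9, 5, 5, 8, 5, 10, 9, 4, 4, 8, 11, 5],
   [11, 5, 5, 10, 8, 10, 5, 5, 11, 9],
   [8, 8, 5, 9, 4, 11, 4, 11, 8, 8, 5],
   [5, 7, 5, 6, 5, 2, 10, 4, 10, 6],
   [11, 5, 9, 5, 9, 5, 9, 10, 8, 5, 5, 9],
   [1, 3, 1, 1, 1, 3, 1, 2, 1, 1, 10, 3, 0, 0, 2, 1, 2, 0, 0, 0, 11, 3, 1],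
   [5, 7, 10, 6, 4, 4, 7, 11, 6, 5],
   [11, 5, 5, 10, 5, 8, 10, 4, 4, 11, 9, 4],
   [5, 8, 5, 8, 11, 4, 11, 5, 10, 4, 10, 8],
   [6, 4, 4, 7, 11, 6, 5, 5, 7, 10],
   [10, 4, 4, 10, 4, 11, 5, 5, 11, 5],
   [10, 5, 5, 11, 9, 11, 5, 5, 10, 8],
   [2, 10, 5, 5, 11, 3, 11, 4, 4, 10],
   [5, 5, 11, 8, 11, 5, 5, 10, 9, 10],
   [9, 10, 5, 5, 11, 8, 8, 11, 5, 5, 10, 9],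
   [10, 4, 11, 6, 11, 5, 11, 2, 5],
   [5, 10, 4, 4, 10, 5, 11, 5, 5, 11, 5, 5],
   [3, 5, 5, 2, 11, 3, 4, 4, 2, 10],
   [5, 7, 5, 7, 11, 7, 11, 6, 11, 3],
   [3, 1, 3, 1, 1, 2, 1, 2, 0, 0, 2, 1, 1, 1],
   [3, 0, 0, 2, 1, 3, 1, 2, 0, 3, 0, 0, 0],
   [10, 2, 10, 5, 5, 11, 3, 11, 4, 4],
   [9, 11, 4, 4, 10, 8, 10, 5, 5, 11],
   [9, 10, 4, 4, 11, 8, 11, 5, 5, 10],
   [9, 4, 9, 4, 9, 4, 11, 4, 4, 10],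
   [3, 10, 4, 2, 11, 3, 5, 11, 6, 4],
   [5, 11, 5, 5, 10, 5, 9, 4, 9, 4, 9, 5],
   [10, 4, 10, 4, 11, 5, 11, 5],
   [4, 4, 10, 5, 8, 5, 8, 5, 8, 10],
   [10, 2, 11, 3, 11, 5, 2, 7, 4, 3],
   [7, 2, 7, 2, 7, 2],
   [2, 1, 9, 7, 0, 0, 6],
   [4, 11, 9, 5, 9, 9, 9, 5, 9, 9, 11],
   [4, 11, 9, 5, 9, 9, 9, 5, 9, 9, 10],
   [4, 10, 4, 4, 11, 9, 4, 9, 5, 5, 5, 9],
   [4, 9, 11, 5, 5, 10, 8, 5, 10, 4, 4, 11],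
   [5, 9, 10, 5, 5, 11, 8, 4, 11, 4, 4, 10],
   [4, 4, 11, 5, 9, 4, 9, 4, 9, 4, 4, 10],
   [10, 7, 2, 4, 11, 2, 11, 4, 4, 3],
   [9, 5, 11, 5, 5, 10, 4, 8, 10, 5, 5, 11],
   [9, 5, 10, 5, 5, 11, 4, 8, 11, 5, 5, 10],
   [8, 5, 11, 5, 5, 10, 4, 9, 10, 5, 5, 11],
   [8, 5, 10, 5, 5, 11, 4, 9, 11, 5, 5, 10],
   [4, 10, 4, 3, 11, 5, 11, 7, 11],
   [4, 10, 4, 3, 11, 5, 11, 7, 10],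
   [0, 6, 8, 1, 2, 4, 4, 0],
   [0, 5, 7, 9, 0, 4, 4, 9],
   [5, 2, 5, 3, 4, 2, 11, 5, 11, 6],
   [3, 5, 11, 6, 4, 3, 11, 4, 2, 10],
   [4, 11, 3, 11, 5, 3, 6, 10, 2, 4],
   [7, 11, 6, 5, 5, 7, 10, 6, 4, 4],
   [7, 2, 10, 7, 4, 11, 5, 2, 2, 10],
   [4, 8, 5, 8, 4, 8, 11, 9, 4, 4, 8, 10],
   [4, 8, 5, 8, 4, 8, 10, 9, 4, 4, 8, 11],
   [6, 6, 6, 5, 3, 7, 10, 4, 10, 2],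
   [10, 8, 4, 10, 5, 5, 11, 5, 9, 11, 4, 4],
   [3, 11, 5, 5, 10, 2, 10, 5, 5, 11],
   [11, 5, 11, 5, 8, 5, 9, 4, 8, 4, 9],
   [1, 11, 2, 1, 1, 1, 3, 0, 2, 1, 3, 1, 1, 3, 10, 1, 1, 1, 3, 0, 0, 3, 0, 2, 1],
   [5, 5, 5, 9, 10, 4, 4, 11, 4, 9, 4, 9],
   [4, 3, 10, 4, 2, 11, 3, 5, 11, 6],
   [5, 5, 11, 9, 11, 5, 5, 10, 8, 10]]

/-- Some rules. -/
def mclCertR43 : List (List ℕ) :=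
  [[5, 5, 10, 9, 9, 10, 5, 5, 11, 8, 8, 11],
   [5, 5, 11, 9, 9, 11, 5, 5, 10, 8, 8, 10],
   [10, 2, 5, 7, 11, 4, 2, 11, 3, 5],
   [9, 5, 8, 10, 9, 11, 8, 8, 8, 11, 5],
   [4, 4, 10, 4, 4, 9, 4, 9, 4, 9, 5, 11],
   [7, 4, 10, 4, 11, 3, 11, 5, 11],
   [7, 4, 11, 4, 11, 3, 11, 5, 10],
   [11, 3, 4, 6, 2, 7, 7, 2, 10, 5],
   [7, 4, 3, 5, 11, 7, 11, 6, 11, 2],
   [4, 10, 2, 5, 11, 5, 11, 6, 11],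
   [4, 10, 2, 5, 11, 5, 11, 6, 10],
   [6, 5, 3, 0, 8, 7, 0, 6],
   [4, 10, 2, 11, 5, 5, 11, 3, 10, 4],
   [6, 2, 8, 0, 2, 7, 1],
   [4, 9, 4, 9, 4, 11, 5, 5, 11, 9],
   [5, 5, 2, 10, 3, 4, 4, 2, 11, 3],
   [9, 11, 8, 11, 9, 4, 8, 4, 10, 9, 9],
   [5, 7, 11, 2, 6, 5, 7, 10, 2, 6],
   [8, 5, 8, 8, 5, 9, 11, 4, 11, 4, 8],
   [6, 9, 5, 6, 9, 1, 7, 0],
   [3, 10, 5, 11, 7, 4, 10, 4, 10],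
   [5, 9, 4, 4, 8, 5, 11, 9, 5, 5, 8, 10],
   [5, 9, 4, 4, 8, 5, 10, 9, 5, 5, 8, 11],
   [11, 9, 5, 5, 8, 10, 5, 9, 5, 5, 8, 5],
   [9, 9, 4, 9, 4, 9, 4, 8, 10, 4, 4, 11],
   [9, 9, 4, 9, 4, 9, 4, 8, 11, 4, 4, 10],
   [11, 3, 10, 4, 4, 10, 2, 11, 5, 5],
   [6, 5, 3, 4, 2, 7, 7, 11, 5, 11],
   [6, 5, 3, 4, 2, 7, 7, 10, 5, 10],
   [9, 9, 9, 11, 8, 10, 9, 4, 8, 4, 11],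
   [9, 9, 9, 11, 8, 10, 9, 4, 8, 4, 10],
   [2, 4, 10, 5, 6, 11, 3, 6, 10],
   [11, 4, 10, 5, 6, 10, 5, 11, 2],
   [2, 10, 5, 5, 11, 3, 11, 5, 5, 10],
   [9, 5, 9, 5, 9, 4, 10, 8, 4, 4, 9, 10],
   [4, 10, 7, 11, 5, 11, 4, 3, 10],
   [6, 10, 4, 2, 5, 6, 3, 10, 7, 10],
   [10, 5, 3, 6, 11, 2, 5, 5, 11, 3],
   [10, 3, 11, 4, 2, 2, 6, 10, 2],
   [10, 8, 4, 8, 4, 8, 4, 11, 8, 5, 5, 9],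
   [6, 11, 4, 10, 2, 5, 11, 5, 11],
   [4, 3, 10, 4, 11, 7, 11, 5, 10],
   [4, 2, 10, 3, 5, 10, 2, 5, 7, 11],
   [4, 2, 10, 3, 5, 11, 2, 5, 7, 10],
   [4, 4, 10, 4, 11, 5, 5, 11, 4, 4, 4, 10],
   [6, 10, 6, 4, 6, 4, 2, 10, 7, 10],
   [5, 10, 5, 11, 4, 11, 4, 10],
   [5, 10, 7, 11, 4, 11, 4, 3, 10],
   [11, 8, 11, 5, 5, 10, 9, 10, 5, 5],
   [5, 11, 5, 5, 11, 5, 5, 5, 10, 4, 4, 10],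
   [9, 4, 9, 4, 9, 5, 5, 5, 10, 4, 4, 10],
   [10, 2, 10, 4, 11, 5, 6, 11, 5],
   [3, 4, 11, 6, 4, 3, 10, 5, 2, 11],
   [3, 4, 11, 6, 4, 3, 10, 5, 2, 10],
   [3, 11, 5, 2, 7, 4, 3, 10, 2, 10],
   [4, 4, 11, 9, 9, 4, 9, 4, 9, 4, 8, 10],
   [5, 11, 2, 5, 10, 4, 10, 6, 11],
   [4, 4, 2, 11, 3, 4, 4, 2, 10, 3],
   [4, 9, 11, 8, 4, 9, 10, 8, 4, 9, 11, 8],
   [11, 5, 11, 5, 10, 5, 10, 8, 5, 8, 5, 8],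
   [11, 1, 3, 0, 3, 0, 3, 1, 3, 0, 3, 10, 0, 0, 2, 0, 0, 2, 1, 2, 1, 1, 3],
   [4, 10, 4, 11, 5, 11, 5, 10],
   [4, 4, 11, 5, 8, 11, 5, 5, 10, 9, 4, 10],
   [4, 4, 10, 5, 8, 10, 5, 5, 11, 9, 4, 11]]

/-- Some rules. -/
def mclCertR44 : List (List ℕ) :=
  [[5, 5, 7, 10, 6, 4, 4, 7, 11, 6],
   [11, 5, 9, 4, 9, 4, 9, 4, 4, 11, 5, 5],
   [5, 3, 11, 7, 2, 4, 10, 2, 10, 5],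
   [5, 11, 5, 8, 4, 9, 9, 4, 9, 9, 11],
   [5, 11, 5, 8, 4, 9, 9, 4, 9, 9, 10],
   [5, 11, 8, 8, 4, 8, 8, 8, 4, 8, 11],
   [5, 11, 8, 8, 4, 8, 8, 8, 4, 8, 10],
   [4, 11, 5, 10, 4, 10, 8, 5, 8, 5, 8, 11],
   [11, 2, 1, 2, 0, 2, 1, 2, 1, 2, 0, 10, 2, 0, 0, 3, 0, 3, 1, 1, 3, 1, 1],
   [11, 0, 0, 3, 0, 2, 0, 0, 0, 2, 0, 0, 2, 10, 1, 1, 1, 3, 0, 3, 1, 1, 2],
   [2, 0, 0, 2, 10, 1, 1, 1, 3, 0, 3, 1, 1, 2, 11, 0, 0, 3, 0, 2, 0, 0, 0],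
   [4, 11, 5, 5, 10, 5, 9, 10, 5, 5, 11, 8],
   [5, 5, 11, 9, 4, 11, 5, 5, 10, 5, 8, 10],
   [7, 11, 5, 11, 4, 3, 10, 4, 11],
   [7, 11, 5, 11, 4, 3, 10, 4, 10],
   [11, 5, 5, 11, 5, 5, 5, 9, 4, 9, 4, 9],
   [11, 3, 10, 2, 5, 6, 3, 4, 11, 2],
   [11, 5, 5, 11, 8, 8, 5, 8, 5, 8, 5, 9],
   [1, 4, 4, 3, 0, 9, 7, 1],
   [5, 5, 11, 4, 10, 4, 4, 10, 5, 11],
   [10, 7, 10, 4, 11, 4, 3, 11, 5],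
   [9, 4, 9, 5, 11, 5, 5, 10, 4, 4, 9, 4],
   [6, 6, 3, 7, 5, 2, 11, 4, 11, 3],
   [5, 5, 11, 9, 9, 4, 9, 4, 9, 4, 8, 11],
   [5, 5, 11, 9, 9, 4, 9, 4, 9, 4, 8, 10],
   [2, 10, 4, 10, 5, 6, 11, 5, 11],
   [2, 10, 4, 11, 5, 6, 11, 5, 10],
   [8, 4, 8, 8, 8, 4, 8, 11, 5, 10, 8],
   [3, 4, 4, 2, 11, 3, 5, 5, 2, 10],
   [3, 4, 4, 2, 10, 3, 5, 5, 2, 11],
   [11, 4, 7, 2, 7, 2, 10, 2, 11, 3],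
   [8, 4, 9, 5, 8, 5, 9, 5, 11, 4, 10],
   [11, 6, 4, 2, 5, 3, 5, 2, 10, 4],
   [5, 2, 11, 3, 4, 11, 2, 5, 7, 10],
   [5, 2, 11, 3, 4, 10, 2, 5, 7, 11],
   [2, 10, 3, 11, 4, 3, 6, 10],
   [4, 4, 4, 8, 5, 8, 10, 5, 5, 11, 5, 8],
   [8, 5, 8, 8, 5, 9, 4, 11, 4, 11, 8],
   [6, 1, 2, 2, 1, 2, 0, 6],
   [4, 4, 10, 8, 8, 10, 4, 4, 11, 9, 9, 11],
   [9, 10, 5, 5, 11, 8, 11, 4, 4, 10],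
   [9, 11, 5, 5, 10, 8, 10, 4, 4, 11],
   [9, 9, 4, 9, 9, 5, 11, 5, 11, 8, 4],
   [0, 2, 0, 0, 0, 2, 0, 0, 2, 10, 1, 1, 1, 3, 0, 3, 1, 1, 2, 11, 0, 0, 3],
   [2, 8, 3, 0, 8, 7, 3, 7],
   [11, 5, 5, 3, 6, 5, 10, 7, 11, 6],
   [9, 4, 10, 5, 5, 11, 9, 4, 9, 5, 5, 5],
   [8, 4, 8, 4, 8, 4, 11, 8, 4, 4, 9, 10],
   [8, 4, 8, 4, 8, 4, 10, 8, 4, 4, 9, 11],
   [4, 11, 5, 5, 10, 5, 8, 10, 5, 5, 11, 9],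
   [4, 9, 5, 8, 5, 9, 5, 11, 4, 11, 8],
   [1, 1, 1, 3, 0, 3, 1, 1, 2, 11, 0, 0, 3, 0, 2, 0, 0, 0, 2, 0, 0, 2, 10],
   [6, 5, 7, 5, 6, 5, 2, 10, 4, 10],
   [4, 9, 4, 9, 11, 5, 11, 4, 10, 5, 10, 9],
   [9, 5, 9, 4, 9, 5, 11, 9, 4, 4, 8, 10],
   [9, 5, 9, 4, 9, 5, 10, 9, 4, 4, 8, 11],
   [5, 5, 10, 9, 4, 10, 5, 5, 11, 5, 8, 11],
   [9, 10, 8, 4, 4, 9, 11, 5, 9, 5, 9, 5],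
   [11, 5, 11, 8, 8, 4, 8, 8, 8, 4, 8],
   [4, 1, 8, 6, 4, 1, 8, 4],
   [2, 10, 4, 3, 6, 11, 2, 11, 2],
   [4, 4, 11, 5, 5, 8, 5, 8, 5, 8, 4, 10],
   [4, 2, 7, 2, 0, 4, 8, 3],
   [3, 1, 2, 0, 3, 0, 0, 0, 3, 0, 0, 2, 1]]

/-- Some rules. -/
def mclCertR45 : List (List ℕ) :=
  [[3, 1, 1, 2, 1, 1, 1, 2, 1, 3, 0, 2, 0],
   [9, 5, 9, 4, 10, 8, 5, 5, 9, 11, 9, 5],
   [10, 9, 9, 9, 9, 11, 5, 9, 5, 8, 10, 9],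
   [11, 5, 9, 5, 9, 5, 9, 10, 8, 4, 4, 9],
   [10, 4, 2, 5, 6, 3, 10, 7, 10, 6],
   [11, 2, 5, 5, 11, 3, 10, 5, 3, 6],
   [5, 9, 5, 9, 5, 9, 10, 8, 4, 4, 9, 11],
   [5, 5, 11, 8, 5, 11, 5, 5, 10, 4, 9, 10],
   [11, 4, 3, 10, 5, 11, 7, 11, 4],
   [4, 4, 2, 10, 3, 4, 4, 2, 11, 3],
   [4, 7, 2, 10, 7, 10, 4, 4, 6, 11],
   [5, 8, 5, 11, 5, 5, 11, 8, 5, 8],
   [3, 11, 4, 4, 10, 2, 10, 4, 4, 11],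
   [5, 6, 11, 4, 11, 3, 3, 10, 5, 10],
   [4, 11, 6, 6, 3, 5, 2, 4, 7, 11],
   [5, 10, 4, 11, 4, 11, 5, 10],
   [8, 5, 9, 5, 8, 4, 9, 4, 11, 4, 11],
   [8, 5, 9, 5, 8, 4, 9, 4, 11, 4, 10],
   [7, 8, 4, 6, 1, 8, 7, 7],
   [10, 5, 10, 3, 4, 6, 2, 7, 7, 2],
   [8, 10, 5, 9, 5, 5, 8, 5, 11, 9, 5, 5],
   [8, 5, 10, 5, 5, 11, 8, 5, 8, 4, 4, 4],
   [5, 11, 6, 5, 3, 4, 2, 7, 7, 11],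
   [5, 11, 6, 5, 3, 4, 2, 7, 7, 10],
   [10, 5, 5, 11, 9, 9, 4, 9, 4, 9, 4, 8],
   [6, 11, 6, 3, 5, 10, 7, 3, 6, 10],
   [9, 11, 5, 5, 10, 8, 5, 10, 5, 5, 11, 4],
   [8, 8, 11, 8, 11, 9, 4, 8, 4, 10, 8, 8],
   [5, 5, 10, 5, 9, 10, 5, 5, 11, 8, 4, 11],
   [5, 5, 11, 5, 9, 11, 5, 5, 10, 8, 4, 10],
   [3, 9, 0, 3, 6, 9, 9, 3],
   [5, 6, 11, 3, 6, 11, 2, 4, 10],
   [10, 4, 4, 11, 5, 8, 5, 8, 4, 4, 4, 8],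
   [10, 6, 4, 4, 7, 11, 6, 5, 5, 7],
   [10, 5, 5, 11, 9, 9, 11, 5, 5, 10, 8, 8],
   [11, 8, 4, 9, 10, 8, 4, 9, 11, 8, 4, 9],
   [8, 5, 8, 8, 10, 5, 5, 11, 9, 5, 8, 5],
   [10, 5, 10, 2, 5, 11, 4, 11, 6],
   [0, 0, 3, 1, 2, 1, 1, 2, 0, 0, 0, 11, 2, 0, 0, 2, 0, 3, 1, 2, 0, 0, 0, 3, 10],
   [5, 3, 6, 10, 2, 5, 5, 11, 3, 10],
   [2, 10, 2, 10, 2, 11, 2, 11, 2, 11],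
   [2, 10, 2, 11, 2, 11, 2, 11, 2, 10],
   [7, 2, 10, 7, 4, 11, 5, 3, 10],
   [5, 5, 8, 10, 5, 9, 5, 5, 8, 5, 11, 9],
   [5, 10, 2, 5, 10, 4, 11, 6, 11],
   [11, 4, 4, 3, 10, 7, 2, 4, 11, 2],
   [10, 3, 11, 2, 5, 6, 3, 4, 10, 2],
   [7, 10, 7, 2, 6, 11, 4, 2, 7, 10],
   [1, 2, 1, 2, 0, 10, 2, 0, 0, 3, 0, 3, 1, 1, 3, 1, 1, 11, 2, 1, 2, 0, 2],
   [1, 1, 2, 1, 3, 0, 2, 0, 3, 1, 1, 2, 1],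
   [3, 4, 10, 5, 6, 11, 3, 6, 11, 3],
   [2, 1, 1, 1, 3, 0, 2, 1, 3, 1, 1, 3, 10, 1, 1, 1, 3, 0, 0, 3, 0, 2, 1, 1, 11],
   [4, 6, 11, 4, 7, 2, 10, 7, 10, 4],
   [5, 5, 11, 9, 5, 5, 5, 9, 4, 9, 4, 10],
   [3, 5, 10, 6, 4, 3, 11, 4, 2, 11],
   [4, 4, 8, 4, 10, 9, 5, 5, 8, 11, 4, 9],
   [11, 3, 6, 10, 2, 4, 11, 5, 6],
   [5, 9, 11, 4, 11, 5, 8, 4, 9, 5, 8],
   [10, 5, 3, 11, 7, 2, 11, 7, 4],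
   [10, 9, 4, 8, 4, 11, 9, 9, 9, 11, 8],
   [11, 6, 11, 4, 2, 5, 6, 3, 10, 7],
   [4, 4, 7, 10, 6, 5, 5, 7, 11, 6],
   [11, 6, 3, 4, 2, 4, 2, 6, 11, 5],
   [3, 10, 5, 3, 6, 11, 2, 5, 5, 11]]

/-- Some rules. -/
def mclCertR46 : List (List ℕ) :=
  [[3, 10, 5, 3, 6, 11, 2, 5, 5, 10],
   [11, 3, 1, 1, 3, 1, 1, 1, 3, 1, 2, 1, 1, 10, 3, 0, 0, 2, 1, 2, 0, 0, 0],
   [10, 7, 4, 11, 5, 11, 3, 10, 4],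
   [2, 11, 3, 4, 10, 6, 4, 3, 11, 5],
   [10, 9, 4, 9, 5, 5, 5, 9, 4, 11, 5, 5],
   [2, 5, 6, 3, 4, 11, 2, 11, 3, 10],
   [2, 5, 6, 3, 4, 10, 2, 11, 3, 11],
   [11, 5, 5, 10, 9, 10, 5, 5, 11, 8],
   [11, 8, 5, 5, 9, 11, 5, 8, 4, 8, 4, 8],
   [11, 3, 11, 4, 11, 7, 4, 10, 5],
   [9, 5, 9, 5, 9, 4, 10, 8, 4, 4, 9, 11],
   [9, 5, 9, 5, 9, 4, 11, 8, 4, 4, 9, 10],
   [9, 5, 5, 8, 10, 5, 9, 4, 4, 8, 5, 11],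
   [4, 1, 4, 4, 6, 9],
   [5, 5, 9, 4, 9, 4, 9, 5, 10, 4, 4, 11],
   [10, 8, 5, 9, 4, 8, 4, 9, 5, 11, 5],
   [11, 5, 3, 6, 10, 2, 5, 5, 11, 3],
   [10, 5, 9, 5, 8, 11, 9, 11, 8, 8, 8],
   [2, 9, 0, 3, 6, 9, 9],
   [11, 3, 6, 3, 6, 5, 10, 2, 10, 3],
   [5, 3, 6, 11, 2, 5, 5, 10, 3, 10],
   [5, 2, 10, 3, 4, 10, 6, 4, 3, 11],
   [5, 2, 10, 3, 4, 11, 6, 4, 3, 10],
   [10, 2, 5, 10, 5, 11, 6, 11, 4],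
   [2, 10, 3, 11, 7, 2, 4, 4, 4, 10],
   [2, 11, 3, 10, 7, 2, 4, 4, 4, 11],
   [10, 4, 7, 2, 11, 7, 11, 4, 4, 6],
   [5, 2, 11, 3, 4, 4, 2, 10, 3, 5],
   [10, 4, 11, 9, 5, 9, 9, 9, 5, 9, 9],
   [5, 10, 4, 11, 6, 11, 5, 11, 3, 3],
   [5, 10, 4, 11, 6, 11, 5, 11, 2],
   [9, 11, 8, 8, 8, 10, 5, 9, 5, 8, 11],
   [11, 5, 5, 10, 8, 10, 4, 4, 11, 9],
   [4, 10, 7, 3, 5, 3, 5, 2, 7, 10],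
   [7, 4, 11, 5, 11, 3, 11, 4, 10],
   [7, 4, 10, 5, 11, 3, 11, 4, 11],
   [3, 0, 3, 1, 1, 2, 11, 0, 0, 3, 0, 2, 0, 0, 0, 2, 0, 0, 2, 10, 1, 1, 1],
   [4, 4, 8, 10, 9, 5, 9, 4, 9, 5, 11, 9],
   [11, 2, 10, 3, 10, 3, 6, 3, 6, 5],
   [5, 9, 9, 11, 4, 11, 9, 5, 9, 9, 9],
   [4, 9, 9, 5, 11, 5, 11, 8, 4, 9, 9],
   [4, 4, 10, 2, 10, 4, 4, 11, 3, 11],
   [5, 2, 11, 4, 11, 6, 4, 2, 5, 3],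
   [8, 8, 11, 5, 9, 5, 8, 11, 9, 10, 8],
   [11, 5, 2, 11, 3, 4, 10, 2, 5, 7],
   [4, 4, 9, 11, 8, 4, 8, 4, 8, 4, 10, 8],
   [5, 9, 9, 9, 5, 9, 9, 11, 4, 10, 9],
   [4, 9, 4, 11, 5, 5, 11, 9, 5, 5, 5, 9],
   [3, 11, 5, 3, 6, 10, 2, 5, 5, 11],
   [11, 5, 11, 6, 10, 4, 10, 2, 5],
   [5, 5, 11, 4, 9, 11, 5, 5, 10, 8, 5, 10],
   [5, 11, 3, 10, 4, 4, 10, 2, 11, 5],
   [11, 3, 11, 2, 5, 6, 3, 4, 10, 2],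
   [7, 7, 2, 11, 5, 11, 3, 4, 6, 2],
   [3, 4, 2, 11, 5, 11, 6, 5, 2, 5],
   [6, 4, 3, 11, 4, 2, 10, 3, 5, 11],
   [11, 3, 3, 10, 3, 10, 4, 3, 6],
   [11, 5, 5, 10, 4, 9, 5, 5, 5, 9, 4, 9],
   [4, 9, 4, 9, 4, 9, 9, 11, 5, 5, 10, 8],
   [9, 5, 5, 8, 4, 10, 9, 5, 5, 8, 11, 4],
   [11, 5, 5, 10, 5, 8, 10, 5, 5, 11, 9, 4],
   [4, 9, 5, 11, 9, 5, 5, 8, 10, 9, 5, 9],
   [7, 4, 11, 5, 3, 11, 7, 2, 10],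
   [7, 2, 5, 7, 2, 5]]

/-- Some rules. -/
def mclCertR47 : List (List ℕ) :=
  [[9, 11, 5, 5, 11, 4, 9, 4, 9, 4],
   [3, 11, 4, 7, 2, 7, 2, 10, 2, 11],
   [3, 11, 4, 7, 2, 7, 2, 10, 2, 10],
   [4, 4, 11, 5, 5, 9, 4, 9, 4, 9, 5, 10],
   [2, 11, 5, 11, 3, 4, 6, 2, 7, 7],
   [5, 8, 10, 4, 4, 11, 9, 4, 11, 4, 4, 10],
   [9, 9, 5, 11, 5, 11, 8, 4, 9, 9, 4],
   [8, 11, 5, 11, 8, 5, 9, 5, 8, 8, 5],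
   [10, 7, 2, 11, 7, 4, 11, 5, 3],
   [10, 3, 10, 5, 2, 7, 4, 3, 11, 2],
   [11, 5, 5, 10, 4, 9, 10, 5, 5, 11, 8, 5],
   [10, 4, 10, 4, 3, 11, 5, 11, 7],
   [4, 11, 9, 4, 9, 9, 4, 8, 4, 9, 11],
   [4, 11, 9, 4, 9, 9, 4, 8, 4, 9, 10],
   [8, 10, 9, 5, 9, 4, 9, 5, 11, 9, 5, 5],
   [11, 7, 2, 4, 4, 4, 10, 2, 10, 3],
   [4, 4, 11, 3, 11, 5, 5, 10, 2, 10],
   [9, 4, 9, 4, 11, 5, 5, 11, 9, 5, 5, 5],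
   [11, 5, 5, 5, 9, 4, 9, 4, 9, 11, 5, 5],
   [10, 2, 11, 3, 11, 3, 6, 3, 6, 5],
   [9, 11, 4, 11, 9, 4, 9, 9, 4, 8, 4],
   [6, 3, 6, 5, 10, 2, 11, 3, 11, 3],
   [2, 10, 5, 11, 5, 6, 11, 4, 10],
   [5, 10, 7, 11, 4, 11, 4, 2, 2, 10],
   [8, 4, 4, 9, 11, 8, 4, 8, 4, 8, 4, 10],
   [10, 5, 11, 2, 5, 11, 4, 10, 6],
   [11, 5, 11, 8, 5, 9, 4, 8, 4, 9, 5],
   [11, 2, 0, 0, 2, 0, 3, 1, 2, 0, 0, 0, 3, 10, 0, 0, 3, 1, 2, 1, 1, 2, 0, 0, 0],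
   [11, 5, 5, 11, 5, 9, 4, 9, 4, 9, 4, 4],
   [1, 2, 0, 2, 1, 2, 1, 2, 0, 10, 2, 0, 0, 3, 0, 3, 1, 1, 3, 1, 1, 11, 2],
   [3, 0, 3, 0, 3, 1, 3, 0, 3, 10, 0, 0, 2, 0, 0, 2, 1, 2, 1, 1, 3, 11, 1],
   [5, 10, 5, 5, 11, 4, 8, 11, 5, 5, 10, 9],
   [5, 5, 10, 5, 8, 10, 5, 5, 11, 9, 4, 11],
   [5, 5, 11, 5, 8, 11, 5, 5, 10, 9, 4, 10],
   [11, 7, 11, 6, 11, 3, 5, 7, 5, 7],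
   [1, 1, 6, 8, 0, 2, 2, 7],
   [1, 1, 3, 1, 1, 11, 2, 1, 2, 0, 2, 1, 2, 1, 2, 0, 10, 2, 0, 0, 3, 0, 3],
   [8, 5, 8, 5, 8, 8, 10, 5, 5, 11, 9, 5],
   [11, 3, 4, 4, 2, 10, 3, 4, 4, 2],
   [3, 3, 5, 10, 2, 11, 3, 11, 7],
   [2, 2, 6, 10, 2, 4, 11, 5, 6, 11],
   [11, 3, 6, 11, 3, 3, 4, 10, 5, 6],
   [3, 4, 4, 2, 10, 3, 4, 4, 2, 11],
   [3, 4, 4, 2, 11, 3, 4, 4, 2, 10],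
   [4, 4, 2, 11, 3, 5, 5, 2, 10, 3],
   [5, 10, 5, 5, 11, 4, 9, 11, 4, 4, 10, 8],
   [1, 2, 1, 1, 3, 11, 1, 3, 0, 3, 0, 3, 1, 3, 0, 3, 10, 0, 0, 2, 0, 0, 2],
   [1, 1, 3, 11, 1, 3, 0, 3, 0, 3, 1, 3, 0, 3, 10, 0, 0, 2, 0, 0, 2, 1, 2],
   [3, 1, 1, 3, 1, 1, 11, 2, 1, 2, 0, 2, 1, 2, 1, 2, 0, 10, 2, 0, 0, 3, 0],
   [8, 4, 4, 9, 11, 5, 9, 5, 9, 5, 9, 10],
   [8, 4, 4, 9, 10, 5, 9, 5, 9, 5, 9, 11],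
   [5, 11, 2, 10, 3, 10, 3, 6, 3, 6],
   [4, 4, 4, 11, 2, 11, 3, 10, 7, 2],
   [3, 6, 6, 3, 7, 5, 2, 10, 4, 11],
   [10, 5, 11, 4, 11, 5, 5, 5, 10, 5],
   [11, 9, 5, 5, 8, 10, 5, 9, 4, 4, 8, 5],
   [11, 3, 6, 5, 10, 7, 4, 4, 11, 6],
   [11, 5, 5, 11, 4, 8, 5, 8, 5, 8, 4, 4],
   [11, 3, 11, 4, 4, 10, 2, 10, 4, 4],
   [10, 6, 10, 4, 11, 2, 5, 11, 5],
   [4, 2, 11, 3, 5, 10, 6, 4, 3, 11],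
   [10, 7, 5, 5, 11, 6, 11, 3, 6, 5],
   [8, 10, 5, 5, 11, 9, 9, 11, 5, 5, 10, 8],
   [5, 5, 9, 4, 9, 4, 9, 5, 10, 5, 5, 11]]

/-- Some rules. -/
def mclCertR48 : List (List ℕ) :=
  [[5, 5, 9, 4, 9, 4, 9, 5, 10, 4, 4, 10],
   [4, 4, 9, 11, 9, 5, 9, 5, 9, 4, 10, 8],
   [11, 2, 11, 5, 5, 3, 10, 7, 2, 4],
   [3, 10, 4, 10, 5, 6, 11, 5, 11, 3],
   [5, 5, 5, 9, 4, 11, 5, 5, 10, 9, 4, 9],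
   [4, 8, 11, 9, 5, 9, 4, 9, 5, 10, 9, 4],
   [11, 5, 5, 11, 9, 9, 4, 9, 4, 9, 4, 8],
   [6, 0, 4, 1, 1, 4, 4, 1],
   [0, 3, 0, 2, 0, 0, 0, 2, 0, 0, 2, 10, 1, 1, 1, 3, 0, 3, 1, 1, 2, 11, 0],
   [4, 9, 5, 11, 5, 5, 10, 4, 4, 9, 4, 9],
   [7, 8, 0, 3, 5, 9, 6, 5],
   [11, 5, 5, 11, 9, 4, 9, 4, 9, 4],
   [0, 2, 1, 2, 1, 2, 0, 10, 2, 0, 0, 3, 0, 3, 1, 1, 3, 1, 1, 11, 2, 1, 2],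
   [8, 5, 11, 4, 4, 10, 4, 9, 10, 5, 5, 11],
   [8, 5, 10, 4, 4, 11, 4, 9, 11, 5, 5, 10],
   [4, 8, 4, 11, 8, 5, 5, 9, 10, 8, 4, 8],
   [4, 4, 7, 11, 6, 5, 5, 7, 10, 6],
   [11, 5, 11, 7, 11, 4, 10, 4, 3],
   [4, 9, 10, 4, 4, 11, 4, 9, 5, 5, 5, 9],
   [7, 3, 3, 5, 10, 2, 10, 3, 11],
   [3, 11, 7, 3, 3, 10, 7, 4, 11, 5],
   [10, 8, 4, 10, 5, 5, 11, 5, 9, 11, 5, 5],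
   [8, 11, 5, 9, 5, 8, 11, 9, 10, 8, 8],
   [3, 7, 2, 8, 3, 0, 8, 7],
   [8, 4, 4, 1, 8, 6, 4, 1],
   [4, 10, 6, 11, 5, 11, 2, 5, 10],
   [10, 3, 4, 10, 6, 4, 3, 11, 5, 2],
   [8, 11, 9, 4, 8, 4, 10, 9, 9, 9, 10],
   [9, 4, 4, 8, 10, 9, 5, 9, 4, 9, 5, 10],
   [10, 8, 5, 5, 9, 11, 5, 9, 5, 9, 5, 9],
   [6, 11, 4, 2, 7, 10, 7, 10, 7, 2],
   [9, 11, 8, 8, 8, 10, 5, 9, 5, 8, 10],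
   [11, 3, 4, 4, 2, 10, 3, 5, 5, 2],
   [11, 5, 5, 10, 8, 5, 10, 5, 5, 11, 4, 9],
   [4, 10, 5, 6, 11, 3, 6, 11, 2],
   [3, 6, 10, 2, 4, 4, 11, 3, 11, 5],
   [2, 11, 2, 10, 2, 10, 2, 11, 2, 11],
   [2, 11, 2, 11, 2, 11, 2, 10, 2, 10],
   [3, 11, 3, 10, 3, 10, 3, 11, 3, 11],
   [3, 11, 3, 11, 3, 11, 3, 10, 3, 10],
   [2, 11, 3, 11, 4, 2, 2, 6, 10],
   [2, 11, 3, 4, 11, 6, 4, 3, 10, 5],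
   [10, 5, 10, 4, 3, 11, 4, 11, 7],
   [10, 2, 0, 0, 3, 0, 3, 1, 1, 3, 1, 1, 11, 2, 1, 2, 0, 2, 1, 2, 1, 2, 0],
   [6, 4, 3, 11, 5, 2, 10, 3, 4, 10],
   [6, 4, 3, 10, 5, 2, 10, 3, 4, 11],
   [2, 1, 2, 1, 2, 0, 10, 2, 0, 0, 3, 0, 3, 1, 1, 3, 1, 1, 11, 2, 1, 2, 0],
   [1, 2, 0, 0, 0, 11, 3, 1, 1, 3, 1, 1, 1, 3, 1, 2, 1, 1, 10, 3, 0, 0, 2],
   [8, 8, 11, 5, 5, 10, 9, 9, 10, 4, 4, 11],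
   [5, 5, 10, 9, 9, 10, 4, 4, 11, 8, 8, 11],
   [5, 5, 11, 9, 9, 11, 4, 4, 10, 8, 8, 10],
   [4, 9, 4, 11, 5, 5, 11, 9, 4, 9],
   [4, 2, 11, 3, 5, 10, 2, 5, 7, 10],
   [10, 3, 5, 5, 2, 11, 3, 4, 4, 2],
   [11, 2, 1, 1, 1, 3, 0, 2, 1, 3, 1, 1, 3, 10, 1, 1, 1, 3, 0, 0, 3, 0, 2, 1, 1],
   [0, 2, 1, 2, 0, 0, 0, 11, 3, 1, 1, 3, 1, 1, 1, 3, 1, 2, 1, 1, 10, 3, 0],
   [5, 9, 5, 5, 8, 5, 11, 9, 4, 4, 8, 10],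
   [5, 9, 5, 5, 8, 5, 10, 9, 4, 4, 8, 11],
   [5, 5, 10, 8, 10, 5, 5, 11, 9, 11],
   [4, 10, 5, 9, 4, 9, 4, 9, 5, 5, 11, 4],
   [8, 5, 8, 5, 8, 11, 5, 11, 5, 10, 5, 10],
   [4, 9, 4, 9, 5, 10, 4, 4, 11, 5, 5, 9],
   [5, 8, 10, 5, 5, 11, 9, 4, 11, 5, 5, 10],
   [5, 11, 5, 5, 10, 4, 8, 10, 5, 5, 11, 9]]

/-- Some rules. -/
def mclCertR49 : List (List ℕ) :=
  [[4, 4, 10, 4, 8, 10, 5, 5, 11, 9, 5, 11],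
   [4, 4, 11, 4, 8, 11, 5, 5, 10, 9, 5, 10],
   [5, 9, 4, 10, 8, 4, 4, 9, 11, 9, 5, 9],
   [5, 9, 4, 11, 5, 11, 8, 4, 9, 4, 8],
   [2, 11, 3, 4, 11, 2, 5, 7, 10, 5],
   [2, 6, 9, 4, 0, 6, 8, 1],
   [11, 4, 11, 8, 5, 9, 5, 8, 4, 9, 4],
   [4, 9, 5, 5, 11, 5, 5, 10, 5, 9, 4, 9],
   [5, 8, 5, 11, 9, 5, 5, 8, 10, 5, 9, 5],
   [4, 9, 9, 4, 9, 9, 5, 11, 5, 10, 8],
   [4, 4, 11, 9, 4, 11, 5, 5, 10, 5, 8, 10],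
   [2, 4, 4, 11, 3, 11, 5, 3, 6, 10],
   [5, 9, 5, 8, 11, 9, 10, 8, 8, 8, 11],
   [5, 9, 5, 8, 11, 9, 10, 8, 8, 8, 10],
   [11, 3, 5, 10, 2, 5, 7, 11, 4, 2],
   [5, 8, 5, 9, 5, 11, 4, 11, 8, 4, 9],
   [11, 5, 5, 10, 4, 4, 8, 5, 8, 5, 8, 4],
   [4, 10, 6, 4, 3, 11, 5, 2, 10, 3],
   [2, 11, 3, 11, 4, 3, 6, 10],
   [8, 11, 8, 11, 9, 4, 8, 4, 10, 8, 8, 8],
   [11, 7, 3, 3, 5, 10, 2, 11, 3],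
   [5, 5, 3, 6, 11, 2, 10, 3, 10, 5],
   [3, 0, 0, 2, 1, 2, 0, 0, 0, 11, 3, 1, 1, 3, 1, 1, 1, 3, 1, 2, 1, 1, 10],
   [7, 2, 5, 11, 3, 3, 10, 3, 10],
   [2, 10, 3, 10, 3, 6, 3, 6, 5, 11],
   [3, 6, 11, 2, 11, 3, 10, 4],
   [5, 11, 5, 5, 10, 4, 9, 10, 5, 5, 11, 8],
   [5, 10, 8, 5, 9, 4, 8, 4, 9, 5, 10],
   [4, 10, 8, 5, 9, 5, 8, 4, 9, 4, 10],
   [6, 5, 10, 7, 4, 4, 11, 6, 11, 3],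
   [4, 8, 4, 8, 4, 10, 8, 5, 5, 9, 11, 8],
   [4, 4, 9, 10, 9, 5, 9, 5, 9, 4, 11, 8],
   [4, 8, 4, 11, 9, 9, 9, 11, 8, 10, 9],
   [3, 11, 7, 2, 4, 10, 2, 10, 4, 4],
   [11, 5, 5, 10, 9, 10, 4, 4, 11, 8],
   [10, 7, 4, 11, 4, 11, 3, 10, 5],
   [10, 4, 10, 3, 10, 5, 11, 7, 4],
   [7, 2, 4, 11, 2, 10, 4, 4, 3, 10],
   [4, 4, 10, 8, 10, 5, 5, 11, 9, 11],
   [4, 4, 11, 8, 11, 5, 5, 10, 9, 10],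
   [11, 6, 11, 5, 11, 3, 3, 5, 10, 4],
   [7, 7, 2, 10, 5, 10, 3, 4, 6, 2],
   [8, 5, 9, 11, 4, 11, 4, 8, 8, 5, 8],
   [5, 9, 11, 5, 5, 11, 8, 8, 5, 8, 5, 8],
   [4, 2, 6, 6, 6, 11, 5, 11, 6, 2],
   [2, 5, 11, 4, 11, 6, 11, 5, 10],
   [2, 5, 10, 4, 11, 6, 11, 5, 11],
   [6, 4, 6, 4, 2, 10, 7, 10, 6, 11],
   [11, 4, 11, 4, 8, 5, 9, 5, 8, 4, 9],
   [5, 11, 2, 11, 4, 11, 5, 6, 10],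
   [5, 11, 4, 4, 10, 8, 5, 8, 5, 8],
   [4, 3, 6, 10, 2, 10, 3, 11],
   [11, 4, 9, 5, 5, 8, 4, 10, 9, 5, 5, 8],
   [4, 11, 4, 8, 8, 5, 8, 8, 5, 9, 10],
   [5, 5, 10, 8, 5, 10, 5, 5, 11, 4, 9, 11],
   [9, 4, 9, 4, 9, 4, 10, 4, 4, 11],
   [4, 9, 4, 4, 8, 4, 11, 9, 5, 5, 8, 10],
   [4, 9, 4, 4, 8, 4, 10, 9, 5, 5, 8, 11],
   [8, 8, 4, 8, 8, 8, 4, 8, 11, 5, 10],
   [0, 2, 1, 1, 11, 2, 1, 1, 1, 3, 0, 2, 1, 3, 1, 1, 3, 10, 1, 1, 1, 3, 0, 0, 3],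
   [3, 11, 2, 5, 6, 3, 4, 10, 2, 11],
   [3, 11, 2, 5, 6, 3, 4, 10, 2, 10],
   [0, 2, 1, 1, 1, 3, 1, 3, 1, 1, 2, 1, 2, 0],
   [5, 9, 5, 9, 10, 8, 5, 5, 9, 11, 5, 9]]

/-- Some rules. -/
def mclCertR50 : List (List ℕ) :=
  [[4, 9, 5, 5, 5, 9, 4, 11, 5, 5, 10, 9],
   [4, 4, 10, 9, 9, 4, 9, 4, 9, 4, 8, 11],
   [3, 3, 5, 10, 4, 11, 6, 11, 5, 11],
   [5, 9, 5, 8, 8, 5, 8, 11, 5, 10, 8],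
   [10, 7, 11, 6, 11, 2, 7, 4, 3, 5],
   [1, 1, 3, 10, 1, 1, 1, 3, 0, 0, 3, 0, 2, 1, 1, 11, 2, 1, 1, 1, 3, 0, 2, 1, 3],
   [4, 4, 10, 4, 9, 5, 5, 5, 9, 4, 9, 11],
   [9, 4, 9, 4, 9, 11, 5, 5, 10, 4],
   [3, 0, 9, 7, 1, 1, 5, 5],
   [9, 10, 8, 4, 8, 4, 8, 4, 11, 8, 5, 5],
   [5, 5, 10, 9, 5, 10, 5, 5, 11, 4, 8, 11],
   [5, 5, 11, 9, 5, 11, 5, 5, 10, 4, 8, 10],
   [4, 9, 4, 9, 5, 11, 5, 5, 10, 4, 4, 9],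
   [1, 2, 0, 0, 0, 11, 2, 0, 0, 2, 0, 3, 1, 2, 0, 0, 0, 3, 10, 0, 0, 3, 1, 2, 1],
   [9, 5, 9, 9, 9, 5, 9, 9, 11, 4, 11],
   [9, 5, 9, 9, 9, 5, 9, 9, 11, 4, 10],
   [9, 4, 9, 4, 9, 10, 5, 5, 11, 4],
   [11, 3, 11, 3, 6, 3, 6, 5, 10, 2],
   [11, 5, 5, 10, 8, 8, 10, 5, 5, 11, 9, 9],
   [4, 4, 4, 10, 4, 4, 10, 4, 11, 5, 5, 11],
   [1, 3, 0, 3, 1, 1, 2, 11, 0, 0, 3, 0, 2, 0, 0, 0, 2, 0, 0, 2, 10, 1, 1],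
   [6, 3, 6, 5, 11, 2, 10, 3, 10, 3],
   [9, 11, 5, 11, 5, 8, 5, 9, 4, 8, 4],
   [8, 5, 8, 5, 8, 4, 11, 5, 5, 10, 4, 4],
   [11, 5, 6, 10, 4, 11, 2, 11, 5],
   [5, 10, 4, 3, 11, 4, 11, 7, 11],
   [5, 10, 4, 3, 11, 4, 11, 7, 10],
   [0, 2, 0, 0, 2, 10, 1, 1, 1, 3, 0, 3, 1, 1, 2, 11, 0, 0, 3, 0, 2, 0, 0],
   [3, 3, 10, 7, 4, 11, 5, 3, 11, 7],
   [10, 3, 10, 3, 11, 3, 11, 3, 11, 3],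
   [4, 8, 4, 9, 4, 8, 5, 9, 11, 5, 10],
   [11, 4, 9, 4, 4, 8, 4, 10, 9, 5, 5, 8],
   [4, 10, 5, 6, 11, 5, 11, 2, 10],
   [5, 10, 5, 5, 11, 4, 9, 11, 5, 5, 10, 8],
   [4, 9, 5, 5, 5, 9, 4, 9, 11, 5, 5, 10],
   [0, 3, 0, 3, 1, 3, 0, 3, 10, 0, 0, 2, 0, 0, 2, 1, 2, 1, 1, 3, 11, 1, 3],
   [4, 6, 2, 7, 7, 2, 10, 5, 10, 3],
   [9, 4, 11, 4, 4, 10, 5, 8, 10, 5, 5, 11],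
   [9, 4, 10, 4, 4, 11, 5, 8, 11, 5, 5, 10],
   [5, 3, 6, 10, 2, 4, 4, 11, 3, 11],
   [10, 5, 5, 11, 8, 11, 5, 5, 10, 9],
   [5, 9, 10, 8, 4, 4, 9, 11, 5, 9, 5, 9],
   [1, 3, 1, 1, 3, 10, 1, 1, 1, 3, 0, 0, 3, 0, 2, 1, 1, 11, 2, 1, 1, 1, 3, 0, 2],
   [10, 6, 11, 4, 2, 5, 6, 3, 10, 7],
   [8, 8, 11, 5, 9, 5, 8, 10, 9, 11, 8],
   [9, 10, 8, 4, 9, 11, 8, 4, 9, 11, 8, 4],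
   [10, 9, 5, 9, 5, 9, 4, 11, 8, 5, 5, 9],
   [5, 8, 5, 8, 5, 5, 11, 5, 5, 10, 4, 8],
   [3, 6, 5, 10, 2, 11, 3, 11, 3, 6],
   [4, 9, 4, 4, 11, 5, 5, 11, 5, 9, 4, 9],
   [5, 8, 5, 8, 4, 4, 4, 8, 10, 4, 4, 11],
   [5, 8, 5, 8, 4, 4, 4, 8, 10, 4, 4, 10],
   [3, 6, 11, 2, 11, 2, 2, 10, 4],
   [0, 0, 2, 1, 2, 1, 1, 3, 11, 1, 3, 0, 3, 0, 3, 1, 3, 0, 3, 10, 0, 0, 2],
   [4, 9, 4, 9, 5, 5, 11, 4, 4, 10, 5, 9],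
   [5, 8, 5, 8, 11, 4, 4, 10, 5, 8],
   [10, 4, 2, 11, 3, 5, 11, 2, 5, 7],
   [11, 8, 4, 4, 9, 10, 5, 8, 4, 8, 4, 8],
   [11, 4, 2, 11, 3, 5, 10, 6, 4, 3],
   [4, 11, 9, 9, 9, 11, 8, 10, 9, 4, 8],
   [0, 0, 2, 10, 1, 1, 1, 3, 0, 3, 1, 1, 2, 11, 0, 0, 3, 0, 2, 0, 0, 0, 2],
   [4, 11, 8, 8, 5, 8, 5, 8, 5, 9, 10, 4],
   [6, 5, 5, 7, 11, 6, 4, 4, 7, 10],
   [6, 5, 5, 7, 10, 6, 4, 4, 7, 11]]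

/-- Some rules. -/
def mclCertR51 : List (List ℕ) :=
  [[11, 3, 4, 2, 4, 3, 5, 7, 11, 5],
   [0, 3, 1, 2, 0, 0, 0, 3, 10, 0, 0, 3, 1, 2, 1, 1, 2, 0, 0, 0, 11, 2, 0, 0, 2],
   [5, 3, 6, 11, 2, 4, 4, 10, 3, 10],
   [11, 3, 11, 5, 5, 10, 2, 10, 5, 5],
   [10, 7, 10, 5, 5, 6, 11, 4, 7, 2],
   [10, 4, 4, 3, 11, 7, 2, 4, 11, 2],
   [5, 6, 3, 4, 10, 2, 11, 3, 11, 2],
   [5, 5, 8, 11, 5, 9, 5, 5, 8, 5, 10, 9],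
   [11, 4, 4, 10, 2, 10, 5, 5, 11, 3],
   [4, 9, 11, 8, 4, 9, 11, 8, 4, 9, 10, 8],
   [8, 10, 5, 5, 11, 9, 4, 11, 5, 5, 10, 5],
   [4, 10, 5, 11, 5, 5, 11, 5, 5, 5, 10, 4],
   [6, 2, 2, 1, 9, 3, 7, 0],
   [5, 5, 9, 11, 5, 8, 4, 8, 4, 8, 11, 8],
   [7, 2, 11, 7, 4, 10, 5, 3, 10],
   [10, 7, 4, 11, 5, 2, 2, 10, 7, 2],
   [5, 5, 8, 11, 9, 5, 9, 4, 9, 5, 10, 9],
   [8, 5, 8, 5, 11, 5, 5, 11, 8, 5],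
   [11, 6, 4, 3, 11, 4, 2, 10, 3, 5],
   [11, 3, 6, 3, 6, 5, 10, 2, 11, 3],
   [7, 11, 7, 11, 6, 11, 3, 5, 7, 5],
   [5, 7, 10, 4, 2, 11, 3, 5, 11, 2],
   [4, 8, 5, 8, 4, 8, 11, 9, 5, 5, 8, 10],
   [2, 2, 1, 2, 0, 6, 6, 1],
   [8, 4, 10, 8, 8, 8, 8, 11, 8, 11, 9, 4],
   [5, 9, 10, 8, 5, 9, 11, 8, 5, 9, 11, 8],
   [11, 4, 7, 2, 4, 4, 10, 7, 10, 6],
   [2, 11, 3, 5, 5, 2, 10, 3, 4, 4],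
   [3, 11, 2, 11, 3, 10, 5, 2, 7, 4],
   [8, 10, 5, 9, 5, 8, 11, 9, 11, 8, 8],
   [4, 4, 8, 5, 8, 5, 11, 5, 5, 11, 8, 4],
   [4, 9, 4, 9, 9, 11, 5, 5, 10, 8, 4, 9],
   [5, 11, 5, 5, 11, 8, 4, 4, 4, 8, 5, 8],
   [4, 3, 10, 5, 11, 7, 11, 4, 10],
   [4, 10, 5, 5, 11, 5, 8, 11, 5, 5, 10, 9],
   [3, 0, 2, 0, 7, 7, 1],
   [4, 9, 4, 8, 5, 9, 4, 11, 5, 10, 8],
   [5, 8, 5, 8, 5, 11, 5, 5, 10, 8],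
   [5, 5, 10, 5, 9, 10, 4, 4, 11, 8, 4, 11],
   [5, 5, 10, 4, 9, 10, 4, 4, 11, 8, 5, 11],
   [5, 5, 11, 5, 9, 11, 4, 4, 10, 8, 4, 10],
   [5, 5, 11, 4, 9, 11, 4, 4, 10, 8, 5, 10],
   [3, 5, 10, 6, 4, 3, 11, 4, 2, 10],
   [5, 5, 10, 2, 10, 4, 4, 11, 3, 11],
   [2, 8, 0, 2, 7, 1, 6],
   [7, 11, 4, 11, 4, 3, 10, 5, 10],
   [10, 4, 10, 3, 5, 2, 4, 3, 4, 7],
   [11, 8, 8, 8, 11, 5, 9, 5, 8, 10, 9],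
   [5, 9, 4, 9, 4, 9, 11, 5, 5, 11, 5, 5],
   [5, 8, 11, 4, 4, 10, 5, 8, 5, 8],
   [8, 11, 5, 9, 5, 8, 10, 9, 11, 8, 8],
   [4, 8, 5, 9, 4, 11, 5, 11, 8, 4, 9],
   [5, 11, 5, 5, 10, 4, 4, 9, 4, 9, 4, 9],
   [3, 0, 7, 7, 1, 3, 0, 3],
   [4, 10, 8, 5, 5, 9, 11, 8, 4, 8, 4, 8],
   [2, 5, 7, 2, 5, 7],
   [4, 2, 10, 5, 10, 6, 5, 2, 5, 3],
   [7, 1, 5, 8, 7, 3, 0, 9],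
   [6, 11, 3, 6, 11, 3, 3, 4, 10, 5],
   [10, 6, 4, 7, 5, 6, 4, 2, 10, 5],
   [10, 5, 5, 11, 4, 9, 5, 5, 5, 9, 4, 9],
   [10, 2, 5, 7, 10, 4, 2, 11, 3, 5],
   [11, 5, 9, 5, 8, 11, 9, 10, 8, 8, 8],
   [6, 11, 2, 4, 10, 5, 6, 11, 3]]

/-- Some rules. -/
def mclCertR52 : List (List ℕ) :=
  [[10, 5, 5, 11, 5, 9, 11, 5, 5, 10, 8, 4],
   [2, 10, 7, 4, 10, 5, 3, 11, 7],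
   [2, 1, 8, 4, 8, 0, 6, 6],
   [8, 5, 8, 4, 8, 10, 9, 4, 4, 8, 11, 4],
   [3, 6, 10, 2, 11, 3, 11, 5, 5, 5],
   [3, 6, 10, 3, 3, 11, 3, 11, 4],
   [5, 9, 11, 5, 11, 4, 8, 4, 9, 4, 8],
   [5, 11, 4, 3, 10, 4, 11, 7, 11],
   [5, 11, 4, 3, 11, 4, 10, 7, 10],
   [10, 5, 2, 7, 4, 3, 11, 2, 10, 3],
   [4, 10, 5, 5, 11, 5, 5, 8, 5, 8, 5, 8],
   [10, 4, 8, 5, 8, 5, 8, 5, 5, 11, 4, 4],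
   [3, 10, 7, 4, 11, 5, 3, 11, 7, 3],
   [10, 2, 10, 2, 11, 2, 11, 2, 11, 2],
   [2, 0, 10, 2, 0, 0, 3, 0, 3, 1, 1, 3, 1, 1, 11, 2, 1, 2, 0, 2, 1, 2, 1],
   [10, 7, 10, 6, 11, 6, 4, 6, 4, 2],
   [6, 11, 3, 3, 4, 10, 5, 6, 11, 3],
   [11, 4, 4, 10, 9, 5, 10, 5, 5, 11, 4, 8],
   [5, 5, 11, 5, 5, 5, 9, 4, 9, 4, 9, 11],
   [5, 5, 11, 4, 9, 4, 9, 4, 9, 10],
   [1, 8, 2, 2, 8, 8, 7, 2],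
   [0, 2, 7, 1, 6, 2, 8],
   [7, 7, 1, 2, 2, 0, 2, 0],
   [2, 1, 1, 1, 3, 1, 3, 1, 1, 2, 1, 2, 0, 0],
   [3, 5, 10, 7, 10, 6, 11, 2, 7, 4],
   [10, 4, 4, 10, 5, 8, 5, 8, 5, 8],
   [10, 5, 6, 11, 3, 6, 11, 2, 4],
   [10, 3, 10, 5, 3, 6, 11, 2, 5, 5],
   [0, 0, 3, 10, 0, 0, 3, 1, 2, 1, 1, 2, 0, 0, 0, 11, 2, 0, 0, 2, 0, 3, 1, 2, 0],
   [0, 0, 2, 0, 3, 1, 2, 0, 0, 0, 3, 10, 0, 0, 3, 1, 2, 1, 1, 2, 0, 0, 0, 11, 2],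
   [7, 2, 5, 11, 2, 11, 2, 2, 10],
   [8, 5, 9, 4, 11, 4, 10, 8, 8, 5, 8],
   [4, 11, 5, 5, 10, 5, 9, 10, 4, 4, 11, 8],
   [4, 4, 10, 8, 5, 10, 5, 5, 11, 4, 9, 11],
   [4, 11, 2, 10, 4, 4, 3, 11, 7, 2],
   [5, 11, 5, 5, 10, 4, 8, 10, 4, 4, 11, 9],
   [10, 4, 11, 7, 11, 5, 11, 4, 3],
   [4, 4, 10, 9, 10, 5, 5, 11, 8, 11],
   [8, 8, 11, 4, 4, 10, 9, 9, 10, 5, 5, 11],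
   [8, 8, 10, 4, 4, 11, 9, 9, 11, 5, 5, 10],
   [10, 5, 5, 3, 11, 7, 2, 4, 10, 2],
   [4, 9, 11, 5, 5, 11, 4, 9, 4, 9],
   [5, 9, 2, 2, 6, 0, 2, 0],
   [4, 9, 4, 4, 10, 4, 4, 11, 5, 9, 4, 9],
   [2, 0, 0, 0, 11, 3, 1, 1, 3, 1, 1, 1, 3, 1, 2, 1, 1, 10, 3, 0, 0, 2, 1],
   [8, 5, 8, 4, 8, 11, 9, 5, 5, 8, 11, 4],
   [5, 11, 5, 5, 11, 8, 5, 8, 5, 8],
   [11, 3, 6, 11, 2, 4, 10, 5, 6],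
   [9, 11, 5, 9, 5, 8, 10, 9, 10, 9, 9, 9],
   [2, 11, 0, 0, 3, 0, 2, 0, 0, 0, 2, 0, 0, 2, 10, 1, 1, 1, 3, 0, 3, 1, 1],
   [6, 11, 4, 2, 7, 10, 7, 11, 7, 2],
   [9, 4, 9, 4, 9, 9, 10, 5, 5, 11, 8, 4],
   [9, 4, 11, 5, 5, 11, 9, 4, 9, 4],
   [2, 1, 2, 0, 10, 2, 0, 0, 3, 0, 3, 1, 1, 3, 1, 1, 11, 2, 1, 2, 0, 2, 1],
   [11, 4, 11, 8, 8, 5, 8, 8, 5, 9, 4],
   [3, 0, 2, 1, 3, 1, 1, 3, 10, 1, 1, 1, 3, 0, 0, 3, 0, 2, 1, 1, 11, 2, 1, 1, 1],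
   [10, 4, 4, 11, 8, 11, 4, 4, 10, 9],
   [5, 11, 5, 5, 10, 4, 9, 10, 4, 4, 11, 8],
   [0, 2, 10, 1, 1, 1, 3, 0, 3, 1, 1, 2, 11, 0, 0, 3, 0, 2, 0, 0, 0, 2, 0],
   [10, 5, 5, 11, 9, 5, 8, 5, 8, 5, 8, 8],
   [1, 2, 2, 1, 7, 2, 8, 4],
   [3, 6, 11, 2, 5, 5, 11, 3, 10, 5],
   [2, 0, 2, 1, 2, 1, 2, 0, 10, 2, 0, 0, 3, 0, 3, 1, 1, 3, 1, 1, 11, 2, 1],
   [0, 2, 0, 3, 1, 2, 0, 0, 0, 3, 10, 0, 0, 3, 1, 2, 1, 1, 2, 0, 0, 0, 11, 2, 0]]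

/-- Some rules. -/
def mclCertR53 : List (List ℕ) :=
  [[2, 0, 0, 0, 3, 1, 1, 3, 0, 3, 0, 0, 2, 0],
   [10, 7, 11, 6, 11, 4, 7, 2, 4, 4],
   [10, 5, 10, 6, 4, 7, 5, 6, 4, 2],
   [10, 5, 5, 11, 9, 4, 9, 5, 5, 5, 9, 4],
   [9, 4, 9, 9, 5, 11, 5, 11, 8, 4, 9],
   [2, 10, 3, 5, 11, 6, 4, 3, 11, 4],
   [4, 10, 8, 8, 8, 8, 11, 8, 11, 9, 4, 8],
   [10, 2, 5, 7, 11, 5, 2, 11, 3, 4],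
   [4, 11, 4, 11, 8, 8, 5, 8, 8, 5, 9],
   [2, 1, 3, 0, 2, 0, 3, 1, 1, 2, 1, 1, 1],
   [3, 3, 10, 4, 10, 5, 6, 11, 5, 11],
   [0, 3, 1, 2, 1, 1, 2, 0, 0, 0, 11, 2, 0, 0, 2, 0, 3, 1, 2, 0, 0, 0, 3, 10, 0],
   [10, 4, 10, 6, 5, 7, 5, 6, 5, 2],
   [8, 5, 9, 11, 5, 11, 4, 8, 4, 9, 4],
   [10, 4, 11, 2, 5, 11, 5, 10, 6],
   [0, 4, 4, 9, 0, 5, 7, 9],
   [7, 2, 11, 2, 11, 3, 10, 4, 7, 2],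
   [1, 10, 3, 0, 0, 2, 1, 2, 0, 0, 0, 11, 3, 1, 1, 3, 1, 1, 1, 3, 1, 2, 1],
   [2, 2, 1, 7, 2, 8, 4, 1],
   [5, 11, 5, 11, 8, 4, 9, 9, 4, 9, 9],
   [4, 4, 9, 10, 5, 8, 4, 8, 4, 8, 11, 8],
   [11, 7, 4, 11, 5, 3, 10, 7, 2],
   [5, 5, 9, 11, 8, 4, 8, 4, 8, 4, 10, 8],
   [10, 2, 11, 3, 11, 4, 7, 2, 7, 2],
   [4, 10, 7, 11, 5, 11, 4, 2, 2, 10],
   [5, 8, 10, 9, 11, 8, 8, 8, 11, 5, 9],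
   [10, 4, 11, 4, 3, 11, 5, 10, 7],
   [11, 8, 8, 5, 8, 5, 8, 5, 9, 10, 4, 4],
   [1, 1, 3, 0, 2, 1, 3, 1, 1, 3, 10, 1, 1, 1, 3, 0, 0, 3, 0, 2, 1, 1, 11, 2, 1],
   [8, 5, 9, 11, 4, 11, 5, 8, 4, 9, 5],
   [4, 4, 8, 10, 4, 9, 5, 5, 8, 4, 11, 9],
   [4, 10, 8, 8, 10, 5, 5, 11, 9, 9, 11, 4],
   [0, 3, 0, 3, 1, 1, 3, 1, 1, 11, 2, 1, 2, 0, 2, 1, 2, 1, 2, 0, 10, 2, 0],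
   [9, 10, 8, 5, 9, 11, 8, 5, 9, 11, 8, 5],
   [11, 5, 3, 6, 10, 2, 4, 4, 11, 3],
   [2, 1, 2, 1, 1, 3, 11, 1, 3, 0, 3, 0, 3, 1, 3, 0, 3, 10, 0, 0, 2, 0, 0],
   [8, 11, 5, 5, 11, 9, 9, 4, 9, 4, 9, 4],
   [3, 0, 2, 0, 3, 1, 1, 2, 1, 1, 1, 2, 1],
   [8, 4, 9, 5, 11, 5, 11, 8, 5, 9, 4],
   [0, 11, 2, 0, 0, 2, 0, 3, 1, 2, 0, 0, 0, 3, 10, 0, 0, 3, 1, 2, 1, 1, 2, 0, 0],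
   [9, 4, 10, 4, 4, 11, 5, 8, 11, 4, 4, 10],
   [4, 9, 4, 11, 4, 11, 8, 5, 9, 5, 8],
   [4, 11, 2, 5, 11, 5, 10, 6, 10],
   [4, 11, 2, 5, 10, 5, 10, 6, 11],
   [5, 9, 4, 8, 4, 9, 5, 11, 5, 10, 8],
   [9, 9, 11, 4, 4, 10, 8, 8, 10, 5, 5, 11],
   [9, 9, 10, 4, 4, 11, 8, 8, 11, 5, 5, 10],
   [5, 5, 11, 5, 5, 10, 4, 8, 5, 8, 5, 8],
   [7, 4, 11, 5, 10, 3, 10, 4, 11],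
   [10, 9, 5, 5, 8, 11, 4, 9, 4, 4, 8, 4],
   [7, 2, 10, 7, 4, 11, 5, 3, 11],
   [2, 11, 3, 5, 11, 2, 5, 7, 10, 4],
   [9, 5, 11, 5, 5, 10, 4, 8, 10, 4, 4, 11],
   [9, 5, 10, 5, 5, 11, 4, 8, 11, 4, 4, 10],
   [6, 11, 4, 11, 2, 11, 5, 10, 5],
   [0, 0, 0, 3, 10, 0, 0, 3, 1, 2, 1, 1, 2, 0, 0, 0, 11, 2, 0, 0, 2, 0, 3, 1, 2],
   [1, 3, 0, 2, 1, 3, 1, 1, 3, 10, 1, 1, 1, 3, 0, 0, 3, 0, 2, 1, 1, 11, 2, 1, 1],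
   [5, 10, 9, 4, 4, 8, 11, 5, 9, 5, 5, 8],
   [11, 4, 11, 3, 5, 7, 4, 6, 5, 7],
   [9, 4, 9, 11, 5, 5, 11, 4, 9, 4],
   [0, 2, 1, 2, 1, 1, 3, 11, 1, 3, 0, 3, 0, 3, 1, 3, 0, 3, 10, 0, 0, 2, 0],
   [3, 3, 5, 10, 5, 11, 6, 11, 4, 11],
   [0, 10, 2, 0, 0, 3, 0, 3, 1, 1, 3, 1, 1, 11, 2, 1, 2, 0, 2, 1, 2, 1, 2],
   [5, 9, 10, 5, 5, 11, 8, 4, 11, 5, 5, 10]]

/-- Some rules. -/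
def mclCertR54 : List (List ℕ) :=
  [[7, 2, 10, 2, 11, 3, 11, 4, 7, 2],
   [4, 9, 4, 8, 11, 5, 5, 11, 9, 9, 4, 9],
   [11, 4, 8, 5, 8, 4, 8, 10, 9, 4, 4, 8],
   [5, 11, 6, 11, 4, 11, 2, 5, 10],
   [4, 4, 11, 5, 5, 11, 4, 8, 5, 8, 5, 8],
   [1, 1, 3, 1, 1, 1, 3, 1, 2, 1, 1, 10, 3, 0, 0, 2, 1, 2, 0, 0, 0, 11, 3],
   [1, 1, 3, 0, 0, 3, 0, 2, 1, 1, 11, 2, 1, 1, 1, 3, 0, 2, 1, 3, 1, 1, 3, 10, 1],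
   [0, 3, 1, 1, 3, 0, 3, 0, 0, 2, 0, 2, 0, 0],
   [5, 5, 10, 9, 4, 10, 4, 4, 11, 5, 8, 11],
   [5, 5, 11, 9, 4, 11, 4, 4, 10, 5, 8, 10],
   [5, 5, 5, 10, 5, 10, 5, 11, 4, 11],
   [5, 8, 4, 9, 5, 8, 5, 9, 11, 4, 10],
   [5, 5, 11, 5, 5, 10, 5, 9, 4, 9, 4, 9],
   [2, 2, 7, 1, 1, 6, 8, 0],
   [9, 4, 11, 4, 4, 10, 5, 8, 10, 4, 4, 11],
   [3, 3, 10, 5, 10, 5, 6, 11, 4, 11],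
   [8, 5, 10, 4, 4, 11, 4, 9, 11, 4, 4, 10],
   [3, 3, 10, 3, 10, 7, 2, 5, 11],
   [4, 4, 4, 10, 2, 10, 3, 11, 7, 2],
   [5, 5, 11, 8, 4, 9, 4, 9, 4, 9, 9, 10],
   [5, 5, 10, 8, 4, 9, 4, 9, 4, 9, 9, 11],
   [0, 0, 3, 0, 3, 1, 1, 3, 1, 1, 11, 2, 1, 2, 0, 2, 1, 2, 1, 2, 0, 10, 2],
   [4, 9, 4, 9, 5, 11, 4, 4, 10, 4, 4, 9],
   [4, 9, 4, 9, 9, 10, 5, 5, 11, 8, 4, 9],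
   [0, 0, 2, 0, 0, 2, 10, 1, 1, 1, 3, 0, 3, 1, 1, 2, 11, 0, 0, 3, 0, 2, 0],
   [5, 5, 11, 8, 8, 11, 4, 4, 10, 9, 9, 10],
   [5, 5, 10, 8, 8, 10, 4, 4, 11, 9, 9, 11],
   [5, 11, 5, 11, 5, 5, 5, 10, 4, 10],
   [8, 5, 9, 10, 8, 5, 9, 10, 8, 5, 9, 11]]

/-- The certificate for the index of the centralizer. -/
def mclCert : Cert where
  facts := mclCertF
  just := mclCertJ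
  jw := 471
  par := mclCertP
  rules := [mclCertR0, mclCertR1, mclCertR2, mclCertR3, mclCertR4, mclCertR5, mclCertR6, mclCertR7, mclCertR8, mclCertR9, mclCertR10, mclCertR11, mclCertR12, mclCertR13, mclCertR14, mclCertR15, mclCertR16, mclCertR17, mclCertR18, mclCertR19, mclCertR20, mclCertR21, mclCertR22, mclCertR23, mclCertR24, mclCertR25, mclCertR26, mclCertR27, mclCertR28, mclCertR29, mclCertR30, mclCertR31, mclCertR32, mclCertR33, mclCertR34, mclCertR35, mclCertR36, mclCertR37, mclCertR38, mclCertR39, mclCertR40, mclCertR41, mclCertR42, mclCertR43, mclCertR44, mclCertR45, mclCertR46, mclCertR47, mclCertR48, mclCertR49, mclCertR50, mclCertR51, mclCertR52, mclCertR53, mclCertR54]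
  subs := [0, 2, 4, 6, 8]
  nFacts := 125526
  live := mclCertL
  nLive := 22275
  gens := [0, 2, 10]
  final := mclCertFin

/-- Some base rules. -/
def mclBase0 : List (ℕ × List ℕ) :=
  [(1, [2, 4, 3, 4, 7, 10, 4, 11, 3, 5]),
   (1, [7, 4, 10, 4, 11, 3, 11, 5, 11]),
   (0, [2, 2, 2]),
   (1, [2, 10, 4, 3, 6, 11, 2, 11, 2]),
   (1, [2, 7, 4, 3, 5, 11, 7, 11, 6, 11]),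
   (1, [2, 10, 4, 4, 3, 10, 7, 2, 4, 11]),
   (1, [2, 6, 5, 7, 10, 2, 6, 5, 7, 11]),
   (1, [4, 4, 7, 10, 6, 5, 5, 7, 11, 6]),
   (1, [2, 7, 10, 7, 10, 7, 2, 6, 11, 4]),
   (1, [2, 6, 10, 4, 2, 7, 11, 7, 11, 7]),
   (1, [4, 10, 5, 3, 10, 7, 2, 11, 7]),
   (1, [2, 6, 10, 5, 10, 6, 3, 4, 2, 4]),
   (1, [4, 2, 10, 3, 4, 4, 2, 11, 3, 4]),
   (1, [2, 10, 4, 10, 6, 5, 7, 5, 6, 5]),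
   (0, [2, 7, 2, 7, 2, 7]),
   (0, [2, 6, 2, 7, 5, 7, 5]),
   (0, [2, 6, 3, 6, 3, 6, 2]),
   (0, [2, 5, 7, 3, 3, 5, 7]),
   (0, [4, 7, 4, 7, 4, 7]),
   (1, [4, 4, 10, 2, 10, 3, 11, 7, 2, 4]),
   (1, [4, 4, 6, 10, 4, 7, 2, 11, 7, 11]),
   (0, [0, 4, 8, 3, 4, 2, 7, 2]),
   (0, [4, 0, 5, 8, 7, 4]),
   (1, [10, 10]),
   (0, [0, 6, 2, 6, 5, 9, 3, 9]),
   (1, [2, 7, 4, 3, 5, 10, 7, 11, 6, 11]),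
   (2, [4, 4, 8, 4, 10, 9, 4, 4, 8, 11, 4, 9]),
   (1, [2, 5, 3, 4, 2, 11, 5, 11, 6, 5]),
   (1, [4, 4, 10, 4, 4, 10, 4, 11, 5, 5, 11, 4]),
   (2, [4, 4, 9, 10, 5, 8, 4, 8, 4, 8, 11, 8]),
   (2, [4, 8, 4, 10, 8, 4, 4, 9, 11, 8, 4, 8]),
   (0, [2, 4, 3, 8, 5, 9, 4]),
   (0, [0, 5, 8, 7, 5, 5]),
   (2, [9, 10, 8, 8, 8, 11, 5, 9, 5, 8, 11]),
   (2, [4, 9, 4, 9, 4, 8, 11, 5, 5, 11, 9, 9]),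
   (2, [4, 10, 9, 9, 9, 10, 8, 11, 9, 4, 8]),
   (0, [0, 7, 3, 7, 8, 8, 8, 3]),
   (0, [0, 4, 6, 2, 9, 4, 8, 7]),
   (0, [0, 0, 6, 6, 6, 3, 9, 3]),
   (0, [0, 8, 7, 3, 7, 2, 8, 3]),
   (0, [0, 8, 3, 7, 8, 5, 5, 7]),
   (2, [8, 10, 9, 4, 8, 4, 11, 9, 9, 9, 11]),
   (2, [4, 9, 9, 4, 8, 4, 9, 11, 4, 11, 9]),
   (0, [0, 2, 8, 8, 8, 5, 5, 3]),
   (0, [0, 7, 3, 0, 7, 5, 8, 6]),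
   (0, [0, 9, 7, 1, 1, 5, 5, 3]),
   (0, [0, 9, 7, 1, 5, 8, 7, 3]),
   (0, [0, 8, 2, 4, 7, 9, 5, 6]),
   (0, [0, 6, 9, 5, 6, 9, 1, 7]),
   (0, [0, 6, 6, 9, 6, 6, 4, 7]),
   (0, [1, 3, 1, 3, 3, 0, 6, 6]),
   (0, [0, 7, 9, 9, 2, 5, 8, 8]),
   (0, [2, 1, 8, 2, 2, 8, 8, 7]),
   (0, [1, 3, 0, 3, 3, 0, 7, 7]),
   (0, [0, 3, 0, 6, 1, 8, 0, 5]),
   (2, [4, 9, 4, 4, 10, 4, 4, 11, 5, 9, 4, 9]),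
   (0, [0, 6, 2, 4, 9, 3, 4, 2]),
   (2, [5, 8, 5, 9, 5, 11, 4, 11, 8, 4, 9]),
   (0, [0, 2, 7, 1, 6, 2, 8]),
   (0, [0, 8, 8, 5, 3, 8, 3, 5]),
   (0, [0, 5, 8, 5, 6, 5, 6, 4]),
   (0, [0, 0, 9, 0, 7, 4, 0, 4]),
   (0, [0, 8, 0, 8, 0, 8]),
   (0, [0, 9, 9, 6, 9, 2, 6, 8])]

/-- Some base rules. -/
def mclBase1 : List (ℕ × List ℕ) :=
  [(0, [0, 8, 5, 7, 7, 8, 5, 3]),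
   (2, [4, 9, 4, 8, 10, 4, 4, 11, 9, 9, 4, 9]),
   (2, [4, 8, 5, 8, 4, 8, 11, 9, 5, 5, 8, 11]),
   (2, [4, 8, 8, 5, 8, 8, 5, 9, 11, 4, 11]),
   (2, [9, 9, 9, 10, 8, 11, 9, 4, 8, 4, 11]),
   (0, [0, 0, 0, 2, 0, 6, 1, 3]),
   (0, [0, 3, 7, 9, 6, 2, 7]),
   (0, [1, 5, 7, 5, 2, 8, 6, 2]),
   (0, [0, 6, 0, 9, 5, 6, 1, 6]),
   (0, [0, 3, 9, 9, 9, 1, 8, 6]),
   (0, [8, 8, 8, 8, 8, 8, 8]),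
   (0, [0, 3, 0, 9, 7, 5, 1, 7]),
   (0, [2, 1, 7, 2, 8, 4, 1, 2]),
   (0, [0, 3, 5, 2, 0, 3, 5, 2]),
   (0, [0, 4, 3, 7, 0, 8, 6, 9]),
   (0, [0, 0, 0, 6, 3, 8, 0, 7]),
   (0, [0, 0, 5, 1, 7, 0, 5, 5]),
   (0, [0, 5, 6, 1, 4, 8, 0, 6]),
   (0, [0, 3, 6, 9, 9, 2, 9]),
   (0, [0, 3, 7, 7, 1, 9, 5, 9]),
   (0, [0, 4, 1, 1, 5, 5, 1, 6]),
   (0, [0, 3, 7, 0, 5, 6, 1, 9]),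
   (0, [0, 6, 6, 5, 3, 0, 8, 7]),
   (0, [0, 5, 9, 2, 2, 6, 0, 2]),
   (0, [0, 2, 0, 5, 9, 3, 6]),
   (0, [0, 4, 1, 9, 2, 7, 3, 9]),
   (0, [0, 3, 5, 9, 6, 5, 7, 8]),
   (0, [0, 0, 6, 8, 2, 8, 8, 8]),
   (1, [2, 4, 4, 10, 7, 10, 6, 11, 4, 7]),
   (1, [4, 3, 6, 10, 3, 3, 11, 3, 11]),
   (1, [2, 5, 10, 2, 10, 3, 11, 7]),
   (1, [2, 5, 10, 2, 11, 3, 11, 7]),
   (1, [2, 10, 5, 10, 3, 4, 6, 2, 7, 7]),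
   (1, [2, 10, 7, 10, 5, 5, 6, 11, 4, 7]),
   (0, [0, 4, 1, 5, 8, 7, 1, 6]),
   (0, [0, 0, 0, 3, 9, 0, 4, 7]),
   (0, [2, 1, 6, 2, 2, 7, 8, 6]),
   (0, [0, 7, 8, 4, 0, 9, 2, 4]),
   (0, [0, 0, 6, 4, 2, 1, 4, 9]),
   (0, [0, 2, 0, 7, 7, 1, 3]),
   (0, [0, 7, 5, 9, 6, 6, 6, 9]),
   (0, [0, 0, 9, 2, 0, 6, 8, 6]),
   (0, [0, 0, 6, 2, 1, 9, 7]),
   (0, [0, 0, 9, 1, 7, 7, 8, 2]),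
   (0, [0, 0, 8, 1, 9, 4, 7, 8]),
   (0, [0, 0, 0, 0, 0, 0, 0]),
   (0, [4, 4, 4, 4]),
   (2, [4, 8, 8, 8, 4, 8, 11, 5, 11, 8, 8]),
   (0, [0, 0, 9, 6, 2, 7, 9, 7]),
   (0, [0, 8, 1, 5, 7, 9, 9, 5]),
   (0, [0, 6, 2, 7, 1, 3, 7, 9]),
   (2, [4, 9, 5, 8, 5, 9, 11, 4, 11, 5, 8]),
   (2, [4, 8, 5, 9, 4, 10, 5, 11, 8, 4, 9]),
   (2, [4, 9, 9, 10, 4, 4, 10, 8, 4, 9, 4, 9]),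
   (0, [2, 1, 9, 3, 7, 0, 6, 2]),
   (0, [0, 0, 0, 3, 0, 0, 2, 1, 3, 1, 2, 0, 3]),
   (0, [0, 4, 4, 9, 0, 5, 7, 9]),
   (3, [11, 2, 0, 0, 2, 0, 3, 1, 2, 0, 0, 0, 3, 10, 0, 0, 3, 1, 2, 1, 1, 2, 0, 0, 0]),
   (0, [0, 0, 0, 3, 1, 1, 3, 0, 3, 0, 0, 2, 0, 2]),
   (2, [4, 8, 5, 9, 4, 11, 5, 11, 8, 4, 9]),
   (2, [4, 9, 4, 9, 10, 5, 5, 11, 4, 9]),
   (0, [0, 0, 6, 3, 3, 1, 9, 7]),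
   (0, [0, 0, 6, 8, 1, 2, 5, 5]),
   (0, [0, 6, 6, 5, 9, 3, 6, 2])]

/-- Some base rules. -/
def mclBase2 : List (ℕ × List ℕ) :=
  [(2, [4, 4, 10, 4, 4, 9, 4, 9, 4, 9, 5, 11]),
   (1, [4, 4, 10, 5, 10, 4, 11, 4, 11, 4]),
   (2, [4, 9, 5, 10, 4, 4, 10, 5, 5, 9, 4, 9]),
   (1, [2, 10, 7, 10, 4, 4, 6, 11, 4, 7]),
   (1, [2, 5, 6, 3, 10, 7, 11, 6, 11, 4]),
   (2, [4, 8, 5, 9, 5, 8, 4, 9, 11, 4, 11]),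
   (2, [4, 8, 4, 9, 5, 10, 5, 11, 8, 5, 9]),
   (0, [0, 5, 7, 9, 0, 5, 5, 9]),
   (1, [2, 4, 7, 7, 7, 3, 11, 5, 11, 6]),
   (1, [2, 10, 4, 4, 10, 3, 11, 5, 5, 11]),
   (1, [4, 10, 4, 3, 11, 5, 11, 7, 11]),
   (1, [4, 4, 10, 2, 10, 5, 5, 11, 3, 11]),
   (1, [4, 10, 4, 4, 10, 5, 11, 5, 5, 11]),
   (1, [2, 7, 10, 4, 10, 7, 3, 5, 3, 5]),
   (0, [0, 2, 8, 0, 7, 0, 6, 8]),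
   (2, [4, 9, 4, 9, 5, 10, 4, 4, 11, 5, 5, 9]),
   (1, [2, 10, 4, 10, 3, 6, 6, 3, 7, 5]),
   (2, [8, 8, 8, 10, 5, 9, 5, 8, 11, 9, 11]),
   (2, [4, 4, 8, 10, 4, 8, 5, 8, 4, 8, 11, 9]),
   (1, [5, 10, 5, 6, 11, 4, 11, 2, 11]),
   (2, [4, 4, 10, 4, 4, 8, 5, 8, 5, 8, 4, 11]),
   (1, [4, 10, 2, 5, 10, 5, 11, 6, 11]),
   (2, [4, 9, 10, 4, 4, 10, 4, 9, 4, 9]),
   (2, [4, 8, 4, 10, 9, 9, 9, 11, 8, 11, 9]),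
   (1, [4, 3, 10, 5, 11, 7, 11, 4, 11]),
   (1, [5, 10, 4, 3, 11, 4, 11, 7, 11]),
   (1, [4, 10, 3, 10, 5, 11, 7, 4, 11]),
   (1, [2, 10, 3, 10, 2, 5, 6, 3, 4, 11]),
   (1, [2, 10, 3, 4, 10, 2, 5, 7, 11, 5]),
   (1, [2, 4, 10, 2, 10, 5, 5, 3, 11, 7]),
   (1, [4, 4, 10, 2, 10, 4, 4, 11, 3, 11]),
   (1, [4, 10, 5, 3, 11, 7, 2, 11, 7]),
   (1, [2, 6, 10, 2, 4, 10, 5, 6, 11, 2]),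
   (2, [4, 4, 8, 10, 4, 9, 4, 4, 8, 4, 11, 9]),
   (1, [2, 5, 3, 5, 2, 11, 4, 11, 6, 4]),
   (1, [4, 3, 10, 4, 2, 11, 3, 5, 11, 6]),
   (1, [4, 10, 7, 4, 11, 5, 11, 3, 11]),
   (2, [4, 4, 10, 9, 4, 10, 4, 4, 11, 5, 8, 11]),
   (2, [4, 4, 8, 5, 10, 9, 5, 5, 8, 11, 5, 9]),
   (2, [4, 4, 10, 5, 9, 10, 4, 4, 11, 8, 4, 11]),
   (2, [4, 10, 8, 4, 4, 9, 10, 9, 5, 9, 5, 9]),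
   (1, [4, 3, 10, 2, 10, 3, 11, 5, 2, 7]),
   (1, [4, 10, 7, 10, 5, 11, 4, 3, 11]),
   (1, [4, 3, 10, 4, 11, 7, 11, 5, 11]),
   (1, [4, 2, 7, 10, 7, 11, 7, 2, 6, 11]),
   (1, [2, 7, 7, 10, 5, 10, 6, 5, 3, 4]),
   (1, [2, 4, 4, 10, 3, 10, 5, 3, 6, 11]),
   (1, [2, 4, 3, 4, 7, 11, 4, 11, 3, 5]),
   (1, [2, 10, 7, 10, 6, 11, 6, 4, 6, 4]),
   (1, [2, 10, 3, 4, 4, 2, 11, 3, 5, 5]),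
   (1, [2, 10, 3, 10, 5, 5, 5, 3, 6, 11]),
   (1, [7, 4, 10, 5, 11, 3, 11, 4, 11]),
   (2, [4, 4, 10, 8, 4, 10, 4, 4, 11, 5, 9, 11]),
   (2, [4, 4, 10, 9, 9, 10, 4, 4, 11, 8, 8, 11]),
   (2, [4, 8, 4, 10, 8, 8, 8, 8, 11, 8, 11, 9]),
   (1, [2, 7, 4, 3, 10, 2, 11, 3, 11, 5]),
   (1, [2, 4, 2, 6, 6, 6, 11, 5, 11, 6]),
   (1, [2, 10, 7, 4, 11, 5, 3, 11, 7]),
   (2, [4, 9, 4, 9, 5, 10, 5, 5, 11, 5, 5, 9]),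
   (1, [2, 10, 7, 2, 10, 7, 4, 11, 5, 2]),
   (1, [2, 10, 3, 10, 4, 3, 6, 11]),
   (1, [2, 10, 3, 10, 5, 2, 7, 4, 3, 11]),
   (1, [2, 4, 4, 10, 3, 11, 5, 3, 6, 11]),
   (1, [4, 10, 6, 10, 5, 11, 2, 5, 11])]

/-- Some base rules. -/
def mclBase3 : List (ℕ × List ℕ) :=
  [(1, [4, 4, 7, 10, 6, 4, 4, 7, 11, 6]),
   (2, [4, 4, 9, 10, 8, 4, 8, 4, 8, 4, 11, 8]),
   (2, [4, 9, 9, 4, 9, 9, 11, 5, 11, 5, 8]),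
   (1, [4, 3, 10, 7, 2, 4, 11, 2, 11, 4]),
   (2, [4, 4, 9, 10, 9, 5, 9, 5, 9, 4, 11, 8]),
   (2, [4, 9, 4, 10, 4, 10, 8, 5, 9, 5, 8]),
   (2, [4, 4, 8, 5, 10, 4, 4, 11, 8, 5, 8, 4]),
   (2, [4, 9, 10, 8, 4, 9, 11, 8, 4, 9, 11, 8]),
   (1, [2, 6, 10, 2, 4, 11, 5, 6, 11, 2]),
   (0, [2, 5, 7, 2, 5, 7]),
   (1, [2, 4, 3, 5, 7, 11, 5, 11, 3, 4]),
   (1, [4, 10, 4, 3, 10, 5, 11, 7, 11]),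
   (1, [2, 10, 5, 10, 7, 10, 4, 11, 4, 2]),
   (1, [2, 10, 7, 4, 10, 5, 3, 11, 7]),
   (2, [4, 4, 8, 10, 4, 4, 11, 5, 8, 5, 8, 4]),
   (1, [4, 2, 10, 3, 5, 11, 6, 4, 3, 11]),
   (1, [2, 10, 3, 10, 3, 6, 3, 6, 5, 11]),
   (2, [4, 10, 4, 4, 10, 9, 4, 9, 4, 9]),
   (2, [4, 10, 9, 4, 9, 9, 4, 8, 4, 9, 11]),
   (2, [4, 9, 10, 8, 4, 9, 10, 8, 4, 9, 11, 8]),
   (2, [4, 8, 4, 9, 4, 8, 5, 9, 11, 5, 11]),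
   (1, [2, 6, 6, 6, 10, 5, 11, 6, 2, 4]),
   (1, [2, 10, 3, 5, 10, 2, 5, 7, 11, 4]),
   (1, [2, 6, 10, 2, 11, 3, 11, 4, 2]),
   (1, [2, 4, 4, 10, 7, 11, 6, 11, 4, 7]),
   (2, [4, 9, 10, 4, 10, 9, 4, 9, 9, 4, 8]),
   (1, [2, 4, 2, 6, 10, 5, 11, 6, 3, 4]),
   (2, [4, 4, 8, 4, 10, 9, 5, 5, 8, 11, 4, 9]),
   (2, [4, 8, 4, 9, 5, 11, 5, 11, 8, 5, 9]),
   (2, [4, 10, 4, 8, 5, 9, 5, 8, 4, 9, 11]),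
   (1, [2, 5, 7, 10, 4, 2, 11, 3, 5, 11]),
   (1, [2, 6, 6, 6, 5, 3, 7, 11, 4, 11]),
   (0, [6, 6, 6, 6, 6, 6, 6]),
   (2, [4, 4, 10, 9, 4, 10, 5, 5, 11, 5, 8, 11]),
   (2, [4, 4, 10, 5, 8, 10, 5, 5, 11, 9, 4, 11]),
   (2, [4, 4, 8, 5, 8, 5, 10, 5, 5, 11, 8, 4]),
   (1, [2, 10, 4, 10, 7, 10, 5, 11, 4, 2]),
   (1, [5, 10, 3, 10, 4, 11, 7, 4, 11]),
   (1, [2, 10, 5, 10, 6, 4, 7, 5, 6, 4]),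
   (2, [4, 4, 10, 4, 8, 10, 4, 4, 11, 9, 5, 11]),
   (1, [3, 10, 7, 2, 11, 7, 4, 11, 5]),
   (2, [4, 4, 10, 4, 9, 4, 9, 4, 9, 11]),
   (1, [2, 10, 7, 2, 5, 11, 2, 11, 2]),
   (2, [4, 9, 4, 9, 10, 4, 4, 11, 4, 9]),
   (2, [4, 8, 10, 9, 4, 4, 8, 11, 4, 8, 5, 8]),
   (2, [4, 4, 10, 5, 9, 4, 9, 4, 9, 5, 5, 11]),
   (2, [4, 10, 5, 8, 4, 9, 5, 8, 5, 9, 11]),
   (2, [4, 4, 10, 8, 5, 8, 5, 8, 5, 11]),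
   (1, [4, 3, 10, 5, 2, 11, 3, 4, 11, 6]),
   (2, [4, 4, 10, 8, 5, 10, 4, 4, 11, 4, 9, 11]),
   (2, [4, 4, 10, 8, 5, 10, 5, 5, 11, 4, 9, 11]),
   (2, [4, 8, 10, 5, 10, 8, 8, 4, 8, 8, 8]),
   (2, [4, 4, 8, 10, 9, 5, 9, 4, 9, 5, 11, 9]),
   (2, [4, 4, 10, 8, 4, 10, 5, 5, 11, 5, 9, 11]),
   (1, [2, 10, 4, 4, 3, 11, 7, 2, 4, 11]),
   (1, [2, 4, 10, 2, 10, 4, 4, 3, 11, 7]),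
   (1, [5, 6, 10, 4, 11, 2, 11, 5, 11]),
   (1, [2, 10, 2, 10, 2, 11, 2, 11, 2, 11]),
   (1, [2, 10, 7, 10, 6, 10, 6, 4, 6, 4]),
   (2, [4, 4, 10, 4, 4, 10, 8, 5, 8, 5, 8, 4]),
   (2, [4, 8, 4, 8, 10, 8, 5, 5, 9, 11, 5, 8]),
   (1, [2, 4, 7, 10, 4, 10, 6, 6, 3, 5]),
   (2, [4, 9, 4, 9, 4, 4, 11, 5, 5, 11, 5, 9]),
   (2, [4, 10, 4, 10, 9, 4, 9, 4, 9, 11, 4, 11])]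

/-- Some base rules. -/
def mclBase4 : List (ℕ × List ℕ) :=
  [(1, [2, 7, 2, 10, 2, 10, 3, 11, 4, 7]),
   (2, [4, 4, 8, 5, 8, 5, 11, 5, 5, 11, 8, 4]),
   (2, [4, 4, 8, 5, 8, 10, 5, 5, 11, 5, 8, 4]),
   (2, [4, 10, 8, 8, 5, 8, 8, 5, 9, 4, 11]),
   (2, [4, 9, 4, 4, 10, 5, 5, 11, 5, 9, 4, 9]),
   (2, [4, 4, 10, 5, 8, 10, 4, 4, 11, 9, 4, 11]),
   (1, [2, 6, 10, 2, 10, 3, 11, 4, 2]),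
   (2, [4, 4, 10, 4, 8, 5, 8, 5, 8, 5, 5, 11]),
   (1, [2, 4, 3, 5, 7, 10, 5, 11, 3, 4]),
   (3, [11, 0, 0, 3, 0, 2, 0, 0, 0, 2, 0, 0, 2, 10, 1, 1, 1, 3, 0, 3, 1, 1, 2]),
   (2, [4, 4, 8, 5, 8, 10, 4, 4, 11, 5, 8, 4]),
   (1, [4, 10, 4, 10, 5, 11, 5, 11]),
   (1, [2, 10, 3, 5, 10, 6, 4, 3, 11, 4]),
   (1, [4, 10, 7, 4, 10, 5, 11, 3, 11]),
   (1, [2, 5, 7, 10, 5, 2, 11, 3, 4, 11]),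
   (2, [4, 8, 4, 8, 4, 10, 8, 5, 5, 9, 11, 8]),
   (1, [2, 10, 3, 4, 10, 6, 4, 3, 11, 5]),
   (1, [2, 10, 3, 10, 7, 2, 5, 11]),
   (2, [4, 4, 10, 8, 4, 9, 4, 9, 4, 9, 9, 11]),
   (1, [2, 10, 2, 10, 2, 10, 2, 11, 2, 11]),
   (1, [5, 6, 10, 5, 11, 2, 11, 4, 11]),
   (2, [4, 8, 4, 9, 10, 4, 11, 9, 4, 9, 9]),
   (1, [4, 10, 2, 5, 11, 5, 11, 6, 11]),
   (2, [4, 10, 8, 5, 9, 5, 8, 4, 9, 4, 11]),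
   (2, [4, 4, 8, 5, 10, 9, 4, 4, 8, 11, 5, 9]),
   (1, [4, 10, 4, 10, 3, 11, 5, 11, 7]),
   (2, [4, 4, 8, 10, 4, 4, 10, 5, 8, 5, 8, 4]),
   (2, [4, 4, 10, 5, 8, 4, 4, 4, 8, 5, 8, 11]),
   (1, [5, 10, 2, 5, 11, 4, 11, 6, 11]),
   (1, [2, 7, 2, 10, 2, 11, 3, 11, 4, 7]),
   (2, [4, 8, 5, 9, 10, 5, 11, 4, 8, 4, 9]),
   (1, [5, 10, 7, 4, 11, 4, 11, 3, 11]),
   (2, [4, 9, 10, 5, 10, 5, 8, 5, 9, 4, 8]),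
   (2, [4, 4, 9, 10, 5, 9, 5, 9, 5, 9, 11, 8]),
   (2, [4, 9, 4, 9, 9, 10, 5, 5, 11, 8, 4, 9]),
   (2, [4, 10, 5, 10, 9, 4, 9, 4, 9, 11, 5, 11]),
   (2, [4, 4, 10, 9, 9, 4, 9, 4, 9, 4, 8, 11]),
   (2, [4, 8, 5, 8, 4, 8, 10, 9, 5, 5, 8, 11]),
   (1, [2, 10, 5, 10, 7, 4, 11, 4, 11, 2]),
   (2, [4, 4, 10, 4, 9, 10, 4, 4, 11, 8, 5, 11]),
   (2, [4, 8, 4, 8, 10, 8, 4, 4, 9, 11, 5, 8]),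
   (1, [2, 10, 4, 10, 7, 4, 11, 5, 11, 2]),
   (2, [4, 4, 10, 5, 9, 10, 5, 5, 11, 8, 4, 11]),
   (2, [4, 4, 8, 5, 8, 5, 8, 11, 5, 5, 11, 4]),
   (3, [11, 2, 1, 2, 0, 2, 1, 2, 1, 2, 0, 10, 2, 0, 0, 3, 0, 3, 1, 1, 3, 1, 1]),
   (1, [2, 5, 10, 5, 11, 6, 11, 4, 11]),
   (2, [4, 4, 10, 5, 8, 5, 8, 5, 8, 11]),
   (2, [4, 9, 4, 9, 4, 10, 5, 5, 11, 9]),
   (2, [4, 9, 4, 9, 4, 11, 5, 5, 11, 9]),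
   (2, [4, 9, 4, 9, 9, 10, 4, 4, 11, 8, 4, 9]),
   (2, [5, 9, 10, 4, 10, 4, 8, 8, 5, 8, 8]),
   (2, [4, 10, 4, 8, 8, 5, 8, 8, 5, 9, 11]),
   (2, [4, 4, 10, 4, 8, 10, 5, 5, 11, 9, 5, 11]),
   (1, [4, 4, 10, 4, 10, 4, 11, 5, 11, 4]),
   (1, [2, 7, 7, 2, 10, 5, 11, 3, 4, 6]),
   (2, [4, 4, 8, 10, 5, 9, 4, 4, 8, 5, 11, 9]),
   (2, [4, 10, 8, 4, 9, 5, 8, 5, 9, 5, 11]),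
   (2, [4, 4, 10, 8, 10, 4, 4, 11, 9, 11]),
   (2, [4, 4, 10, 9, 10, 4, 4, 11, 8, 11]),
   (1, [2, 10, 5, 10, 5, 6, 11, 4, 11]),
   (2, [4, 9, 4, 9, 4, 9, 11, 5, 5, 11]),
   (2, [4, 4, 10, 8, 8, 10, 4, 4, 11, 9, 9, 11]),
   (2, [4, 4, 10, 9, 5, 8, 5, 8, 5, 8, 8, 11]),
   (2, [4, 4, 10, 4, 9, 10, 5, 5, 11, 8, 5, 11])]

/-- Some base rules. -/
def mclBase5 : List (ℕ × List ℕ) :=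
  [(2, [4, 4, 10, 9, 10, 5, 5, 11, 8, 11]),
   (2, [4, 4, 10, 8, 10, 5, 5, 11, 9, 11]),
   (2, [4, 9, 9, 10, 5, 10, 5, 8, 4, 9, 9]),
   (2, [4, 4, 10, 9, 5, 10, 4, 4, 11, 4, 8, 11]),
   (2, [4, 8, 4, 9, 10, 5, 11, 5, 8, 5, 9]),
   (1, [4, 10, 5, 10, 5, 11, 4, 11]),
   (2, [4, 4, 10, 8, 8, 5, 8, 5, 8, 5, 9, 11]),
   (1, [7, 10, 5, 10, 4, 3, 11, 4, 11]),
   (2, [4, 9, 4, 8, 10, 5, 5, 11, 9, 9, 4, 9]),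
   (2, [4, 9, 9, 10, 5, 11, 5, 8, 4, 9, 9]),
   (2, [4, 4, 8, 5, 10, 5, 5, 11, 8, 5, 8, 4]),
   (2, [4, 4, 10, 9, 9, 10, 5, 5, 11, 8, 8, 11]),
   (2, [4, 4, 10, 8, 8, 10, 5, 5, 11, 9, 9, 11]),
   (2, [4, 4, 10, 9, 5, 10, 5, 5, 11, 4, 8, 11]),
   (2, [4, 4, 8, 10, 5, 9, 5, 5, 8, 5, 11, 9]),
   (1, [2, 5, 10, 4, 11, 6, 11, 5, 11]),
   (1, [2, 5, 10, 4, 10, 6, 11, 5, 11]),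
   (1, [4, 10, 5, 10, 3, 11, 4, 11, 7]),
   (2, [4, 9, 9, 5, 10, 5, 11, 8, 4, 9, 9]),
   (1, [4, 10, 2, 10, 5, 11, 5, 6, 11]),
   (1, [2, 10, 4, 10, 7, 11, 5, 11, 4, 2]),
   (2, [4, 4, 10, 9, 4, 9, 4, 9, 4, 11]),
   (2, [4, 9, 4, 10, 4, 4, 11, 9, 4, 9]),
   (1, [2, 10, 5, 10, 7, 11, 4, 11, 4, 2]),
   (1, [2, 4, 7, 10, 4, 11, 6, 6, 3, 5]),
   (1, [7, 10, 4, 10, 4, 3, 11, 5, 11]),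
   (2, [4, 4, 8, 10, 4, 9, 5, 5, 8, 4, 11, 9]),
   (1, [2, 4, 10, 5, 6, 11, 3, 6, 11]),
   (2, [5, 9, 9, 10, 4, 11, 9, 5, 9, 9, 9]),
   (1, [2, 5, 10, 5, 10, 6, 11, 4, 11]),
   (1, [2, 10, 4, 10, 5, 6, 11, 5, 11]),
   (2, [4, 10, 9, 5, 9, 9, 9, 5, 9, 9, 11]),
   (2, [4, 10, 8, 5, 8, 4, 4, 4, 8, 5, 11, 4]),
   (2, [4, 4, 10, 4, 9, 5, 5, 5, 9, 4, 9, 11])]

/-- The base rules. -/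
def mclBase : List (List (ℕ × List ℕ)) := [mclBase0, mclBase1, mclBase2, mclBase3, mclBase4, mclBase5]

/-- Some hints. -/
def mclHint0 : List (ℕ × ℕ × ℕ × ℕ) :=
  [(1, 0, 4, 1), (1, 1, 3, 1), (1, 2, 0, 1), (1, 3, 2, 1), (1, 4, 8, 0), (1, 5, 7, 1), (1, 6, 8, 1), (1, 7, 2, 0), (1, 8, 8, 1), (1, 9, 4, 1), (1, 10, 3, 1), (1, 9, 6, 1), (1, 11, 0, 1), (1, 12, 0, 1), (1, 13, 9, 0), (1, 14, 0, 1), (1, 9, 1, 1), (1, 15, 5, 1), (1, 16, 2, 1), (1, 17, 6, 0), (1, 18, 1, 0), (1, 13, 7, 1), (1, 6, 1, 1), (1, 19, 2, 1), (1, 17, 4, 1), (1, 15, 1, 1), (1, 20, 0, 0), (1, 21, 2, 0), (1, 21, 6, 1), (1, 22, 3, 1), (1, 23, 0, 1), (1, 24, 7, 0), (1, 4, 6, 0), (1, 25, 6, 0), (1, 21, 7, 1), (1, 26, 0, 1), (1, 27, 1, 0), (1, 22, 0, 1), (1, 19,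 8, 1), (1, 28, 7, 1), (1, 19, 3, 1), (1, 15, 4, 0), (1, 29, 11, 1), (1, 30, 1, 1), (1, 31, 4, 0), (1, 22, 1, 1), (1, 32, 2, 1), (1, 33, 10, 0), (1, 34, 10, 0), (1, 35, 4, 1), (1, 36, 0, 0), (1, 37, 3, 0), (1, 38, 1, 0), (1, 39, 0, 0), (1, 40, 0, 0), (1, 41, 10, 0), (1, 42, 4, 0), (1, 43, 7, 1), (1, 34, 8, 0), (1, 44, 5, 0), (1, 45, 3, 0), (1, 46, 3, 1), (1, 47, 0, 1), (1, 48, 6, 1)]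

/-- Some hints. -/
def mclHint1 : List (ℕ × ℕ × ℕ × ℕ) :=
  [(0, 0, 0, 0), (0, 0, 0, 0), (1, 49, 6, 1), (1, 50, 1, 0), (1, 51, 1, 0), (1, 52, 0, 1), (1, 49, 2, 0), (1, 53, 6, 0), (1, 54, 2, 1), (1, 55, 0, 1), (1, 17, 3, 0), (1, 31, 6, 0), (1, 56, 6, 1), (1, 57, 10, 0), (1, 58, 4, 1), (1, 52, 6, 1), (1, 59, 1, 0), (1, 32, 4, 0), (1, 60, 6, 0), (1, 61, 3, 0), (1, 62, 0, 1), (1, 39, 1, 1), (1, 46, 6, 0), (1, 63, 3, 1), (1, 40, 2, 0), (1, 64, 3, 0), (1, 65, 1, 1), (1, 66, 9, 0), (1, 67, 9, 0), (1, 68, 1, 0), (1, 36, 1, 1), (1, 64, 4, 1), (1, 36, 6, 1), (1, 69, 0, 1), (1, 36, 7, 1), (1, 70, 0, 0), (1, 71, 1, 0), (1, 37, 1, 0), (1, 72, 0, 1), (1, 73, 5, 1), (1, 74, 0, 0), (1, 51, 6, 1), (1, 75, 6, 1), (1, 76, 4, 1), (1, 77,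 2, 1), (1, 69, 1, 0), (1, 38, 0, 0), (1, 24, 0, 0), (1, 78, 7, 0), (1, 79, 3, 1), (1, 80, 2, 0), (1, 80, 7, 0), (1, 81, 3, 0), (1, 82, 2, 0), (1, 83, 5, 1), (1, 50, 7, 0), (1, 84, 3, 1), (1, 31, 4, 1), (1, 85, 7, 0), (1, 86, 1, 1), (1, 87, 5, 1), (1, 88, 2, 1), (1, 85, 4, 1), (1, 60, 6, 1)]

/-- Some hints. -/
def mclHint2 : List (ℕ × ℕ × ℕ × ℕ) :=
  [(0, 0, 0, 0), (0, 0, 0, 0), (1, 40, 7, 1), (1, 89, 4, 0), (0, 0, 0, 0), (0, 0, 0, 0), (1, 90, 2, 1), (1, 60, 5, 1), (1, 91, 6, 1), (1, 36, 3, 0), (1, 92, 0, 1), (1, 93, 7, 0), (1, 94, 3, 1), (1, 95, 4, 1), (1, 96, 8, 1), (1, 44, 3, 1), (1, 97, 5, 0), (1, 13, 7, 0), (1, 58, 0, 1), (1, 98, 3, 1), (1, 51, 1, 1), (1, 49, 7, 1), (1, 75, 4, 1), (1, 99, 7, 1), (1, 60, 7, 1), (1,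 44, 7, 1), (1, 100, 6, 1), (1, 40, 4, 0), (1, 101, 5, 0), (1, 76, 3, 1), (1, 102, 7, 0), (1, 49, 3, 0), (1, 51, 3, 0), (1, 103, 4, 1), (1, 104, 0, 1), (1, 64, 1, 0), (1, 59, 5, 0), (1, 39, 1, 0), (1, 37, 6, 1), (1, 76, 2, 0), (1, 79, 6, 1), (1, 105, 6, 1), (1, 90, 7, 1), (1, 106, 2, 1), (1, 90, 2, 0), (1, 71, 7, 0), (1, 37, 0, 0), (0, 0, 0, 0), (0, 0, 0, 0), (1, 64, 1, 1), (1, 87, 6, 1), (1, 104, 1, 0), (1, 71, 1, 1), (1, 85, 5, 1), (1, 99, 5, 0), (1, 52, 3, 1), (1, 107, 7, 0), (1, 48, 4, 1), (1, 101, 4, 0), (1, 108, 1, 0), (1, 106, 0, 0), (1, 109, 0, 1), (1, 54, 7, 1), (1, 106, 5, 1)]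

/-- Some hints. -/
def mclHint3 : List (ℕ × ℕ × ℕ × ℕ) :=
  [(1, 59, 7, 1), (1, 61, 6, 1), (1, 80, 0, 1), (1, 21, 1, 0), (1, 110, 0, 0), (1, 47, 1, 1), (1, 111, 0, 0), (1, 75, 7, 0), (1, 112, 3, 0), (1, 105, 4, 0), (1, 51, 3, 1), (1, 113, 1, 1), (1, 90, 4, 1), (1, 82, 3, 1), (1, 114, 7, 0), (1, 53, 3, 0), (1, 77, 3, 0), (1, 91, 5, 1), (1, 32, 1, 0), (1, 89, 2, 0), (1, 61, 0, 1), (1, 81, 1, 0), (1, 110, 0, 1), (1, 47, 4, 1), (1, 58, 1, 1), (1, 96, 4, 1), (1, 113, 7, 0), (1, 73, 3, 1), (1, 51, 4, 0), (1, 52, 1, 1), (1, 72, 2, 1), (1, 32, 2, 0), (1, 75, 0, 1), (1, 86, 1, 0), (1, 44, 6, 1), (1, 85, 5, 0), (1, 40, 4, 1), (1, 115, 7, 0), (1, 116, 4, 1), (1, 56, 7, 0), (1, 71, 6, 1), (1, 107, 5, 0), (1, 79, 2, 1), (1, 105, 2,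 0), (1, 52, 5, 1), (1, 82, 6, 0), (1, 82, 0, 1), (1, 105, 5, 1), (1, 98, 4, 0), (1, 91, 6, 0), (1, 54, 2, 0), (1, 72, 0, 0), (1, 115, 1, 0), (1, 117, 11, 1), (1, 98, 2, 0), (1, 72, 7, 1), (1, 107, 3, 0), (1, 54, 3, 1), (1, 79, 7, 1), (1, 58, 6, 1), (1, 118, 1, 0), (1, 61, 1, 1), (1, 72, 5, 1), (1, 39, 2, 0)]

/-- Some hints. -/
def mclHint4 : List (ℕ × ℕ × ℕ × ℕ) :=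
  [(1, 85, 3, 0), (1, 75, 1, 1), (1, 87, 2, 1), (1, 49, 2, 1), (1, 119, 5, 0), (1, 101, 3, 1), (1, 63, 7, 0), (1, 47, 5, 1), (1, 101, 1, 1), (1, 63, 2, 1), (1, 89, 7, 1), (1, 120, 3, 1), (1, 44, 4, 1), (1, 40, 6, 1), (1, 44, 4, 0), (1, 99, 0, 1), (1, 79, 3, 0), (1, 50, 2, 0), (1, 53, 5, 1), (1, 75, 3, 1), (1, 104, 4, 0), (1, 48, 0, 0), (1, 83, 0, 0), (1, 31, 5, 1), (1, 72, 4, 0), (1, 102, 1, 1), (1, 120, 2, 1), (1, 70, 0, 1), (1, 54, 3, 0), (1, 18, 0, 1), (1, 49, 4, 0), (1, 73, 7, 0), (1, 15, 0, 1), (1, 47, 2, 1), (1, 106, 1, 1), (1, 43, 3, 0), (1, 88, 3, 0), (1, 81, 5, 1), (1, 100, 0, 1), (1, 58, 2, 0), (1, 121, 18, 0), (1, 71, 2, 1), (1, 21, 5, 0), (1, 99, 4, 0), (1, 56, 4, 0), (1, 113, 5, 0), (1, 46, 2, 1), (1, 60, 0,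 0), (1, 119, 9, 0), (1, 69, 3, 1), (1, 72, 6, 0), (1, 113, 7, 1), (1, 69, 2, 0), (1, 76, 1, 1), (1, 122, 12, 0), (1, 80, 5, 0), (1, 80, 4, 1), (1, 102, 0, 1), (1, 43, 2, 0), (1, 81, 5, 0), (1, 107, 6, 0), (1, 59, 2, 0), (1, 78, 2, 1), (1, 103, 1, 0)]

/-- Some hints. -/
def mclHint5 : List (ℕ × ℕ × ℕ × ℕ) :=
  [(1, 109, 0, 0), (1, 53, 2, 0), (1, 36, 4, 0), (1, 123, 7, 0), (1, 124, 5, 1), (1, 61, 2, 1), (1, 102, 4, 1), (1, 59, 6, 0), (1, 84, 5, 0), (1, 54, 0, 1), (1, 80, 1, 1), (1, 102, 3, 0), (1, 107, 2, 0), (1, 101, 5, 1), (1, 105, 1, 1), (1, 44, 6, 0), (1, 85, 0, 1), (1, 38, 1, 1), (1, 51, 5, 1), (1, 125, 5, 0), (1, 75, 7, 1), (1, 78, 7, 1), (1, 80, 2, 1), (1, 56, 3, 0), (1, 60, 4, 1), (1, 56, 2, 1), (1, 90, 7, 0), (1,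 69, 6, 1), (1, 99, 2, 1), (1, 54, 1, 1), (1, 62, 1, 1), (1, 101, 4, 1), (1, 126, 7, 0), (1, 127, 3, 0), (1, 57, 2, 0), (1, 77, 1, 1), (1, 43, 1, 1), (1, 43, 2, 1), (1, 40, 1, 1), (1, 105, 0, 1), (1, 36, 1, 0), (1, 47, 4, 0), (1, 78, 1, 1), (1, 128, 11, 1), (1, 129, 2, 1), (1, 130, 9, 1), (1, 122, 13, 1), (1, 80, 3, 0), (1, 79, 0, 0), (1, 37, 6, 0), (1, 70, 2, 0), (1, 60, 1, 1), (1, 99, 7, 0), (1, 131, 8, 1), (1, 79, 1, 1), (1, 113, 2, 0), (1, 119, 3, 1), (1, 69, 4, 0), (1, 48, 1, 1), (1, 85, 0, 0), (1, 98, 3, 0), (1, 56, 1, 1), (1, 18, 1, 1), (1, 106, 0, 1)]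

/-- Some hints. -/
def mclHint6 : List (ℕ × ℕ × ℕ × ℕ) :=
  [(1, 132, 2, 0), (1, 37, 2, 0), (1, 38, 4, 0), (1, 90, 1, 1), (1, 114, 1, 1), (1, 76, 6, 1), (1, 113, 3, 0), (1, 17, 1, 0), (1, 81, 3, 1), (1, 48, 6, 0), (1, 61, 7, 0), (1, 72, 3, 1), (1, 31, 2, 1), (1, 107, 2, 1), (1, 119, 10, 0), (1, 27, 4, 0), (1, 114, 2, 0), (1, 70, 4, 0), (1, 71, 2, 0), (1, 108, 6, 0), (1, 98, 5, 0), (1, 133, 9, 0), (1, 134, 4, 1), (1, 46, 5, 1), (1, 21, 1, 1), (1, 63, 6, 0), (1, 38, 3, 0), (1, 108, 1, 1), (1, 14, 1, 1), (1, 69, 7, 1), (1, 61, 4, 1), (1, 61, 0, 0), (1, 72, 2, 0), (1, 62, 0, 0), (1, 114, 6, 0), (1, 13, 1, 1), (1, 125, 7, 0), (1, 48, 3, 1), (1, 98, 2, 1), (1, 103, 3, 1), (1, 135, 5, 1), (1, 103, 1, 1), (1, 59, 0, 0), (1, 84,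 4, 1), (1, 71, 3, 1), (1, 98, 1, 1), (1, 83, 1, 1), (1, 87, 4, 1), (1, 86, 6, 0), (1, 58, 6, 0), (1, 22, 3, 0), (1, 101, 2, 0), (1, 112, 1, 1), (1, 73, 4, 1), (1, 20, 9, 1), (1, 136, 7, 0), (1, 137, 9, 1), (1, 69, 5, 1), (1, 122, 6, 1), (1, 84, 6, 0), (1, 84, 2, 0), (1, 58, 3, 0), (1, 138, 6, 0), (1, 139, 5, 1)]

/-- Some hints. -/
def mclHint7 : List (ℕ × ℕ × ℕ × ℕ) :=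
  [(1, 140, 1, 1), (1, 91, 0, 1), (1, 58, 3, 1), (1, 119, 12, 1), (1, 45, 2, 0), (1, 91, 4, 1), (1, 119, 0, 0), (1, 90, 3, 0), (1, 64, 2, 1), (1, 37, 1, 1), (1, 119, 2, 0), (1, 119, 11, 0), (1, 119, 4, 0), (1, 54, 0, 0), (1, 73, 6, 1), (1, 50, 6, 0), (1, 118, 2, 1), (1, 11, 3, 1), (1, 135, 6, 0), (1, 38, 2, 0), (1, 141, 4, 1), (1, 61, 3, 1), (1, 44, 7, 0), (1, 46, 4, 0), (1, 126, 6, 0), (1, 99, 1, 1), (1, 108, 2, 0), (1, 135, 2, 0), (1, 86, 5, 1), (1, 53, 7, 0), (1, 142, 1, 1), (1, 86, 7, 0), (1, 54, 4, 0), (1, 136, 8, 0), (1, 143, 8, 0), (1, 122, 1, 1), (1, 54, 5, 1), (1, 27, 7, 0), (1, 51, 2, 1), (1, 70, 3, 1), (1, 101, 2, 1), (1, 88, 1, 1), (1, 122, 2, 1), (1, 126, 0, 1), (1, 101, 7, 0), (1, 108, 5, 0), (1, 69, 2, 1),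 (1, 125, 5, 1), (1, 69, 1, 1), (1, 85, 1, 1), (1, 119, 1, 1), (1, 81, 1, 1), (1, 91, 1, 1), (1, 144, 8, 1), (1, 81, 6, 1), (1, 135, 1, 1), (1, 61, 2, 0), (1, 107, 1, 1), (1, 89, 6, 0), (1, 59, 1, 1), (1, 20, 9, 0), (1, 46, 5, 0), (1, 44, 5, 1), (1, 120, 1, 1)]

/-- Some hints. -/
def mclHint8 : List (ℕ × ℕ × ℕ × ℕ) :=
  [(1, 84, 4, 0), (1, 60, 3, 0), (1, 77, 2, 0), (1, 31, 3, 1), (1, 51, 0, 0), (1, 104, 2, 0), (1, 49, 1, 1), (1, 145, 10, 0), (1, 22, 4, 1), (1, 146, 11, 1), (1, 136, 9, 0), (1, 147, 2, 0), (1, 148, 11, 1), (1, 149, 8, 1), (1, 150, 8, 1), (1, 151, 9, 0), (1, 118, 0, 0), (1, 122, 8, 0), (1, 152, 4, 0), (1, 153, 5, 0), (1, 154, 0, 0), (1, 155, 8, 1), (1, 97, 7, 0), (1, 25, 3, 1), (1, 9, 5, 0), (1, 156, 9, 1),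 (1, 157, 8, 0), (1, 27, 3, 0), (1, 158, 9, 1), (1, 137, 0, 0), (1, 9, 6, 0), (1, 159, 8, 0), (1, 160, 2, 1), (1, 93, 8, 0), (1, 20, 6, 1), (1, 161, 3, 1), (1, 162, 6, 0), (1, 163, 8, 0), (1, 158, 4, 1), (1, 33, 0, 0), (1, 66, 0, 0), (1, 145, 1, 0), (1, 68, 2, 0), (1, 156, 8, 1), (1, 157, 5, 1), (1, 164, 0, 0), (1, 28, 2, 1), (1, 165, 8, 1), (1, 166, 2, 0), (1, 167, 7, 1), (1, 168, 11, 1), (1, 32, 5, 1), (1, 26, 11, 1), (1, 43, 1, 0), (1, 169, 1, 1), (1, 138, 2, 0), (1, 160, 8, 1), (1, 41, 0, 0), (1, 68, 4, 0), (1, 170, 0, 0), (1, 171, 3, 0), (1, 172, 2, 0), (1, 173, 3, 1), (1, 6, 9, 1)]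

/-- Some hints. -/
def mclHint9 : List (ℕ × ℕ × ℕ × ℕ) :=
  [(1, 168, 2, 1), (1, 174, 1, 1), (1, 157, 9, 0), (1, 9, 1, 0), (1, 16, 4, 1), (1, 175, 2, 0), (1, 23, 0, 0), (1, 176, 9, 0), (1, 21, 4, 1), (1, 177, 0, 1), (1, 4, 7, 0), (1, 178, 9, 0), (1, 154, 5, 0), (1, 179, 7, 0), (1, 180, 9, 1), (1, 181, 9, 1), (1, 22, 5, 1), (1, 137, 3, 0), (1, 175, 1, 0), (1, 157, 0, 0), (1, 12, 9, 1), (1, 182, 0, 1), (1, 151, 1, 0), (1, 40, 5, 1), (1, 92, 1, 1), (1, 183, 1, 0), (1, 2, 0, 0), (1, 184, 6, 0), (1, 16, 6, 1), (1, 97, 6, 0), (1, 131, 7, 1), (1, 185, 0, 0), (1, 186, 7, 0), (1, 187, 8, 1), (1, 8, 9, 1), (1, 188, 4, 1), (1, 137, 7, 0), (1, 189, 5, 1), (1, 190, 9, 0), (1, 15, 6, 1), (1, 183, 3, 0), (1, 20, 8, 0), (1, 162, 4, 0),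 (1, 184, 5, 0), (1, 191, 8, 0), (1, 35, 9, 1), (1, 6, 3, 0), (1, 8, 6, 1), (1, 9, 2, 1), (1, 4, 9, 0), (1, 8, 5, 1), (1, 192, 0, 1), (1, 177, 2, 1), (1, 9, 7, 1), (1, 97, 4, 1), (1, 37, 7, 1), (1, 166, 3, 0), (1, 144, 1, 1), (1, 163, 9, 0), (1, 22, 2, 0), (1, 193, 8, 1), (1, 182, 8, 0), (1, 194, 2, 0), (1, 181, 8, 1)]

/-- Some hints. -/
def mclHint10 : List (ℕ × ℕ × ℕ × ℕ) :=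
  [(1, 6, 1, 0), (1, 174, 9, 1), (1, 195, 1, 0), (1, 9, 7, 0), (1, 172, 4, 0), (1, 40, 3, 0), (1, 196, 2, 0), (1, 197, 2, 1), (1, 177, 1, 1), (1, 192, 9, 1), (1, 20, 7, 0), (1, 32, 1, 1), (1, 165, 9, 1), (1, 151, 0, 1), (1, 100, 2, 0), (1, 58, 5, 1), (1, 182, 4, 1), (1, 183, 5, 0), (1, 188, 2, 1), (1, 8, 6, 0), (1, 6, 2, 0), (1, 29, 0, 1), (1, 182, 9, 0), (1, 151, 0, 0), (1, 37, 4, 0), (1, 43, 0, 1), (1, 39, 7, 1), (0, 0, 0, 0), (1, 115, 6, 0), (1, 56, 7, 1), (1, 127, 2, 0), (1, 198, 3, 1), (1, 40, 1, 0), (1, 174, 2, 1), (1, 199, 2, 1), (1, 133, 5, 0), (1, 100, 1, 0), (1, 200, 0, 0), (1, 4, 3, 0), (1, 104, 7, 1), (0, 0, 0, 0), (1, 36, 5, 0), (1, 15, 3, 0), (1, 97, 9, 0), (1, 13, 6, 0), (1, 118, 6, 1), (1, 79, 1, 0), (1,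 125, 6, 0), (1, 90, 3, 1), (1, 201, 0, 1), (1, 56, 0, 1), (1, 70, 6, 1), (1, 58, 1, 0), (1, 47, 5, 0), (1, 89, 1, 0), (1, 202, 3, 0), (1, 172, 3, 0), (1, 38, 0, 1), (1, 203, 8, 1), (1, 204, 3, 1), (1, 198, 2, 1), (1, 151, 10, 0), (1, 41, 2, 0), (1, 197, 1, 1)]

/-- Some hints. -/
def mclHint11 : List (ℕ × ℕ × ℕ × ℕ) :=
  [(1, 31, 6, 1), (1, 205, 0, 1), (1, 200, 2, 0), (1, 206, 2, 0), (1, 17, 0, 0), (1, 11, 4, 1), (1, 15, 2, 1), (1, 201, 2, 1), (1, 43, 0, 0), (1, 71, 6, 0), (1, 104, 1, 1), (1, 64, 6, 1), (1, 187, 3, 1), (1, 10, 8, 1), (1, 207, 2, 0), (1, 183, 2, 0), (1, 208, 9, 1), (1, 20, 5, 0), (1, 168, 3, 1), (1, 60, 7, 0), (1, 173, 8, 1), (1, 132, 4, 0), (1, 13, 0, 0), (1, 16, 5, 1), (1, 209, 1, 0), (0, 0, 0, 0), (0,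 0, 0, 0), (1, 143, 6, 1), (1, 42, 10, 0), (1, 210, 2, 0), (1, 156, 1, 1), (1, 177, 9, 0), (1, 13, 5, 1), (1, 97, 2, 0), (1, 211, 3, 1), (1, 31, 3, 0), (1, 212, 4, 0), (1, 17, 2, 1), (1, 16, 6, 0), (1, 44, 1, 1), (1, 213, 8, 1), (1, 214, 1, 1), (1, 180, 1, 1), (1, 214, 0, 1), (1, 169, 2, 1), (1, 157, 1, 0), (1, 190, 2, 0), (1, 215, 1, 0), (1, 12, 1, 1), (1, 51, 2, 0), (1, 56, 0, 0), (1, 152, 3, 0), (1, 216, 2, 0), (1, 129, 5, 0), (1, 217, 3, 1), (1, 95, 1, 0), (1, 141, 6, 1), (1, 184, 4, 0), (1, 218, 5, 0), (1, 9, 5, 1), (1, 21, 5, 1), (1, 216, 1, 0), (1, 207, 0, 0), (1, 163, 3, 0)]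

/-- Some hints. -/
def mclHint12 : List (ℕ × ℕ × ℕ × ℕ) :=
  [(1, 141, 3, 1), (1, 67, 6, 0), (1, 55, 1, 1), (1, 219, 3, 0), (1, 37, 0, 1), (1, 57, 7, 0), (1, 65, 2, 1), (1, 220, 8, 0), (1, 221, 1, 1), (1, 65, 3, 1), (1, 67, 10, 0), (1, 42, 3, 0), (1, 176, 8, 0), (1, 97, 5, 1), (1, 56, 2, 0), (1, 107, 7, 1), (1, 202, 4, 0), (1, 127, 0, 1), (1, 173, 9, 1), (1, 88, 6, 1), (1, 222, 2, 0), (1, 60, 3, 1), (1, 39, 0, 1), (1, 86, 6, 1), (1, 187, 2, 1), (1, 201, 1, 1), (1, 223, 6, 0), (1, 24, 1, 1), (1, 84, 3, 0), (1, 20, 2, 0), (1, 4, 4, 0), (1, 144, 4, 1), (1, 96, 2, 1), (1, 83, 2, 1), (1, 224, 0, 0), (1, 40, 0, 1), (1, 77, 0, 0), (1, 106, 3, 1), (1, 136, 1, 0), (1, 4, 2, 0), (1, 154, 8, 0), (1, 17, 5, 0), (1, 177, 4, 0), (1,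 106, 1, 0), (1, 142, 5, 0), (1, 63, 3, 0), (1, 84, 7, 0), (1, 45, 1, 0), (1, 101, 0, 1), (1, 21, 3, 0), (1, 102, 6, 0), (1, 16, 1, 1), (1, 175, 4, 0), (1, 213, 2, 1), (1, 20, 1, 1), (1, 160, 3, 1), (1, 225, 3, 0), (1, 226, 7, 1), (1, 115, 2, 0), (1, 35, 10, 1), (1, 227, 1, 1), (1, 175, 0, 0), (1, 172, 9, 0), (1, 223, 3, 0)]

/-- Some hints. -/
def mclHint13 : List (ℕ × ℕ × ℕ × ℕ) :=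
  [(1, 15, 3, 1), (1, 60, 0, 1), (1, 15, 6, 0), (1, 27, 8, 0), (1, 175, 5, 1), (1, 87, 0, 1), (1, 11, 1, 1), (1, 215, 2, 0), (1, 223, 2, 0), (1, 64, 3, 1), (1, 88, 2, 0), (1, 44, 0, 1), (1, 11, 5, 1), (1, 16, 3, 1), (1, 162, 1, 0), (1, 191, 0, 0), (1, 228, 3, 1), (1, 66, 11, 0), (1, 71, 0, 1), (1, 213, 9, 1), (1, 203, 7, 1), (1, 229, 8, 0), (1, 18, 0, 0), (1, 15, 2, 0), (1, 36, 2, 0), (1, 144, 2, 1), (1, 22, 1, 0), (1, 38, 2, 1), (1, 60, 1, 0), (1, 21, 2, 1), (1, 230, 4, 0), (1, 6, 5, 0), (1, 231, 0, 1), (1, 77, 1, 0), (1, 113, 6, 1), (1, 73, 1, 1), (1, 21, 6, 0), (1, 141, 9, 1), (1, 85, 2, 1), (1, 54, 4, 1), (1, 232, 8, 0), (1, 159, 2, 0), (1, 233, 6, 1), (1, 101, 7, 1), (1, 166, 1, 0), (1, 108, 3, 0), (1, 51, 7, 1), (1,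 59, 2, 1), (1, 107, 4, 0), (1, 37, 5, 1), (1, 234, 2, 1), (1, 44, 1, 0), (1, 70, 5, 1), (1, 112, 0, 1), (1, 63, 5, 0), (1, 85, 3, 1), (1, 56, 4, 1), (1, 72, 6, 1), (1, 47, 0, 0), (1, 71, 0, 0), (1, 106, 6, 0), (1, 59, 4, 1), (1, 74, 0, 1), (1, 92, 2, 1)]

/-- Some hints. -/
def mclHint14 : List (ℕ × ℕ × ℕ × ℕ) :=
  [(1, 150, 5, 1), (1, 235, 3, 1), (1, 236, 1, 1), (1, 237, 0, 0), (1, 124, 3, 1), (1, 52, 0, 0), (1, 56, 1, 0), (1, 99, 6, 1), (1, 105, 7, 0), (1, 112, 7, 1), (1, 82, 6, 1), (1, 22, 5, 0), (1, 32, 0, 1), (1, 54, 5, 0), (1, 36, 0, 1), (1, 5, 8, 1), (1, 182, 2, 1), (1, 73, 6, 0), (1, 78, 6, 0), (1, 83, 0, 1), (1, 66, 5, 0), (1, 123, 8, 0), (1, 238, 1, 1), (1, 239, 0, 0), (1, 97, 7, 1), (1, 17, 5, 1), (1, 213, 7,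 1), (1, 73, 0, 0), (1, 15, 0, 0), (1, 100, 2, 1), (1, 192, 1, 1), (1, 47, 2, 0), (1, 32, 3, 0), (1, 71, 7, 1), (1, 47, 1, 0), (1, 44, 0, 0), (1, 36, 4, 1), (1, 105, 6, 0), (1, 101, 3, 0), (1, 82, 1, 1), (1, 106, 6, 1), (1, 83, 2, 0), (1, 71, 4, 1), (1, 70, 5, 0), (1, 51, 0, 1), (1, 78, 0, 1), (1, 70, 6, 0), (1, 155, 7, 1), (1, 232, 7, 0), (1, 230, 1, 1), (1, 136, 3, 0), (1, 158, 2, 1), (1, 174, 0, 1), (1, 147, 4, 0), (1, 6, 5, 1), (1, 240, 8, 0), (1, 24, 5, 0), (1, 241, 3, 1), (1, 242, 6, 1), (1, 243, 2, 1), (1, 165, 1, 1), (1, 175, 6, 1), (1, 136, 1, 1), (1, 112, 1, 0)]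

/-- Some hints. -/
def mclHint15 : List (ℕ × ℕ × ℕ × ℕ) :=
  [(1, 75, 6, 0), (1, 224, 0, 1), (1, 48, 7, 0), (1, 47, 7, 1), (1, 39, 2, 1), (1, 49, 1, 0), (1, 9, 0, 1), (1, 230, 2, 1), (1, 86, 0, 1), (1, 200, 1, 0), (1, 73, 1, 0), (1, 85, 4, 0), (1, 244, 3, 1), (1, 17, 2, 0), (1, 92, 4, 1), (1, 8, 0, 1), (1, 176, 0, 0), (1, 37, 5, 0), (1, 245, 4, 0), (1, 132, 1, 0), (1, 202, 0, 0), (1, 230, 0, 1), (1, 246, 3, 0), (1, 112, 6, 1), (1, 63, 0, 0), (1, 99, 5, 1), (1, 184, 2, 0), (1, 141, 0, 1), (1, 135, 3, 0), (1, 247, 0, 1), (1, 248, 1, 0), (1, 214, 2, 1), (1, 21, 0, 1), (1, 68, 3, 0), (1, 13, 2, 0), (1, 70, 4, 1), (1, 47, 3, 0), (1, 63, 7, 1), (1, 47, 3, 1), (1, 127, 6, 1), (1, 38, 7, 1), (1, 49, 4, 1), (1, 113, 2, 1), (1,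 249, 9, 0), (1, 42, 2, 0), (1, 90, 0, 1), (1, 125, 0, 0), (1, 45, 5, 0), (1, 24, 1, 0), (1, 104, 6, 0), (1, 102, 3, 1), (1, 126, 3, 0), (1, 240, 3, 0), (1, 156, 6, 1), (1, 15, 4, 1), (1, 250, 5, 1), (1, 176, 5, 1), (1, 251, 2, 1), (1, 176, 7, 0), (1, 82, 4, 1), (1, 104, 2, 1), (1, 104, 7, 0), (1, 99, 3, 0), (1, 252, 7, 1)]

/-- Some hints. -/
def mclHint16 : List (ℕ × ℕ × ℕ × ℕ) :=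
  [(1, 100, 7, 1), (1, 11, 6, 1), (1, 218, 4, 1), (1, 253, 4, 1), (1, 81, 6, 0), (1, 49, 3, 1), (1, 112, 7, 0), (1, 112, 4, 0), (1, 53, 0, 0), (1, 43, 4, 0), (1, 69, 6, 0), (1, 69, 5, 0), (1, 114, 2, 1), (1, 236, 9, 1), (1, 39, 4, 0), (1, 136, 4, 0), (1, 75, 2, 0), (1, 250, 6, 0), (1, 112, 2, 0), (1, 254, 4, 0), (1, 32, 5, 0), (1, 236, 4, 1), (1, 255, 10, 0), (1, 194, 6, 0), (1, 199, 3, 0), (1, 194, 5, 0), (1, 256, 5, 1), (1, 208, 2, 0), (1, 237, 10, 1), (1, 257, 3, 1), (1, 135, 6, 1), (1, 40, 2, 1), (1, 44, 2, 0), (1, 120, 2, 0), (1, 141, 1, 1), (1, 39, 7, 0), (1, 175, 3, 0), (1, 60, 2, 1), (1, 175, 5, 0), (1, 47, 6, 1), (1, 258, 6, 1), (1, 169, 3, 1), (1, 248, 3, 0), (1, 194, 9, 0), (1, 259, 1, 1), (1, 72, 3, 0), (1,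 254, 7, 0), (1, 260, 5, 0), (1, 83, 4, 1), (1, 85, 6, 0), (1, 261, 10, 0), (1, 260, 3, 1), (1, 140, 0, 0), (1, 66, 7, 0), (1, 108, 0, 1), (1, 81, 7, 0), (1, 125, 1, 0), (1, 111, 2, 0), (1, 64, 4, 0), (1, 15, 1, 0), (1, 9, 0, 0), (1, 21, 3, 1), (1, 107, 3, 1), (1, 79, 5, 0)]

/-- Some hints. -/
def mclHint17 : List (ℕ × ℕ × ℕ × ℕ) :=
  [(1, 64, 7, 1), (1, 114, 5, 1), (1, 39, 6, 1), (1, 48, 3, 0), (1, 52, 7, 1), (1, 27, 6, 0), (1, 0, 3, 1), (1, 10, 0, 1), (1, 183, 6, 0), (1, 49, 0, 1), (1, 100, 3, 1), (1, 105, 7, 1), (1, 52, 3, 0), (1, 101, 6, 0), (1, 73, 2, 1), (1, 75, 4, 0), (1, 61, 6, 0), (1, 250, 2, 1), (1, 31, 1, 0), (1, 63, 0, 1), (1, 112, 2, 1), (1, 24, 2, 1), (1, 89, 6, 1), (1, 127, 1, 1), (1, 262, 2, 1), (1, 83,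 5, 0), (1, 24, 0, 1), (1, 52, 2, 1), (1, 72, 5, 0), (1, 103, 3, 0), (1, 107, 0, 0), (1, 205, 8, 1), (1, 10, 2, 1), (1, 19, 0, 0), (1, 162, 6, 1), (1, 96, 3, 1), (1, 36, 3, 1), (1, 30, 2, 1), (1, 59, 4, 0), (1, 31, 2, 0), (1, 165, 7, 1), (1, 168, 6, 1), (1, 133, 6, 0), (1, 263, 1, 1), (1, 69, 4, 1), (1, 57, 5, 0), (1, 146, 3, 1), (1, 29, 8, 1), (1, 105, 2, 1), (1, 81, 4, 1), (1, 15, 5, 0), (1, 174, 8, 1), (1, 16, 0, 0), (1, 17, 1, 1), (1, 78, 1, 0), (1, 93, 6, 0), (1, 46, 1, 0), (1, 24, 3, 0), (1, 98, 7, 0), (1, 113, 3, 1), (1, 125, 3, 0), (1, 246, 9, 0), (1, 98, 4, 1), (1, 85, 2, 0)]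

/-- Some hints. -/
def mclHint18 : List (ℕ × ℕ × ℕ × ℕ) :=
  [(1, 73, 4, 0), (1, 118, 2, 0), (1, 50, 0, 0), (1, 26, 2, 1), (1, 102, 7, 1), (1, 102, 1, 0), (1, 250, 1, 1), (1, 63, 1, 1), (1, 135, 5, 0), (1, 251, 3, 1), (1, 73, 3, 0), (1, 63, 6, 1), (1, 208, 5, 1), (1, 264, 3, 1), (1, 45, 0, 0), (1, 265, 3, 1), (1, 88, 4, 1), (1, 17, 4, 0), (1, 136, 5, 0), (1, 22, 0, 0), (1, 84, 1, 0), (1, 71, 5, 1), (1, 32, 0, 0), (1, 266, 2, 1), (1, 267, 0, 0), (1, 142, 2, 0), (1, 50, 5, 1), (1, 6, 6, 1), (1, 213, 4, 1), (1, 268, 6, 1), (1, 38, 6, 1), (1, 36, 7, 0), (1, 83, 1, 0), (1, 87, 3, 1), (1, 70, 1, 0), (1, 269, 8, 1), (1, 24, 6, 1), (1, 58, 2, 1), (1, 189, 6, 1), (1, 95, 7, 0), (1, 188, 1, 1), (1, 43, 6, 0), (1, 155, 8, 0), (1,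 36, 6, 0), (1, 266, 11, 0), (1, 182, 10, 0), (1, 82, 5, 1), (1, 107, 0, 1), (1, 24, 7, 1), (1, 24, 4, 0), (1, 75, 1, 0), (1, 98, 5, 1), (1, 48, 5, 0), (1, 71, 4, 0), (1, 80, 4, 0), (1, 79, 7, 0), (1, 108, 6, 1), (1, 267, 7, 1), (1, 230, 2, 0), (1, 270, 2, 0), (1, 56, 5, 1), (1, 43, 6, 1), (1, 227, 3, 1), (1, 271, 11, 0)]

/-- Some hints. -/
def mclHint19 : List (ℕ × ℕ × ℕ × ℕ) :=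
  [(1, 30, 10, 1), (1, 243, 6, 1), (1, 64, 0, 1), (1, 59, 0, 1), (1, 142, 0, 1), (1, 142, 7, 1), (1, 89, 4, 1), (1, 46, 4, 1), (1, 37, 7, 0), (1, 246, 6, 0), (1, 195, 3, 0), (1, 75, 3, 0), (1, 9, 9, 0), (1, 8, 5, 0), (1, 45, 0, 1), (1, 108, 7, 1), (1, 272, 8, 1), (1, 157, 1, 1), (1, 104, 3, 0), (1, 22, 2, 1), (1, 13, 0, 1), (1, 127, 2, 1), (1, 31, 5, 0), (1, 101, 0, 0), (1, 240, 7, 0), (1, 38, 4, 1), (1, 118, 0, 1), (1, 13, 3, 1), (1, 207, 4, 0), (1, 71, 3, 0), (1, 162, 5, 0), (1, 223, 7, 0), (1, 141, 5, 1), (1, 213, 3, 1), (1, 94, 6, 1), (1, 273, 1, 1), (1, 102, 0, 0), (1, 64, 6, 0), (1, 117, 9, 1), (1, 220, 0, 0), (1, 274, 1, 1), (1, 94, 1, 1), (1, 275, 1, 1), (1, 275, 9, 1), (1, 230, 3, 1), (1, 112, 5, 1), (1, 114, 0,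 1), (1, 114, 6, 1), (1, 106, 5, 0), (1, 59, 3, 1), (1, 142, 7, 0), (1, 48, 0, 1), (1, 125, 2, 0), (1, 104, 6, 1), (1, 38, 5, 1), (1, 81, 0, 1), (1, 63, 2, 0), (1, 113, 1, 0), (1, 64, 7, 0), (1, 75, 2, 1), (1, 63, 4, 1), (1, 72, 4, 1), (1, 122, 5, 0), (1, 24, 3, 1)]

/-- Some hints. -/
def mclHint20 : List (ℕ × ℕ × ℕ × ℕ) :=
  [(1, 102, 4, 0), (1, 56, 6, 0), (1, 54, 1, 0), (1, 59, 7, 0), (1, 47, 6, 0), (1, 82, 4, 0), (1, 86, 4, 1), (1, 103, 2, 1), (1, 86, 5, 0), (1, 64, 2, 0), (1, 276, 0, 0), (1, 229, 1, 1), (1, 64, 5, 1), (1, 138, 8, 0), (1, 75, 0, 0), (1, 86, 3, 0), (1, 76, 7, 1), (1, 100, 0, 0), (1, 53, 0, 1), (1, 38, 6, 0), (1, 51, 4, 1), (1, 105, 3, 1), (1, 60, 5, 0), (1, 81, 4, 0), (1, 82, 2, 1), (1, 113, 0, 0), (1,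 61, 5, 0), (1, 91, 7, 0), (1, 103, 2, 0), (1, 31, 1, 1), (1, 24, 5, 1), (1, 112, 0, 0), (1, 79, 6, 0), (1, 219, 2, 0), (1, 98, 6, 0), (1, 126, 5, 1), (1, 16, 1, 0), (1, 90, 6, 1), (1, 76, 2, 1), (1, 44, 2, 1), (1, 100, 6, 0), (1, 51, 5, 0), (1, 79, 0, 1), (1, 169, 0, 1), (1, 26, 10, 1), (1, 101, 6, 1), (1, 192, 7, 1), (1, 192, 2, 1), (1, 277, 6, 1), (1, 137, 9, 0), (1, 128, 2, 1), (1, 233, 1, 1), (1, 89, 7, 0), (1, 6, 0, 0), (1, 192, 3, 1), (1, 153, 6, 0), (1, 131, 7, 0), (1, 86, 2, 1), (1, 123, 9, 0), (1, 115, 5, 0), (1, 36, 2, 1), (1, 204, 4, 1), (1, 278, 3, 0), (1, 83, 3, 1)]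

/-- Some hints. -/
def mclHint21 : List (ℕ × ℕ × ℕ × ℕ) :=
  [(1, 101, 1, 0), (1, 243, 10, 1), (1, 197, 8, 1), (1, 279, 1, 1), (1, 280, 1, 1), (1, 86, 0, 0), (1, 64, 5, 0), (1, 162, 8, 0), (1, 202, 5, 1), (1, 27, 6, 1), (1, 114, 0, 0), (1, 136, 6, 0), (1, 208, 8, 1), (1, 28, 9, 1), (1, 217, 6, 1), (1, 82, 1, 0), (1, 186, 3, 0), (1, 78, 2, 0), (1, 87, 5, 0), (1, 44, 3, 0), (1, 97, 8, 0), (1, 20, 4, 0), (1, 127, 0, 0), (1, 106, 4, 1), (1, 222, 4, 0), (1, 130, 11, 1), (1, 281, 5, 0), (1, 147, 7, 0), (1, 162, 2, 0), (1, 56, 5, 0), (1, 38, 5, 0), (1, 126, 0, 0), (1, 45, 3, 1), (1, 49, 0, 0), (1, 86, 7, 1), (1, 6, 0, 1), (1, 282, 9, 1), (1, 283, 1, 1), (1, 256, 7, 0), (1, 188, 5, 1), (1, 132, 5, 0), (1, 49, 5, 1), (1, 45, 4,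 0), (1, 106, 4, 0), (1, 83, 7, 0), (1, 247, 1, 1), (1, 98, 1, 0), (1, 89, 0, 1), (1, 93, 5, 1), (1, 153, 8, 0), (1, 100, 1, 1), (1, 126, 1, 1), (1, 32, 3, 1), (1, 78, 3, 0), (1, 71, 5, 0), (1, 53, 6, 1), (1, 10, 7, 1), (1, 284, 8, 0), (1, 141, 9, 0), (1, 136, 2, 0), (1, 265, 7, 1), (1, 168, 4, 1), (1, 127, 1, 0), (1, 81, 2, 0)]

/-- Some hints. -/
def mclHint22 : List (ℕ × ℕ × ℕ × ℕ) :=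
  [(1, 96, 1, 1), (1, 207, 9, 0), (1, 159, 7, 0), (1, 268, 5, 1), (1, 99, 1, 0), (1, 78, 4, 1), (1, 73, 5, 0), (1, 127, 5, 1), (1, 62, 1, 0), (1, 81, 0, 0), (1, 89, 5, 1), (1, 75, 5, 1), (1, 89, 2, 1), (1, 75, 5, 0), (1, 135, 4, 0), (1, 103, 4, 0), (1, 199, 2, 0), (1, 38, 7, 0), (1, 47, 7, 0), (1, 73, 2, 0), (1, 282, 5, 1), (1, 26, 7, 1), (1, 76, 5, 1), (1, 135, 7, 0), (1, 120, 3, 0), (1, 135, 1, 0), (1, 112, 6, 0), (1, 104, 5, 0), (1, 21, 7, 0), (1, 78, 6, 1), (1, 37, 4, 1), (1, 230, 8, 1), (1, 126, 5, 0), (1, 19, 4, 1), (1, 178, 0, 0), (1, 24, 4, 1), (1, 29, 10, 1), (1, 120, 6, 0), (1, 198, 1, 1), (1, 3, 3, 1), (1, 69, 0, 0), (1, 102, 5, 0), (1, 211, 10, 1), (1, 50, 5, 0), (1, 84, 2, 1), (1, 45, 6, 1), (1, 113, 6, 0),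 (1, 73, 7, 1), (1, 280, 11, 1), (1, 228, 2, 1), (1, 104, 0, 0), (1, 261, 7, 1), (1, 87, 7, 1), (1, 102, 6, 1), (1, 121, 3, 1), (1, 43, 7, 0), (1, 202, 1, 0), (1, 12, 0, 0), (1, 54, 6, 0), (1, 202, 2, 0), (1, 285, 4, 0), (1, 208, 7, 1), (1, 84, 0, 0), (1, 98, 0, 1)]

/-- Some hints. -/
def mclHint23 : List (ℕ × ℕ × ℕ × ℕ) :=
  [(1, 89, 3, 0), (1, 63, 4, 0), (1, 100, 5, 1), (1, 274, 2, 1), (1, 126, 4, 0), (1, 105, 0, 0), (1, 48, 2, 1), (1, 55, 2, 1), (1, 229, 1, 0), (1, 154, 1, 1), (1, 78, 3, 1), (1, 59, 6, 1), (1, 39, 5, 1), (1, 4, 5, 0), (1, 120, 6, 1), (1, 125, 4, 0), (1, 223, 3, 1), (1, 286, 6, 1), (1, 287, 3, 0), (1, 204, 2, 1), (1, 132, 3, 0), (1, 230, 0, 0), (1, 155, 6, 1), (1, 156, 3, 1), (1, 208, 6, 1), (1, 222,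 9, 0), (1, 142, 4, 0), (1, 8, 1, 1), (1, 6, 7, 1), (1, 251, 4, 1), (1, 13, 2, 1), (1, 102, 5, 1), (1, 288, 1, 1), (1, 108, 4, 0), (1, 262, 1, 1), (1, 254, 10, 0), (1, 276, 7, 0), (1, 269, 3, 1), (1, 289, 6, 1), (1, 88, 1, 0), (1, 33, 2, 0), (1, 145, 0, 0), (1, 290, 8, 1), (1, 63, 5, 1), (1, 291, 6, 1), (1, 38, 3, 1), (1, 14, 0, 0), (1, 102, 2, 0), (1, 243, 1, 1), (1, 292, 9, 1), (1, 87, 3, 0), (1, 206, 11, 0), (1, 144, 6, 1), (1, 142, 4, 1), (1, 108, 2, 1), (1, 28, 1, 1), (1, 237, 4, 1), (1, 54, 7, 0), (1, 182, 11, 1), (1, 77, 3, 1), (1, 157, 0, 1), (1, 73, 0, 1), (1, 142, 2, 1), (1, 120, 4, 1)]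

/-- Some hints. -/
def mclHint24 : List (ℕ × ℕ × ℕ × ℕ) :=
  [(1, 209, 8, 1), (1, 114, 7, 1), (1, 173, 6, 1), (1, 64, 0, 0), (1, 46, 1, 1), (1, 191, 2, 0), (1, 61, 1, 0), (1, 12, 4, 1), (1, 93, 4, 1), (1, 53, 1, 0), (1, 293, 1, 1), (1, 244, 11, 0), (1, 173, 2, 1), (1, 108, 5, 1), (1, 128, 9, 1), (1, 289, 3, 1), (1, 39, 4, 1), (1, 91, 0, 0), (1, 72, 1, 1), (1, 57, 4, 0), (1, 26, 1, 1), (1, 118, 7, 1), (1, 243, 5, 1), (1, 236, 10, 1), (1, 268, 0, 1), (1, 6, 6, 0), (1, 188, 7, 1), (1, 273, 2, 0), (1, 223, 4, 0), (1, 12, 7, 1), (1, 140, 9, 1), (1, 162, 7, 1), (1, 132, 9, 0), (1, 93, 3, 0), (1, 159, 0, 0), (1, 294, 2, 1), (1, 171, 0, 0), (1, 153, 2, 0), (1, 173, 4, 1), (1, 154, 4, 0), (1, 281, 6, 0), (1, 230, 9, 0), (1, 249,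 7, 0), (1, 173, 1, 1), (1, 248, 4, 0), (1, 159, 4, 0), (1, 187, 0, 0), (1, 197, 3, 1), (1, 91, 3, 1), (1, 254, 3, 0), (1, 50, 3, 0), (1, 30, 4, 1), (1, 193, 9, 1), (1, 295, 1, 1), (1, 251, 10, 1), (1, 296, 6, 1), (1, 87, 1, 1), (1, 102, 2, 1), (1, 297, 2, 1), (1, 251, 5, 1), (1, 100, 5, 0), (1, 298, 6, 1), (1, 289, 4, 1), (1, 122, 3, 1)]

/-- Some hints. -/
def mclHint25 : List (ℕ × ℕ × ℕ × ℕ) :=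
  [(1, 107, 6, 1), (1, 88, 3, 1), (1, 39, 3, 1), (1, 108, 7, 0), (1, 118, 4, 1), (1, 127, 4, 0), (1, 118, 5, 1), (1, 164, 3, 0), (1, 53, 5, 0), (1, 79, 2, 0), (1, 78, 4, 0), (1, 133, 10, 0), (1, 28, 8, 0), (1, 299, 7, 0), (1, 288, 5, 1), (1, 253, 3, 1), (1, 45, 7, 1), (1, 76, 5, 0), (1, 253, 2, 1), (1, 183, 9, 0), (1, 155, 1, 1), (1, 93, 0, 0), (1, 208, 1, 1), (1, 202, 5, 0), (1, 300, 18, 1), (1, 301, 1, 0), (1, 161, 11, 1), (1, 186, 4, 0), (1, 147, 0, 0), (1, 202, 9, 0), (1, 244, 7, 0), (1, 251, 6, 0), (1, 179, 1, 0), (1, 153, 7, 0), (1, 170, 2, 0), (1, 119, 4, 1), (1, 88, 5, 0), (1, 99, 0, 0), (1, 51, 7, 0), (1, 52, 5, 0), (1, 48, 5, 1), (1, 155, 4, 1), (1, 195, 3, 1), (1, 89, 5, 0), (1, 186, 11, 1), (1, 245, 0, 0), (1,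 298, 4, 1), (1, 302, 0, 0), (1, 303, 2, 1), (1, 91, 2, 1), (1, 68, 10, 0), (1, 255, 9, 0), (1, 194, 8, 0), (1, 46, 7, 1), (1, 69, 7, 0), (1, 81, 7, 1), (1, 302, 1, 1), (1, 43, 5, 0), (1, 184, 9, 0), (1, 43, 4, 1), (1, 82, 3, 0), (1, 121, 9, 1), (1, 211, 9, 1), (1, 80, 0, 0)]

/-- Some hints. -/
def mclHint26 : List (ℕ × ℕ × ℕ × ℕ) :=
  [(1, 108, 0, 0), (1, 9, 8, 1), (1, 8, 2, 1), (1, 265, 21, 0), (1, 52, 6, 0), (1, 99, 2, 0), (1, 217, 2, 1), (1, 82, 0, 0), (1, 220, 4, 0), (1, 213, 0, 1), (1, 253, 0, 1), (1, 140, 8, 1), (1, 59, 3, 0), (1, 220, 2, 0), (1, 247, 8, 1), (1, 5, 1, 1), (1, 61, 7, 1), (1, 85, 1, 0), (1, 79, 4, 1), (1, 61, 4, 0), (1, 79, 5, 1), (1, 76, 1, 0), (1, 1, 8, 0), (1, 118, 3, 1), (1, 119, 1, 0), (1, 91,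 7, 1), (1, 126, 4, 1), (1, 142, 0, 0), (1, 45, 6, 0), (1, 40, 5, 0), (1, 174, 7, 1), (1, 158, 3, 1), (1, 83, 6, 0), (1, 104, 4, 1), (1, 86, 4, 0), (1, 126, 3, 1), (1, 40, 7, 0), (1, 31, 0, 0), (1, 89, 1, 1), (1, 46, 0, 0), (1, 66, 6, 1), (1, 39, 6, 0), (1, 99, 6, 0), (1, 88, 4, 0), (1, 22, 4, 0), (1, 136, 3, 1), (1, 196, 1, 0), (1, 184, 7, 0), (1, 213, 5, 0), (1, 72, 7, 0), (1, 108, 3, 1), (1, 304, 8, 0), (1, 127, 3, 1), (1, 119, 7, 1), (1, 121, 19, 0), (1, 148, 10, 1), (1, 180, 10, 1), (1, 167, 4, 1), (1, 91, 2, 0), (1, 130, 6, 1), (1, 45, 1, 1), (1, 37, 3, 1), (1, 37, 2, 1), (1, 80, 1, 0)]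

/-- Some hints. -/
def mclHint27 : List (ℕ × ℕ × ℕ × ℕ) :=
  [(1, 48, 4, 0), (1, 12, 6, 1), (1, 129, 6, 1), (1, 140, 4, 1), (1, 126, 2, 0), (1, 182, 1, 1), (1, 112, 3, 1), (1, 146, 2, 1), (1, 230, 5, 1), (1, 117, 6, 1), (1, 305, 4, 1), (1, 253, 1, 1), (1, 142, 3, 1), (1, 9, 8, 0), (1, 114, 3, 1), (1, 50, 4, 1), (1, 162, 7, 0), (1, 88, 6, 0), (1, 186, 11, 0), (1, 180, 0, 0), (1, 167, 6, 0), (1, 100, 4, 0), (1, 306, 9, 1), (1, 307, 1, 1), (1, 213, 1, 1), (1, 131, 3, 0), (1, 176, 3, 0), (1, 253, 8, 1), (1, 275, 2, 1), (1, 272, 0, 1), (1, 240, 0, 0), (1, 20, 7, 1), (1, 92, 3, 1), (1, 173, 7, 1), (1, 253, 6, 0), (1, 163, 4, 0), (1, 190, 6, 0), (1, 10, 4, 1), (1, 97, 0, 0), (1, 308, 1, 0), (1, 121, 23, 0), (1, 108, 4, 1), (1,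 90, 5, 1), (1, 237, 6, 0), (1, 146, 9, 1), (1, 236, 5, 1), (1, 177, 6, 0), (1, 150, 7, 1), (1, 117, 7, 1), (1, 149, 7, 1), (1, 27, 5, 0), (1, 278, 8, 0), (1, 309, 8, 1), (1, 123, 6, 0), (1, 116, 6, 0), (1, 310, 3, 1), (1, 217, 1, 1), (1, 311, 1, 1), (1, 273, 7, 1), (1, 283, 8, 1), (1, 237, 8, 1), (1, 186, 6, 0), (1, 120, 0, 1), (1, 114, 4, 0)]

/-- Some hints. -/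
def mclHint28 : List (ℕ × ℕ × ℕ × ℕ) :=
  [(1, 312, 10, 1), (1, 57, 4, 1), (1, 228, 5, 1), (1, 113, 0, 1), (1, 70, 2, 1), (1, 90, 0, 0), (1, 50, 4, 0), (1, 184, 3, 0), (1, 126, 2, 1), (1, 46, 7, 0), (1, 142, 6, 1), (1, 83, 3, 0), (1, 30, 6, 1), (1, 40, 6, 0), (1, 313, 6, 1), (1, 282, 6, 1), (1, 314, 1, 1), (1, 98, 0, 0), (1, 20, 8, 1), (1, 13, 6, 1), (1, 103, 5, 1), (1, 131, 3, 1), (1, 262, 4, 1), (1, 262, 7, 1), (1, 287, 0, 0), (1, 315, 1, 1), (1, 175, 8, 0), (1, 27, 5, 1), (1, 226, 6, 1), (1, 20, 3, 1), (1, 256, 1, 1), (1, 60, 2, 0), (1, 40, 3, 1), (1, 184, 0, 0), (1, 124, 6, 1), (1, 119, 8, 1), (1, 3, 2, 0), (1, 95, 2, 0), (1, 157, 2, 0), (1, 296, 8, 1), (1, 29, 2, 1), (1, 314, 8, 1), (1, 45, 2, 1), (1, 187, 1, 1), (1,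 252, 1, 1), (1, 80, 7, 1), (1, 107, 1, 0), (1, 316, 0, 0), (1, 52, 4, 0), (1, 89, 0, 0), (1, 107, 5, 1), (1, 31, 0, 1), (1, 120, 5, 1), (1, 20, 2, 1), (1, 317, 11, 0), (1, 132, 5, 1), (1, 250, 6, 1), (1, 230, 7, 1), (1, 0, 6, 0), (1, 55, 6, 0), (1, 72, 1, 0), (1, 289, 9, 1), (1, 30, 9, 1), (1, 297, 3, 1)]

/-- Some hints. -/
def mclHint29 : List (ℕ × ℕ × ℕ × ℕ) :=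
  [(1, 79, 4, 0), (1, 114, 3, 0), (1, 303, 4, 1), (1, 178, 4, 0), (1, 3, 1, 0), (1, 105, 1, 0), (1, 148, 1, 1), (1, 34, 4, 0), (1, 114, 5, 0), (1, 105, 5, 0), (1, 208, 2, 1), (1, 209, 5, 1), (1, 70, 3, 0), (1, 81, 2, 1), (1, 258, 2, 0), (1, 275, 4, 1), (1, 214, 7, 1), (1, 21, 0, 0), (1, 127, 4, 1), (1, 122, 12, 1), (1, 135, 0, 0), (1, 96, 9, 1), (1, 144, 4, 0), (1, 263, 10, 1), (1, 130, 4, 0), (1, 250, 7, 1), (1, 216, 5, 1), (1, 223, 0, 0), (1, 211, 1, 1), (1, 144, 9, 1), (1, 96, 4, 0), (1, 232, 2, 0), (1, 7, 8, 0), (1, 230, 4, 1), (1, 230, 8, 0), (1, 11, 2, 1), (1, 170, 8, 0), (1, 190, 1, 0), (1, 296, 0, 1), (1, 168, 10, 1), (1, 113, 4, 1), (1, 251, 3, 0), (1, 68, 0, 0), (1, 243, 4, 1), (1, 50, 6, 1), (1, 105, 3, 0), (1,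 194, 4, 0), (1, 318, 1, 1), (1, 49, 5, 0), (1, 217, 4, 1), (1, 173, 0, 1), (1, 80, 5, 1), (1, 120, 1, 0), (1, 214, 8, 1), (1, 319, 9, 1), (1, 320, 8, 1), (1, 321, 5, 0), (1, 298, 7, 1), (1, 245, 3, 0), (1, 157, 5, 0), (1, 137, 2, 0), (1, 253, 7, 0), (1, 148, 10, 0), (1, 175, 6, 0)]

/-- Some hints. -/
def mclHint30 : List (ℕ × ℕ × ℕ × ℕ) :=
  [(1, 193, 3, 0), (1, 131, 2, 0), (1, 247, 2, 1), (1, 190, 0, 0), (1, 121, 22, 1), (1, 118, 7, 0), (1, 142, 5, 1), (1, 121, 17, 1), (1, 112, 5, 0), (1, 263, 9, 1), (1, 265, 20, 0), (1, 103, 5, 0), (1, 271, 10, 0), (1, 275, 8, 1), (1, 144, 7, 1), (1, 249, 3, 0), (1, 285, 2, 0), (1, 232, 3, 0), (1, 283, 10, 1), (1, 266, 4, 1), (1, 96, 6, 1), (1, 204, 1, 1), (1, 240, 9, 0), (1, 156, 2,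 1), (1, 230, 7, 0), (1, 96, 6, 0), (1, 123, 10, 0), (1, 273, 4, 1), (1, 234, 3, 1), (1, 306, 4, 1), (1, 270, 9, 0), (1, 46, 3, 0), (1, 322, 10, 1), (1, 211, 4, 1), (1, 146, 4, 1), (1, 322, 8, 1), (1, 259, 2, 0), (1, 211, 2, 1), (1, 289, 2, 1), (1, 122, 8, 1), (1, 117, 4, 1), (1, 86, 3, 1), (1, 49, 7, 0), (1, 223, 8, 0), (1, 136, 2, 1), (1, 139, 0, 0), (1, 137, 1, 1), (1, 155, 2, 1), (1, 91, 4, 0), (1, 323, 9, 1), (1, 88, 0, 0), (1, 122, 10, 0), (1, 67, 0, 0), (1, 140, 2, 0), (1, 219, 7, 1), (1, 300, 16, 1), (1, 250, 8, 1), (1, 85, 6, 1), (1, 6, 2, 1), (1, 87, 6, 0), (1, 203, 1, 1), (1, 45, 5, 1), (1, 121, 4, 1), (1, 195, 9, 0)]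

/-- Some hints. -/
def mclHint31 : List (ℕ × ℕ × ℕ × ℕ) :=
  [(1, 246, 2, 0), (1, 120, 7, 0), (1, 90, 5, 0), (1, 56, 3, 1), (1, 246, 5, 0), (1, 290, 5, 0), (1, 83, 4, 0), (1, 51, 6, 0), (1, 11, 6, 0), (1, 197, 6, 1), (1, 324, 5, 0), (1, 78, 5, 0), (1, 43, 3, 1), (1, 126, 1, 0), (1, 135, 4, 1), (1, 231, 9, 1), (1, 135, 7, 1), (1, 287, 6, 0), (1, 121, 17, 0), (1, 113, 5, 1), (1, 103, 0, 1), (1, 90, 4, 0), (1, 83, 7, 1), (1, 223, 1, 1), (1, 131, 6, 1), (1, 91, 3, 0), (1, 220, 6, 0), (1, 309, 7, 0), (1, 172, 5, 0), (1, 252, 3, 1), (1, 196, 11, 0), (1, 137, 6, 1), (1, 232, 5, 0), (1, 117, 7, 0), (1, 11, 8, 1), (1, 325, 0, 1), (1, 141, 5, 0), (1, 141, 2, 1), (1, 176, 4, 0), (1, 294, 3, 1), (1, 199, 0, 0), (1, 296, 7, 1), (1,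 182, 11, 0), (1, 255, 4, 1), (1, 85, 7, 1), (1, 300, 19, 1), (1, 122, 4, 0), (1, 122, 0, 0), (1, 311, 2, 1), (1, 280, 8, 1), (1, 151, 8, 0), (1, 326, 0, 0), (1, 290, 4, 1), (1, 310, 5, 0), (1, 20, 6, 0), (1, 192, 8, 0), (1, 280, 10, 1), (1, 248, 2, 0), (1, 13, 8, 0), (1, 197, 0, 1), (1, 66, 3, 0), (1, 209, 3, 1), (1, 26, 9, 1), (1, 311, 9, 1)]

/-- Some hints. -/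
def mclHint32 : List (ℕ × ℕ × ℕ × ℕ) :=
  [(1, 280, 3, 1), (1, 176, 5, 0), (1, 210, 10, 1), (1, 42, 2, 1), (1, 327, 5, 0), (1, 328, 8, 0), (1, 42, 0, 0), (1, 100, 3, 0), (1, 91, 5, 0), (1, 193, 0, 1), (1, 260, 11, 1), (1, 215, 4, 0), (1, 95, 0, 1), (1, 65, 11, 1), (1, 7, 3, 0), (1, 123, 5, 0), (1, 291, 8, 1), (1, 155, 9, 1), (1, 24, 6, 0), (1, 208, 0, 1), (1, 223, 5, 0), (1, 289, 2, 0), (1, 133, 2, 0), (1, 42, 9, 1), (1, 182, 4, 0), (1, 184, 2, 1), (1, 11, 5, 0), (1, 272, 2, 0), (1, 148, 0, 1), (1, 131, 9, 1), (1, 182, 3, 0), (1, 322, 6, 1), (1, 329, 6, 1), (1, 133, 4, 0), (1, 330, 3, 1), (1, 254, 1, 0), (1, 268, 3, 1), (1, 276, 8, 0), (1, 304, 1, 0), (1, 329, 3, 0), (1, 160, 7, 1), (1, 212, 8, 0), (1, 262, 3, 1), (1, 118,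 1, 1), (1, 196, 3, 0), (1, 114, 1, 0), (1, 331, 3, 0), (1, 332, 7, 1), (1, 288, 7, 1), (1, 324, 5, 1), (1, 280, 0, 1), (1, 151, 4, 0), (1, 280, 2, 1), (1, 151, 3, 0), (1, 111, 9, 0), (1, 211, 6, 1), (1, 171, 4, 0), (1, 274, 10, 1), (1, 68, 5, 0), (1, 239, 3, 0), (1, 194, 3, 0), (1, 235, 8, 0), (1, 295, 3, 0), (1, 260, 8, 1)]

/-- Some hints. -/
def mclHint33 : List (ℕ × ℕ × ℕ × ℕ) :=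
  [(1, 285, 5, 0), (1, 296, 9, 1), (1, 128, 10, 0), (1, 146, 1, 1), (1, 182, 10, 1), (1, 122, 4, 1), (1, 257, 2, 0), (1, 122, 7, 0), (1, 323, 5, 1), (1, 16, 2, 0), (1, 67, 8, 0), (1, 122, 9, 0), (1, 48, 2, 0), (1, 7, 6, 1), (1, 185, 1, 0), (1, 96, 7, 1), (1, 310, 4, 1), (1, 258, 7, 1), (1, 209, 5, 0), (1, 201, 1, 0), (1, 252, 5, 0), (1, 121, 2, 1), (1, 107, 4, 1), (1, 225, 7, 1), (1, 226, 3, 0), (1, 68, 6, 0), (1, 145, 3, 1), (1, 306, 6, 1), (1, 145, 4, 0), (1, 144, 5, 0), (1, 20, 4, 1), (1, 217, 9, 1), (1, 210, 1, 1), (1, 329, 5, 0), (1, 87, 4, 0), (1, 212, 10, 0), (1, 80, 6, 1), (1, 127, 7, 1), (1, 220, 7, 0), (1, 322, 7, 1), (1, 29, 9, 1), (1, 296, 3, 1), (1, 93, 6, 1), (1, 161, 7, 1), (1, 166, 5, 0), (1, 333, 7, 1),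 (1, 8, 3, 1), (1, 322, 2, 1), (1, 166, 0, 0), (1, 193, 4, 1), (1, 170, 1, 0), (1, 148, 9, 1), (1, 186, 0, 0), (1, 176, 2, 0), (1, 312, 3, 0), (1, 133, 3, 0), (1, 255, 11, 1), (1, 291, 2, 0), (1, 157, 7, 0), (1, 246, 4, 0), (1, 99, 3, 1), (1, 120, 7, 1), (1, 323, 10, 0), (1, 106, 2, 0)]

/-- Some hints. -/
def mclHint34 : List (ℕ × ℕ × ℕ × ℕ) :=
  [(1, 202, 8, 0), (1, 162, 5, 1), (1, 114, 4, 1), (1, 330, 3, 0), (1, 168, 0, 1), (1, 77, 0, 1), (1, 50, 3, 1), (1, 187, 1, 0), (1, 222, 0, 0), (1, 268, 2, 1), (1, 10, 5, 1), (1, 159, 5, 1), (1, 145, 6, 0), (1, 196, 2, 1), (1, 151, 5, 0), (1, 182, 5, 0), (1, 334, 2, 0), (1, 236, 2, 1), (1, 267, 5, 1), (1, 325, 4, 0), (1, 309, 6, 1), (1, 153, 3, 0), (1, 294, 6, 1), (1, 171, 6, 0),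 (1, 152, 5, 0), (1, 205, 2, 1), (1, 276, 6, 0), (1, 182, 0, 0), (1, 220, 9, 0), (1, 244, 2, 0), (1, 307, 2, 0), (1, 335, 5, 0), (1, 336, 5, 0), (1, 137, 4, 1), (1, 230, 9, 1), (1, 332, 3, 0), (1, 271, 6, 0), (1, 289, 4, 0), (1, 181, 4, 1), (1, 276, 5, 0), (1, 337, 4, 1), (1, 132, 7, 0), (1, 175, 3, 1), (1, 325, 7, 1), (1, 325, 0, 0), (1, 267, 2, 0), (1, 278, 4, 0), (1, 255, 4, 0), (1, 33, 8, 0), (1, 212, 2, 0), (1, 180, 2, 1), (1, 285, 9, 0), (1, 115, 0, 0), (1, 43, 5, 1), (1, 334, 1, 0), (1, 49, 6, 0), (1, 149, 6, 1), (1, 76, 0, 0), (1, 190, 3, 0), (1, 13, 4, 1), (1, 279, 8, 0), (1, 181, 3, 1), (1, 181, 10, 0), (1, 92, 5, 1)]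

/-- Some hints. -/
def mclHint35 : List (ℕ × ℕ × ℕ × ℕ) :=
  [(1, 105, 4, 1), (1, 127, 6, 0), (1, 89, 3, 1), (1, 60, 4, 0), (1, 323, 8, 1), (1, 190, 5, 0), (1, 128, 0, 1), (1, 220, 10, 0), (1, 265, 13, 1), (1, 70, 1, 1), (1, 95, 3, 0), (1, 163, 6, 0), (1, 267, 3, 1), (1, 291, 4, 0), (1, 123, 4, 0), (1, 26, 3, 1), (1, 318, 10, 1), (1, 338, 7, 0), (1, 67, 3, 1), (1, 140, 3, 1), (1, 255, 9, 1), (1, 188, 6, 1), (1, 214, 4, 1), (1, 252, 10, 0), (1, 128, 1, 1), (1, 161, 2, 1), (1, 190, 1, 1), (1, 339, 0, 0), (1, 281, 2, 1), (1, 55, 11, 1), (1, 265, 18, 0), (1, 96, 5, 1), (1, 54, 6, 1), (1, 113, 4, 0), (1, 142, 1, 0), (1, 78, 0, 0), (1, 130, 0, 1), (1, 0, 8, 0), (1, 13, 9, 1), (1, 59, 5, 1), (1, 68, 7, 0), (1, 133, 0, 0), (1,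 221, 2, 0), (1, 298, 0, 0), (1, 95, 4, 0), (1, 261, 0, 1), (1, 340, 5, 1), (1, 93, 4, 0), (1, 127, 7, 0), (1, 9, 3, 0), (1, 172, 0, 0), (1, 193, 2, 1), (1, 300, 20, 1), (1, 227, 2, 1), (1, 307, 10, 0), (1, 127, 5, 0), (1, 250, 9, 1), (1, 168, 2, 0), (1, 182, 9, 1), (1, 262, 5, 1), (1, 215, 5, 1), (1, 295, 10, 1), (1, 237, 6, 1), (1, 90, 1, 0)]

/-- Some hints. -/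
def mclHint36 : List (ℕ × ℕ × ℕ × ℕ) :=
  [(1, 91, 1, 0), (1, 291, 10, 0), (1, 88, 5, 1), (1, 99, 4, 1), (1, 6, 9, 0), (1, 308, 10, 0), (1, 19, 1, 0), (1, 212, 1, 0), (1, 237, 3, 0), (1, 61, 5, 1), (1, 273, 5, 1), (1, 84, 1, 1), (1, 166, 7, 1), (1, 119, 7, 0), (1, 209, 9, 1), (1, 341, 1, 1), (1, 104, 5, 1), (1, 192, 4, 0), (1, 192, 9, 0), (1, 80, 6, 0), (1, 296, 1, 1), (1, 299, 2, 1), (1, 186, 1, 0), (1, 314, 6, 1), (1, 313, 1, 1), (1, 17, 0, 1), (1, 209, 6, 1), (1, 342, 4, 1), (1, 88, 0, 1), (1, 159, 5, 0), (1, 97, 4, 0), (1, 121, 7, 0), (1, 135, 3, 1), (1, 97, 6, 1), (1, 33, 1, 0), (1, 272, 9, 1), (1, 156, 2, 0), (1, 288, 8, 1), (1, 204, 5, 1), (1, 343, 5, 1), (1, 212, 9, 0), (1, 286, 5, 0), (1, 258, 3, 1), (1, 309, 9,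 0), (1, 214, 3, 1), (1, 242, 9, 1), (1, 120, 5, 0), (1, 321, 8, 1), (1, 296, 4, 1), (1, 317, 8, 1), (1, 7, 0, 1), (1, 29, 3, 1), (1, 290, 9, 0), (1, 326, 1, 1), (1, 117, 8, 1), (1, 35, 6, 1), (1, 141, 8, 1), (1, 283, 9, 1), (1, 142, 6, 0), (1, 209, 4, 1), (1, 306, 7, 1), (1, 338, 5, 0), (1, 300, 21, 0), (1, 296, 2, 0)]

/-- Some hints. -/
def mclHint37 : List (ℕ × ℕ × ℕ × ℕ) :=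
  [(1, 290, 4, 0), (1, 5, 5, 1), (1, 333, 6, 1), (1, 30, 5, 1), (1, 216, 4, 0), (1, 319, 3, 0), (1, 63, 1, 0), (1, 41, 8, 0), (1, 148, 3, 1), (1, 119, 5, 1), (1, 344, 4, 0), (1, 285, 8, 0), (1, 8, 7, 1), (1, 189, 2, 0), (1, 327, 4, 0), (1, 170, 6, 0), (1, 121, 5, 1), (1, 7, 7, 0), (1, 192, 7, 0), (1, 121, 18, 1), (1, 202, 6, 0), (1, 264, 6, 0), (1, 119, 10, 1), (1, 300, 8, 0), (1, 183, 7, 0), (1, 223, 2, 1), (1, 136, 4, 1), (1, 300, 22, 0), (1, 84, 7, 1), (1, 263, 7, 1), (1, 161, 9, 1), (1, 159, 6, 0), (1, 174, 6, 1), (1, 265, 6, 0), (1, 84, 6, 1), (1, 216, 5, 0), (1, 265, 8, 1), (1, 84, 0, 1), (1, 300, 21, 1), (1, 30, 8, 0), (1, 300, 17, 1), (1, 213, 6, 1), (1, 184, 4, 1), (1, 169, 4, 1), (1, 189, 7, 1), (1, 212, 3, 0),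 (1, 122, 11, 1), (1, 248, 0, 0), (1, 137, 5, 1), (1, 146, 8, 1), (1, 66, 4, 0), (1, 137, 5, 0), (1, 139, 6, 1), (1, 252, 6, 1), (1, 293, 5, 1), (1, 265, 19, 0), (1, 265, 12, 0), (1, 299, 11, 0), (1, 6, 4, 0), (1, 263, 11, 1), (1, 128, 1, 0), (1, 312, 0, 0), (1, 203, 5, 0), (1, 192, 6, 1)]

/-- Some hints. -/
def mclHint38 : List (ℕ × ℕ × ℕ × ℕ) :=
  [(1, 265, 20, 1), (1, 212, 0, 0), (1, 26, 8, 1), (1, 300, 16, 0), (1, 192, 4, 1), (1, 4, 0, 0), (1, 345, 3, 1), (1, 203, 5, 1), (1, 4, 1, 1), (1, 228, 6, 1), (1, 265, 18, 1), (1, 29, 5, 1), (1, 182, 5, 1), (1, 42, 7, 0), (1, 131, 4, 0), (1, 151, 4, 1), (1, 121, 0, 1), (1, 156, 0, 1), (1, 277, 5, 1), (1, 265, 19, 1), (1, 132, 8, 0), (1, 121, 13, 1), (1, 121, 22, 0), (1, 323,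 8, 0), (1, 140, 1, 0), (1, 179, 8, 0), (1, 121, 8, 0), (1, 273, 6, 1), (1, 236, 3, 1), (1, 134, 6, 0), (1, 9, 9, 1), (1, 306, 8, 1), (1, 182, 8, 1), (1, 304, 7, 1), (1, 205, 1, 1), (1, 168, 11, 0), (1, 98, 6, 1), (1, 300, 0, 1), (1, 207, 8, 0), (1, 265, 15, 1), (1, 225, 6, 1), (1, 154, 6, 0), (1, 147, 5, 1), (1, 25, 5, 1), (1, 126, 6, 1), (1, 339, 6, 0), (1, 300, 12, 1), (1, 150, 4, 1), (1, 289, 8, 1), (1, 265, 1, 0), (1, 265, 14, 1), (1, 263, 0, 0), (1, 265, 5, 0), (1, 183, 8, 0), (1, 131, 1, 1), (1, 296, 11, 1), (1, 128, 10, 1), (1, 304, 9, 0), (1, 225, 0, 0), (1, 93, 5, 0), (1, 9, 3, 1), (1, 139, 1, 0), (1, 26, 0, 0), (1, 237, 2, 0)]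

/-- Some hints. -/
def mclHint39 : List (ℕ × ℕ × ℕ × ℕ) :=
  [(1, 180, 8, 1), (1, 187, 6, 1), (1, 78, 5, 1), (1, 46, 6, 1), (1, 158, 8, 1), (1, 131, 0, 1), (1, 151, 7, 0), (1, 177, 7, 0), (1, 187, 9, 1), (1, 97, 2, 1), (1, 168, 1, 1), (1, 121, 8, 1), (1, 28, 10, 1), (1, 284, 7, 0), (1, 12, 6, 0), (1, 12, 8, 1), (1, 149, 1, 1), (1, 138, 7, 0), (1, 178, 6, 1), (1, 181, 7, 1), (1, 317, 1, 1), (1, 309, 2, 1), (1, 132, 4, 1), (1, 328, 8, 1), (1, 318, 3, 0), (1, 52, 2, 0), (1, 321, 2, 1), (1, 340, 7, 1), (1, 289, 10, 0), (1, 299, 2, 0), (1, 167, 9, 1), (1, 222, 6, 0), (1, 270, 6, 0), (1, 221, 4, 0), (1, 300, 19, 0), (1, 265, 16, 1), (1, 311, 8, 1), (1, 65, 5, 1), (1, 292, 10, 1), (1, 12, 5, 1), (1, 339, 8, 0), (1, 256, 7, 1),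 (1, 208, 4, 0), (1, 5, 6, 1), (1, 186, 4, 1), (1, 316, 7, 0), (1, 198, 5, 1), (1, 163, 2, 0), (1, 103, 6, 1), (1, 269, 7, 1), (1, 97, 3, 0), (1, 142, 3, 0), (1, 158, 7, 1), (1, 98, 7, 1), (1, 217, 7, 1), (1, 309, 7, 1), (1, 230, 5, 0), (1, 25, 7, 0), (1, 192, 8, 1), (1, 36, 5, 1), (1, 121, 1, 0), (1, 300, 15, 1), (1, 65, 8, 1), (1, 292, 1, 1)]

/-- Some hints. -/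
def mclHint40 : List (ℕ × ℕ × ℕ × ℕ) :=
  [(1, 111, 3, 0), (1, 137, 4, 0), (1, 16, 0, 1), (1, 20, 0, 1), (1, 25, 4, 1), (1, 315, 2, 0), (1, 216, 7, 0), (1, 130, 8, 1), (1, 87, 7, 0), (1, 151, 2, 0), (1, 66, 6, 0), (1, 290, 7, 1), (1, 326, 3, 0), (1, 223, 0, 1), (1, 157, 3, 0), (1, 246, 0, 0), (1, 287, 4, 0), (1, 239, 2, 0), (1, 315, 5, 0), (1, 12, 2, 1), (1, 24, 2, 0), (1, 9, 2, 0), (1, 287, 8, 0), (1, 346, 3, 1), (1, 332, 11, 0), (1, 111, 10, 0), (1, 57, 6, 0), (1, 286, 5, 1), (1, 84, 5, 1), (1, 231, 10, 1), (1, 323, 4, 1), (1, 155, 0, 1), (1, 30, 0, 1), (1, 229, 2, 0), (1, 326, 9, 1), (1, 161, 1, 1), (1, 181, 1, 1), (1, 317, 7, 1), (1, 111, 4, 0), (1, 66, 2, 0), (1, 187, 9, 0), (1, 234, 8, 0), (1, 93, 3, 1), (1, 162,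 1, 1), (1, 6, 4, 1), (1, 309, 3, 0), (1, 289, 3, 0), (1, 133, 7, 0), (1, 4, 2, 1), (1, 128, 3, 0), (1, 115, 2, 1), (1, 289, 11, 1), (1, 303, 7, 1), (1, 111, 2, 1), (1, 317, 10, 1), (1, 323, 7, 1), (1, 229, 0, 1), (1, 264, 5, 0), (1, 286, 1, 0), (1, 342, 3, 1), (1, 240, 5, 0), (1, 221, 10, 1), (1, 202, 3, 1), (1, 165, 6, 1)]

/-- Some hints. -/
def mclHint41 : List (ℕ × ℕ × ℕ × ℕ) :=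
  [(1, 185, 7, 0), (1, 335, 3, 0), (1, 162, 9, 0), (1, 223, 1, 0), (1, 265, 6, 1), (1, 159, 2, 1), (1, 270, 0, 0), (1, 272, 2, 1), (1, 97, 9, 1), (1, 244, 3, 0), (1, 172, 6, 0), (1, 325, 5, 1), (1, 146, 10, 1), (1, 179, 5, 0), (1, 337, 4, 0), (1, 229, 8, 1), (1, 97, 1, 1), (1, 93, 2, 0), (1, 146, 6, 0), (1, 1, 6, 0), (1, 347, 0, 0), (1, 310, 7, 0), (1, 186, 8, 0), (1, 280, 0, 0), (1, 313, 0, 0), (1, 314, 5, 0), (1, 297, 4, 1), (1, 264, 5, 1), (1, 205, 3, 1), (1, 0, 0, 1), (1, 139, 5, 0), (1, 143, 3, 0), (1, 271, 2, 0), (1, 69, 3, 0), (1, 48, 7, 1), (1, 148, 2, 0), (1, 263, 3, 1), (1, 248, 6, 0), (1, 67, 4, 0), (1, 97, 3, 1), (1, 216, 6, 0), (1, 92, 6, 0), (1, 4, 5, 1), (1, 267, 4, 1), (1, 285, 0, 0), (1, 55, 10, 1), (1,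 25, 8, 0), (1, 271, 9, 1), (1, 282, 4, 1), (1, 326, 4, 0), (1, 103, 0, 0), (1, 12, 3, 1), (1, 57, 8, 0), (1, 182, 6, 1), (1, 217, 10, 1), (1, 248, 5, 0), (1, 281, 4, 1), (1, 10, 1, 1), (1, 231, 1, 1), (1, 157, 6, 1), (1, 190, 4, 0), (1, 166, 4, 1), (1, 129, 9, 0), (1, 199, 11, 0)]

/-- Some hints. -/
def mclHint42 : List (ℕ × ℕ × ℕ × ℕ) :=
  [(1, 5, 2, 0), (1, 293, 7, 0), (1, 219, 9, 1), (1, 313, 7, 1), (1, 322, 0, 1), (1, 13, 5, 0), (1, 30, 8, 1), (1, 265, 12, 1), (1, 7, 9, 1), (1, 226, 9, 1), (1, 291, 4, 1), (1, 7, 2, 1), (1, 140, 0, 1), (1, 313, 2, 1), (1, 139, 3, 0), (1, 314, 3, 1), (1, 181, 2, 1), (1, 335, 2, 0), (1, 28, 0, 1), (1, 177, 4, 1), (1, 250, 0, 1), (1, 122, 0, 1), (1, 119, 3, 0), (1, 139, 2, 0), (1, 321,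 8, 0), (1, 320, 1, 1), (1, 341, 3, 0), (1, 163, 1, 0), (1, 148, 8, 1), (1, 267, 0, 1), (1, 304, 2, 1), (1, 183, 4, 0), (1, 14, 1, 0), (1, 106, 3, 0), (1, 243, 7, 1), (1, 348, 4, 0), (1, 258, 2, 1), (1, 242, 7, 1), (1, 298, 3, 0), (1, 55, 5, 0), (1, 195, 2, 0), (1, 231, 7, 1), (1, 323, 1, 1), (1, 295, 7, 1), (1, 241, 1, 1), (1, 138, 0, 0), (1, 345, 2, 0), (1, 45, 4, 1), (1, 120, 4, 0), (1, 27, 9, 0), (1, 207, 3, 0), (1, 157, 4, 1), (1, 7, 5, 1), (1, 187, 2, 0), (1, 146, 4, 0), (1, 236, 8, 0), (1, 136, 5, 1), (1, 245, 2, 0), (1, 158, 6, 1), (1, 197, 5, 1), (1, 121, 10, 1), (1, 227, 10, 1), (1, 163, 0, 0), (1, 313, 3, 1)]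

/-- Some hints. -/
def mclHint43 : List (ℕ × ℕ × ℕ × ℕ) :=
  [(1, 181, 10, 1), (1, 317, 4, 1), (1, 268, 1, 1), (1, 35, 0, 1), (1, 128, 0, 0), (1, 1, 0, 0), (1, 287, 2, 0), (1, 310, 6, 0), (1, 4, 1, 0), (1, 278, 0, 0), (1, 345, 1, 1), (1, 86, 2, 0), (1, 137, 2, 1), (1, 58, 4, 0), (1, 304, 0, 0), (1, 177, 8, 0), (1, 151, 6, 0), (1, 6, 7, 0), (1, 67, 2, 0), (1, 48, 1, 0), (1, 248, 3, 1), (1, 346, 2, 1), (1, 166, 10, 0), (1, 161, 8, 1), (1, 65, 8, 0), (1, 292, 3, 0), (1, 137, 8, 1), (1, 253, 7, 1), (1, 173, 6, 0), (1, 41, 7, 0), (1, 33, 6, 1), (1, 185, 2, 1), (1, 229, 7, 1), (1, 158, 1, 1), (1, 168, 7, 0), (1, 336, 1, 1), (1, 4, 3, 1), (1, 5, 0, 1), (1, 262, 4, 0), (1, 289, 1, 1), (1, 278, 7, 0), (1, 191, 1, 1), (1, 214, 9,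 0), (1, 163, 2, 1), (1, 28, 3, 0), (1, 250, 4, 0), (1, 325, 2, 0), (1, 349, 1, 1), (1, 314, 5, 1), (1, 28, 5, 1), (1, 299, 5, 1), (1, 269, 0, 1), (1, 240, 6, 0), (1, 270, 4, 1), (1, 169, 5, 0), (1, 65, 5, 0), (1, 336, 7, 0), (1, 12, 4, 0), (1, 199, 8, 0), (1, 255, 8, 1), (1, 300, 11, 1), (1, 267, 1, 1), (1, 225, 4, 1), (1, 226, 0, 0)]

/-- Some hints. -/
def mclHint44 : List (ℕ × ℕ × ℕ × ℕ) :=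
  [(1, 7, 8, 1), (1, 254, 9, 0), (1, 157, 6, 0), (1, 194, 7, 0), (1, 329, 4, 0), (1, 111, 7, 0), (1, 348, 6, 1), (1, 291, 9, 1), (1, 300, 0, 0), (1, 265, 0, 0), (1, 265, 9, 0), (1, 167, 8, 1), (1, 261, 4, 1), (1, 171, 5, 0), (1, 336, 3, 1), (1, 251, 6, 1), (1, 189, 8, 1), (1, 117, 5, 1), (1, 126, 7, 1), (1, 140, 7, 0), (1, 149, 0, 1), (1, 263, 5, 1), (1, 96, 0, 1), (1, 34, 7, 0), (1, 328, 5, 0), (1, 350, 0, 0), (1, 269, 1, 1), (1, 351, 2, 1), (1, 177, 2, 0), (1, 177, 9, 1), (1, 285, 7, 0), (1, 312, 2, 0), (1, 264, 4, 1), (1, 270, 4, 0), (1, 272, 6, 1), (1, 95, 2, 1), (1, 258, 11, 0), (1, 322, 9, 1), (1, 53, 1, 1), (1, 317, 0, 0), (1, 320, 3, 0), (1, 321, 6, 1), (1, 306, 0, 1), (1, 265, 4, 0), (1, 39, 5, 0), (1, 92, 6, 1),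 (1, 266, 1, 1), (1, 193, 4, 0), (1, 30, 9, 0), (1, 261, 8, 1), (1, 57, 9, 0), (1, 265, 14, 0), (1, 13, 4, 0), (1, 291, 5, 0), (1, 244, 4, 0), (1, 293, 6, 1), (1, 165, 10, 1), (1, 271, 0, 1), (1, 111, 6, 0), (1, 135, 2, 1), (1, 3, 0, 0), (1, 260, 5, 1), (1, 21, 4, 0), (1, 119, 8, 0)]

/-- Some hints. -/
def mclHint45 : List (ℕ × ℕ × ℕ × ℕ) :=
  [(1, 119, 6, 1), (1, 296, 10, 1), (1, 182, 3, 1), (1, 271, 6, 1), (1, 4, 4, 1), (1, 5, 4, 1), (1, 271, 7, 1), (1, 295, 4, 1), (1, 152, 8, 0), (1, 12, 9, 0), (1, 131, 8, 0), (1, 150, 1, 1), (1, 158, 8, 0), (1, 294, 4, 1), (1, 173, 5, 1), (1, 325, 1, 1), (1, 288, 9, 1), (1, 279, 2, 0), (1, 104, 3, 1), (1, 96, 1, 0), (1, 161, 0, 1), (1, 330, 2, 0), (1, 253, 5, 1), (1, 344, 5, 1), (1,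 328, 4, 0), (1, 172, 5, 1), (1, 241, 8, 1), (1, 182, 6, 0), (1, 167, 10, 1), (1, 180, 4, 1), (1, 52, 4, 1), (1, 347, 3, 0), (1, 206, 3, 0), (1, 7, 1, 1), (1, 317, 3, 1), (1, 199, 10, 0), (1, 65, 0, 1), (1, 327, 0, 1), (1, 121, 14, 0), (1, 246, 1, 1), (1, 249, 0, 0), (1, 249, 2, 0), (1, 347, 1, 1), (1, 161, 10, 1), (1, 170, 8, 1), (1, 195, 8, 0), (1, 183, 3, 1), (1, 8, 3, 0), (1, 300, 6, 0), (1, 119, 11, 1), (1, 187, 0, 1), (1, 121, 12, 1), (1, 131, 5, 0), (1, 206, 6, 1), (1, 214, 9, 1), (1, 219, 0, 0), (1, 205, 7, 1), (1, 115, 4, 0), (1, 159, 1, 0), (1, 41, 1, 0), (1, 132, 6, 0), (1, 7, 0, 0), (1, 141, 7, 1), (1, 5, 9, 1)]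

/-- Some hints. -/
def mclHint46 : List (ℕ × ℕ × ℕ × ℕ) :=
  [(1, 195, 2, 1), (1, 265, 9, 1), (1, 350, 2, 1), (1, 156, 7, 1), (1, 283, 0, 1), (1, 189, 1, 1), (1, 169, 8, 1), (1, 314, 7, 1), (1, 168, 5, 1), (1, 179, 4, 0), (1, 252, 8, 1), (1, 196, 4, 0), (1, 346, 9, 1), (1, 32, 4, 1), (1, 143, 9, 0), (1, 221, 0, 1), (1, 247, 7, 1), (1, 145, 3, 0), (1, 82, 5, 0), (1, 285, 6, 1), (1, 195, 4, 1), (1, 272, 9, 0), (1, 270, 1, 1), (1, 149, 1, 0), (1, 19, 3, 0), (1, 178, 7, 1), (1, 20, 3, 0), (1, 177, 6, 1), (1, 348, 3, 0), (1, 228, 1, 1), (1, 335, 1, 0), (1, 145, 9, 0), (1, 321, 7, 1), (1, 141, 3, 0), (1, 164, 2, 0), (1, 179, 0, 0), (1, 265, 17, 0), (1, 244, 0, 0), (1, 208, 9, 0), (1, 243, 3, 1), (1, 306, 2, 1), (1, 158, 0, 0),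 (1, 162, 3, 0), (1, 33, 3, 0), (1, 272, 5, 1), (1, 30, 5, 0), (1, 351, 3, 0), (1, 282, 2, 1), (1, 247, 6, 1), (1, 345, 5, 1), (1, 241, 4, 1), (1, 137, 7, 1), (1, 169, 5, 1), (1, 144, 3, 1), (1, 27, 2, 0), (1, 207, 6, 0), (1, 234, 7, 1), (1, 352, 10, 1), (1, 326, 2, 1), (1, 280, 9, 1), (1, 261, 9, 1), (1, 146, 5, 1), (1, 185, 2, 0), (1, 201, 2, 0)]

/-- Some hints. -/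
def mclHint47 : List (ℕ × ℕ × ℕ × ℕ) :=
  [(1, 316, 5, 0), (1, 285, 6, 0), (1, 256, 6, 0), (1, 143, 6, 0), (1, 144, 5, 1), (1, 261, 3, 0), (1, 306, 3, 1), (1, 217, 5, 1), (1, 232, 1, 0), (1, 189, 1, 0), (1, 295, 9, 1), (1, 345, 1, 0), (1, 42, 8, 0), (1, 277, 5, 0), (1, 146, 0, 1), (1, 19, 6, 0), (1, 139, 3, 1), (1, 282, 1, 1), (1, 251, 9, 1), (1, 256, 2, 1), (1, 42, 6, 0), (1, 256, 8, 1), (1, 339, 2, 0), (1, 343, 2, 0), (1, 30, 4, 0), (1, 191, 3, 0), (1, 220, 5, 0), (1, 121, 0, 0), (1, 254, 6, 0), (1, 300, 2, 0), (1, 300, 13, 1), (1, 323, 2, 1), (1, 261, 10, 1), (1, 165, 4, 1), (1, 250, 4, 1), (1, 125, 6, 1), (1, 300, 18, 0), (1, 65, 10, 1), (1, 12, 7, 0), (1, 262, 8, 1), (1, 200, 9, 0), (1, 187, 5, 1), (1, 12, 8, 0), (1,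 12, 3, 0), (1, 177, 3, 0), (1, 242, 4, 0), (1, 300, 6, 1), (1, 300, 8, 1), (1, 300, 17, 0), (1, 271, 2, 1), (1, 289, 11, 0), (1, 208, 8, 0), (1, 178, 3, 1), (1, 310, 6, 1), (1, 129, 3, 1), (1, 346, 8, 1), (1, 97, 8, 1), (1, 130, 5, 1), (1, 158, 7, 0), (1, 203, 0, 1), (1, 214, 6, 1), (1, 131, 2, 1), (1, 317, 2, 1), (1, 186, 9, 0)]

/-- Some hints. -/
def mclHint48 : List (ℕ × ℕ × ℕ × ℕ) :=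
  [(1, 130, 7, 0), (1, 252, 4, 1), (1, 174, 4, 1), (1, 297, 0, 1), (1, 283, 4, 1), (1, 293, 3, 1), (1, 34, 6, 0), (1, 80, 3, 1), (1, 265, 2, 0), (1, 263, 6, 1), (1, 90, 6, 0), (1, 304, 5, 0), (1, 300, 4, 0), (1, 319, 9, 0), (1, 242, 1, 1), (1, 289, 5, 1), (1, 7, 3, 1), (1, 138, 4, 0), (1, 330, 2, 1), (1, 215, 7, 1), (1, 160, 6, 1), (1, 180, 0, 1), (1, 33, 4, 0), (1, 39, 3, 0), (1, 135, 0, 1), (1, 336, 3, 0), (1, 272, 1, 0), (1, 35, 6, 0), (1, 66, 1, 1), (1, 30, 3, 1), (1, 8, 7, 0), (1, 68, 6, 1), (1, 177, 8, 1), (1, 241, 9, 1), (1, 347, 1, 0), (1, 157, 9, 1), (1, 249, 8, 0), (1, 249, 4, 0), (1, 275, 7, 1), (1, 275, 3, 1), (1, 215, 3, 0), (1, 240, 4, 0), (1, 327, 1, 0), (1, 300, 11, 0), (1, 272, 5, 0), (1, 270, 7, 1), (1,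 300, 5, 0), (1, 265, 4, 1), (1, 331, 7, 1), (1, 331, 10, 1), (1, 332, 6, 0), (1, 304, 2, 0), (1, 207, 5, 1), (1, 177, 3, 1), (1, 121, 11, 1), (1, 265, 2, 1), (1, 334, 4, 0), (1, 219, 8, 1), (1, 313, 8, 1), (1, 237, 1, 0), (1, 255, 3, 1), (1, 143, 0, 0), (1, 261, 1, 1), (1, 231, 8, 1)]

/-- Some hints. -/
def mclHint49 : List (ℕ × ℕ × ℕ × ℕ) :=
  [(1, 308, 0, 0), (1, 333, 4, 1), (1, 252, 11, 1), (1, 123, 2, 0), (1, 270, 5, 0), (1, 46, 0, 1), (1, 288, 6, 1), (1, 148, 5, 1), (1, 161, 5, 1), (1, 307, 2, 1), (1, 226, 4, 1), (1, 157, 2, 1), (1, 33, 6, 0), (1, 41, 5, 1), (1, 268, 8, 1), (1, 57, 0, 0), (1, 237, 9, 1), (1, 272, 3, 0), (1, 94, 2, 1), (1, 182, 7, 0), (1, 262, 6, 1), (1, 178, 5, 0), (1, 265, 0, 1), (1, 3, 4, 1), (1,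 208, 0, 0), (1, 273, 2, 1), (1, 295, 8, 1), (1, 133, 1, 1), (1, 197, 4, 0), (1, 97, 0, 1), (1, 271, 0, 0), (1, 196, 0, 0), (1, 41, 3, 0), (1, 247, 7, 0), (1, 320, 7, 1), (1, 315, 2, 1), (1, 248, 0, 1), (1, 5, 6, 0), (1, 321, 0, 0), (1, 320, 3, 1), (1, 228, 4, 1), (1, 96, 8, 0), (1, 67, 5, 0), (1, 117, 3, 1), (1, 184, 1, 0), (1, 284, 2, 0), (1, 335, 0, 0), (1, 176, 6, 0), (1, 133, 8, 0), (1, 276, 3, 0), (1, 239, 8, 0), (1, 95, 6, 1), (1, 280, 7, 1), (1, 338, 5, 1), (1, 241, 10, 1), (1, 342, 7, 0), (1, 334, 2, 1), (1, 219, 10, 0), (1, 351, 1, 1), (1, 121, 7, 1), (1, 169, 6, 1), (1, 183, 4, 1), (1, 122, 9, 1), (1, 30, 11, 1)]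

/-- Some hints. -/
def mclHint50 : List (ℕ × ℕ × ℕ × ℕ) :=
  [(1, 283, 2, 1), (1, 292, 0, 0), (1, 228, 9, 1), (1, 210, 2, 1), (1, 25, 5, 0), (1, 121, 21, 1), (1, 353, 0, 0), (1, 239, 2, 1), (1, 45, 7, 0), (1, 289, 0, 1), (1, 323, 10, 1), (1, 231, 4, 1), (1, 263, 4, 1), (1, 121, 20, 0), (1, 243, 9, 1), (1, 351, 2, 0), (1, 124, 9, 0), (1, 256, 4, 1), (1, 317, 9, 1), (1, 28, 11, 0), (1, 265, 16, 0), (1, 208, 5, 0), (1, 197, 4, 1), (1, 237, 3, 1), (1, 248, 8, 0), (1, 153, 0, 0), (1, 327, 2, 0), (1, 265, 8, 0), (1, 160, 9, 1), (1, 275, 0, 1), (1, 312, 1, 1), (1, 219, 9, 0), (1, 350, 2, 0), (1, 241, 2, 1), (1, 352, 2, 1), (1, 300, 14, 1), (1, 96, 5, 0), (1, 226, 9, 0), (1, 225, 1, 1), (1, 157, 8, 1), (1, 314, 2, 1), (1, 271,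 11, 1), (1, 121, 19, 1), (1, 25, 2, 1), (1, 35, 7, 1), (1, 199, 1, 0), (1, 29, 1, 1), (1, 128, 3, 1), (1, 256, 9, 1), (1, 254, 2, 0), (1, 206, 7, 0), (1, 282, 7, 0), (1, 3, 3, 0), (1, 300, 3, 1), (1, 237, 5, 0), (1, 302, 5, 0), (1, 222, 3, 0), (1, 29, 10, 0), (1, 214, 5, 1), (1, 41, 5, 0), (1, 265, 10, 0), (1, 290, 5, 1), (1, 7, 4, 0), (1, 7, 7, 1)]

/-- Some hints. -/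
def mclHint51 : List (ℕ × ℕ × ℕ × ℕ) :=
  [(1, 202, 7, 0), (1, 121, 5, 0), (1, 174, 6, 0), (1, 158, 5, 1), (1, 97, 1, 0), (1, 246, 1, 0), (1, 169, 9, 1), (1, 26, 4, 1), (1, 139, 9, 0), (1, 199, 4, 0), (1, 261, 2, 1), (1, 28, 3, 1), (1, 118, 6, 0), (1, 168, 7, 1), (1, 10, 5, 0), (1, 187, 4, 0), (1, 236, 6, 1), (1, 150, 0, 1), (1, 207, 5, 0), (1, 256, 6, 1), (1, 250, 3, 1), (1, 222, 1, 0), (1, 244, 2, 1), (1, 53, 3, 1), (1, 182, 1, 0), (1, 211, 11, 1), (1, 92, 7, 0), (1, 177, 5, 0), (1, 155, 5, 1), (1, 145, 2, 0), (1, 257, 0, 0), (1, 326, 4, 1), (1, 257, 5, 0), (1, 203, 2, 0), (1, 165, 2, 1), (1, 103, 6, 0), (1, 238, 2, 1), (1, 233, 2, 1), (1, 298, 10, 1), (1, 319, 10, 1), (1, 245, 6, 0), (1, 242, 6, 0), (1, 268, 2, 0), (1,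 139, 8, 1), (1, 58, 5, 0), (1, 349, 3, 1), (1, 27, 2, 1), (1, 35, 5, 1), (1, 251, 0, 1), (1, 302, 7, 0), (1, 35, 8, 1), (1, 123, 0, 0), (1, 263, 8, 1), (1, 53, 4, 0), (1, 271, 4, 0), (1, 201, 0, 0), (1, 175, 0, 1), (1, 46, 2, 0), (1, 187, 4, 1), (1, 230, 3, 0), (1, 198, 4, 1), (1, 207, 0, 1), (1, 33, 5, 0), (1, 347, 7, 0)]

/-- Some hints. -/
def mclHint52 : List (ℕ × ℕ × ℕ × ℕ) :=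
  [(1, 180, 3, 1), (1, 205, 0, 0), (1, 83, 6, 1), (1, 236, 9, 0), (1, 19, 1, 1), (1, 93, 1, 0), (1, 212, 6, 0), (1, 171, 7, 0), (1, 170, 4, 0), (1, 189, 3, 0), (1, 55, 3, 1), (1, 263, 2, 0), (1, 160, 0, 1), (1, 249, 1, 0), (1, 300, 9, 0), (1, 176, 1, 0), (1, 187, 7, 1), (1, 333, 11, 0), (1, 251, 7, 1), (1, 124, 5, 0), (1, 52, 1, 0), (1, 58, 0, 0), (1, 50, 0, 1), (1, 122, 10, 1), (1, 132, 9, 1), (1, 304, 1, 1), (1, 347, 2, 0), (1, 195, 1, 1), (1, 121, 10, 0), (1, 121, 2, 0), (1, 234, 2, 0), (1, 259, 6, 0), (1, 298, 8, 1), (1, 242, 0, 0), (1, 246, 8, 0), (1, 308, 8, 1), (1, 171, 2, 0), (1, 320, 0, 0), (1, 331, 9, 0), (1, 332, 1, 1), (1, 157, 4, 0), (1, 316, 4, 0), (1, 87, 1, 0), (1, 55, 0, 0), (1, 265, 5, 1), (1, 66, 1, 0),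 (1, 150, 3, 1), (1, 347, 5, 0), (1, 182, 7, 1), (1, 265, 22, 0), (1, 172, 8, 0), (1, 290, 11, 0), (1, 304, 3, 0), (1, 300, 7, 0), (1, 322, 5, 1), (1, 121, 16, 1), (1, 314, 4, 0), (1, 319, 8, 1), (1, 265, 11, 0), (1, 65, 4, 1), (1, 76, 6, 0), (1, 5, 2, 1), (1, 300, 3, 0), (1, 121, 3, 0)]

/-- Some hints. -/
def mclHint53 : List (ℕ × ℕ × ℕ × ℕ) :=
  [(1, 122, 13, 0), (1, 216, 3, 0), (1, 230, 1, 0), (1, 266, 3, 1), (1, 306, 1, 1), (1, 207, 1, 0), (1, 182, 2, 0), (1, 272, 1, 1), (1, 322, 4, 1), (1, 119, 0, 1), (1, 297, 9, 1), (1, 121, 15, 0), (1, 13, 1, 0), (1, 212, 5, 0), (1, 203, 2, 1), (1, 120, 0, 0), (1, 208, 4, 1), (1, 265, 21, 1), (1, 76, 7, 0), (1, 306, 5, 1), (1, 29, 0, 0), (1, 232, 4, 0), (1, 271, 7, 0), (1, 285, 3,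 0), (1, 340, 2, 0), (1, 35, 1, 1), (1, 149, 2, 1), (1, 290, 6, 1), (1, 121, 14, 1), (1, 115, 3, 0), (1, 346, 0, 0), (1, 332, 1, 0), (1, 300, 14, 0), (1, 211, 0, 1), (1, 157, 7, 1), (1, 300, 5, 1), (1, 34, 5, 0), (1, 119, 2, 1), (1, 220, 1, 0), (1, 121, 24, 0), (1, 165, 3, 0), (1, 288, 3, 1), (1, 203, 3, 1), (1, 349, 7, 0), (1, 221, 2, 1), (1, 332, 9, 0), (1, 331, 1, 1), (1, 128, 7, 1), (1, 229, 6, 0), (1, 219, 4, 0), (1, 185, 8, 0), (1, 222, 5, 0), (1, 308, 7, 1), (1, 333, 3, 0), (1, 147, 3, 0), (1, 121, 9, 0), (1, 121, 15, 1), (1, 219, 1, 1), (1, 230, 6, 1), (1, 316, 3, 0), (1, 300, 4, 1), (1, 204, 9, 1), (1, 300, 10, 0), (1, 167, 1, 1)]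

/-- Some hints. -/
def mclHint54 : List (ℕ × ℕ × ℕ × ℕ) :=
  [(1, 285, 1, 0), (1, 34, 2, 0), (1, 236, 7, 0), (1, 301, 3, 0), (1, 130, 3, 1), (1, 265, 11, 1), (1, 121, 1, 1), (1, 122, 2, 0), (1, 225, 10, 1), (1, 226, 6, 0), (1, 129, 8, 1), (1, 238, 2, 0), (1, 148, 7, 1), (1, 125, 3, 1), (1, 261, 9, 0), (1, 294, 9, 1), (1, 241, 3, 0), (1, 3, 8, 1), (1, 19, 9, 0), (1, 290, 6, 0), (1, 326, 10, 1), (1, 300, 13, 0), (1, 128, 6, 0), (1, 290, 0, 0), (1, 265, 7, 0), (1, 331, 6, 0), (1, 332, 10, 1), (1, 309, 4, 1), (1, 199, 10, 1)]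

/-- Where the rules come from. -/
def mclHint : List (List (ℕ × ℕ × ℕ × ℕ)) := [mclHint0, mclHint1, mclHint2, mclHint3, mclHint4, mclHint5, mclHint6, mclHint7, mclHint8, mclHint9, mclHint10, mclHint11, mclHint12, mclHint13, mclHint14, mclHint15, mclHint16, mclHint17, mclHint18, mclHint19, mclHint20, mclHint21, mclHint22, mclHint23, mclHint24, mclHint25, mclHint26, mclHint27, mclHint28, mclHint29, mclHint30, mclHint31, mclHint32, mclHint33, mclHint34, mclHint35, mclHint36, mclHint37, mclHint38, mclHint39, mclHint40, mclHint41, mclHint42, mclHint43, mclHint44, mclHint45, mclHint46, mclHint47, mclHint48, mclHint49, mclHint50, mclHint51, mclHint52, mclHint53, mclHint54]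

/-- The rules of the automorphism. -/
def mclAl : List (ℕ × List ℕ × List ℕ) := [(16, [2, 0, 0, 2, 0, 3, 1, 2, 0, 0, 0, 3], [1, 1, 1, 3, 0, 0, 3, 0, 2, 1, 1]), (14, [0, 0, 3, 0, 2, 0, 0, 0, 2, 0, 0, 2], [3, 0, 0, 2, 1, 2, 0, 0, 0]), (117, [2, 1, 2, 0, 2, 1, 2, 1, 2, 0], [0, 0, 2, 0, 0, 2, 1, 2, 1, 1, 3])]

end Cfsg.Lib.MclType
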