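import Cfsg.Agent.Lib.MclType.CountFacts
import Cfsg.Agent.Lib.StrongEmb.ExistsGood
import Cfsg.Agent.Lib.StrongEmb.Core

/-!
# A copy of the model group containing the centralizer of the involution is everything
-/

set_option autoImplicit false
set_option maxRecDepth 100000
set_option linter.style.haveILetI false
set_option linter.unusedSectionVars false

namespace Cfsg.Lib.MclType

open Cfsg.Lib.PermAut Subgroup MulAction

variable {G : Type*} [Group G] [Finite G] {t : G}

theorem qCase_false (M : Subgroup G) (hM : Nat.card M = 898128000)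
    (hcov : IsNonsplitDoubleCover (centralizer ({t} : Set G)) (alternatingGroup (Fin 8)))
    (hone : ∀ w : G, orderOf w = 2 → IsConj w t) {e : ℕ × ℕ × List (ℕ × ℕ)} (he : e ∈ qCases)
    (hidx : M.index = 40320 / e.1 + 1) : False := by
  classical
  obtain ⟨c, q, l⟩ := e
  obtain ⟨hqp, hlp⟩ := qCases_prime _ he
  simp only at hqp hlp hidx
  haveI : Fact q.Prime := ⟨hqp⟩
  haveI : Fact (Nat.Prime 2) := ⟨Nat.prime_two⟩
  obtain ⟨-, hC, -⟩ := exists_proj hcov
  have hchk := List.all_eq_true.1 qCases_ok.1 _ he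
  have hprod := Nat.eq_of_beq_eq_true (List.all_eq_true.1 qCases_ok.2 _ he)
  set R := (l.map fun f => f.1 ^ f.2).prod
  have hG : Nat.card G = q * (16 * R) := by
    rw [← M.card_mul_index, hM, hidx]
    have h' : q * 16 * R = 898128000 * (40320 / c + 1) := hprod
    rw [← h', mul_assoc]
  have hqC : ¬ q ∣ 40320 := by
    fin_cases he <;> norm_num
  obtain ⟨x0, hx0⟩ := exists_prime_orderOf_dvd_card' (G := G) q (by rw [hG]; exact dvd_mul_right q _)
  have hcent : ∀ w : G, orderOf w = 2 → ∀ y : G, y * w = w * y → orderOf y ∣ 40320 := by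
    intro w hw y hy
    obtain ⟨g, hg⟩ := isConj_iff.1 (hone w hw)
    have hm : g * y * g⁻¹ ∈ centralizer ({t} : Set G) := mem_centralizer_singleton_iff.2 (by
      rw [← hg]
      calc g * y * g⁻¹ * (g * w * g⁻¹) = g * (y * w) * g⁻¹ := by group
        _ = _ := by rw [hy]; group)
    have := Subgroup.orderOf_dvd_natCard _ hm
    rw [hC] at this
    exact (MulEquiv.orderOf_eq (MulAut.conj g) y) ▸ this
  have hqq : ¬ q ^ 2 ∣ Nat.card G := by
    rw [hG, pow_two]
    intro h
    have h2 : q ∣ 16 * R := Nat.dvd_of_mul_dvd_mul_left hqp.pos h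
    have hmem := List.all_eq_true.1 hchk
    rcases hqp.dvd_mul.1 h2 with h3 | h3
    · have := Nat.le_of_dvd (by norm_num) h3
      fin_cases he <;> norm_num at this
    · obtain ⟨a, ha, hd⟩ := (Nat.Prime.prime hqp).dvd_prod_iff.1 h3
      obtain ⟨f, hf, rfl⟩ := List.mem_map.1 ha
      have := (Nat.prime_dvd_prime_iff_eq hqp (hlp f hf)).1 (hqp.dvd_of_dvd_pow hd)
      fin_cases he <;> fin_cases hf <;> norm_num at this
  obtain ⟨Q⟩ := (inferInstance : Nonempty (Sylow q G))
  have hQc : Nat.card (Q : Subgroup G) = q := by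
    obtain ⟨k, hk⟩ := IsPGroup.iff_card.1 Q.2
    have h1 : q ∣ Nat.card (Q : Subgroup G) := Q.dvd_card_of_dvd_card (by rw [hG]; exact dvd_mul_right q _)
    have h2 : k < 2 := by
      by_contra hk2
      exact hqq ((pow_dvd_pow q (show 2 ≤ k by omega)).trans (hk ▸ (Q : Subgroup G).card_subgroup_dvd_card))
    interval_cases k
    · rw [hk, pow_zero] at h1
      exact absurd (Nat.le_of_dvd one_pos h1) (by have := hqp.two_le; omega)
    · rw [hk, pow_one]
  haveI : IsCyclic (Q : Subgroup G) := isCyclic_of_prime_card hQc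
  set N := normalizer ((Q : Subgroup G) : Set G) with hN
  set x := N.index with hx
  have hxmod : x ≡ 1 [MOD q] := by
    have h := card_sylow_modEq_one q G
    rw [Q.card_eq_index_normalizer] at h
    exact h
  have hNx : Nat.card N * x = q * (16 * R) := by rw [hx, N.card_mul_index, hG]
  -- the Sylow two-subgroup of the normalizer is cyclic of order at most eight
  have h16N : ¬ 2 ^ 4 ∣ Nat.card N := by
    intro hd
    obtain ⟨S, hS⟩ := Sylow.exists_subgroup_card_pow_prime 2 hd
    let ψ : S →* MulAut (Q : Subgroup G) := (Q : Subgroup G).normalizerMonoidHom.comp S.subtype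
    have hinj : Function.Injective ψ := by
      rw [← MonoidHom.ker_eq_bot_iff, eq_bot_iff]
      intro z hz
      rw [MonoidHom.mem_ker] at hz
      by_contra hz1
      rw [Subgroup.mem_bot] at hz1
      have hcz : ((z : N) : G) ∈ centralizer ((Q : Subgroup G) : Set G) := by
        have hk : (z : N) ∈ (Q : Subgroup G).normalizerMonoidHom.ker := MonoidHom.mem_ker.2 hz
        rw [Subgroup.normalizerMonoidHom_ker, mem_subgroupOf] at hk
        exact hk
      -- a power is an involution
      have h16 : z ^ 16 = 1 := by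
        have := pow_card_eq_one' (x := z)
        rwa [hS] at this
      obtain ⟨k, hk, hok⟩ := (Nat.dvd_prime_pow Nat.prime_two).1
        (show orderOf z ∣ 2 ^ 4 from orderOf_dvd_of_pow_eq_one h16)
      rcases k with - | k
      · exact hz1 (orderOf_eq_one_iff.1 hok)
      have hw : orderOf (((z ^ 2 ^ k : S) : N) : G) = 2 := by
        rw [Subgroup.orderOf_coe, Subgroup.orderOf_coe, orderOf_pow' _ (by positivity), hok,
          Nat.gcd_eq_right (pow_dvd_pow 2 (Nat.le_succ k)), pow_succ, Nat.mul_div_cancel_left _ (by positivity)]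
      obtain ⟨y, hy⟩ := exists_prime_orderOf_dvd_card' (G := (Q : Subgroup G)) q (by rw [hQc])
      have hcy : (y : G) * (((z ^ 2 ^ k : S) : N) : G) = (((z ^ 2 ^ k : S) : N) : G) * y := by
        have hc : Commute (y : G) ((z : N) : G) := mem_centralizer_iff.1 hcz y y.2
        simp only [SubmonoidClass.coe_pow]
        exact (hc.pow_right _).eq
      refine hqC ?_
      have := hcent _ hw _ hcy
      rwa [Subgroup.orderOf_coe, hy] at this
    haveI : IsCyclic S := by
      haveI : IsCyclic (MulAut (Q : Subgroup G)) := by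
        obtain ⟨e'⟩ : Nonempty (MulAut (Q : Subgroup G) ≃* (ZMod (Nat.card (Q : Subgroup G)))ˣ) :=
          ⟨IsCyclic.mulAutMulEquiv _⟩
        haveI : Fact (Nat.card (Q : Subgroup G)).Prime := ⟨by rw [hQc]; exact hqp⟩
        exact isCyclic_of_surjective e'.symm e'.symm.surjective
      exact isCyclic_of_injective ψ hinj
    obtain ⟨z, hz⟩ := IsCyclic.exists_generator (α := S)
    have hzo : orderOf z = 16 := by
      rw [orderOf_eq_card_of_forall_mem_zpowers hz, hS]; norm_num
    set u : G := ((z : N) : G)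
    have huo : orderOf u = 16 := by rw [Subgroup.orderOf_coe, Subgroup.orderOf_coe, hzo]
    have hw : orderOf (u ^ 8) = 2 := by rw [orderOf_pow' _ (by norm_num), huo]; norm_num
    obtain ⟨g, hg⟩ := isConj_iff.1 (hone _ hw)
    have hm : g * u * g⁻¹ ∈ centralizer ({t} : Set G) := mem_centralizer_singleton_iff.2 (by
      rw [← hg]
      calc g * u * g⁻¹ * (g * u ^ 8 * g⁻¹) = g * (u * u ^ 8) * g⁻¹ := by group
        _ = g * (u ^ 8 * u) * g⁻¹ := by rw [(Commute.self_pow u 8).eq]
        _ = _ := by group)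
    have h8 := pow_eight hcov (x := ⟨_, hm⟩) (Subtype.ext (by
      rw [SubmonoidClass.coe_pow]
      show (g * u * g⁻¹) ^ 16 = 1
      rw [conj_pow, ← huo, pow_orderOf_eq_one]; group))
    have h8' : (g * u * g⁻¹) ^ 8 = 1 := congrArg Subtype.val h8
    have hd8 := orderOf_dvd_of_pow_eq_one h8'
    have he' : orderOf (g * u * g⁻¹) = 16 := by
      rw [← huo]; exact MulEquiv.orderOf_eq (MulAut.conj g) u
    rw [he'] at hd8
    norm_num at hd8
  have hR8 : 8 ∣ R := by fin_cases he <;> decide +kernel
  obtain ⟨R8, hR8⟩ := hR8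
  have h16x : 16 ∣ x := by
    have hN0 : Nat.card N ≠ 0 := Nat.card_pos.ne'
    obtain ⟨v, o, ho, hNo⟩ := Nat.exists_eq_two_pow_mul_odd hN0
    have hv : v ≤ 3 := by
      by_contra hv
      exact h16N (hNo ▸ Dvd.dvd.mul_right (pow_dvd_pow 2 (by omega)) _)
    have hd : 2 ^ 7 ∣ 2 ^ v * (o * x) := ⟨q * R8, by rw [← mul_assoc, ← hNo, hNx, hR8]; ring⟩
    rw [show 7 = v + (7 - v) by omega, pow_add] at hd
    have h2 := (Nat.Coprime.pow_left (7 - v) (Nat.coprime_two_left.2 ho)).dvd_of_dvd_mul_left
      (Nat.dvd_of_mul_dvd_mul_left (pow_pos two_pos _) hd)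
    exact (pow_dvd_pow 2 (show 4 ≤ 7 - v by omega)).trans h2
  obtain ⟨y, hy⟩ := h16x
  have hyR : y ∣ R := by
    have hqN : q ∣ Nat.card N := hQc ▸ Subgroup.card_dvd_of_le le_normalizer
    obtain ⟨m, hm⟩ := hqN
    rw [hm, hy, mul_assoc] at hNx
    have h1 := Nat.eq_of_mul_eq_mul_left hqp.pos hNx
    exact ⟨m, Nat.eq_of_mul_eq_mul_left (show 0 < 16 by norm_num) (by rw [← h1]; ring)⟩
  have hbad := List.all_eq_true.1 hchk y (mem_divList hlp hyR)
  rw [Bool.not_eq_true', Bool.eq_false_iff] at hbad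
  refine hbad (Nat.beq_eq ▸ ?_)
  show (16 * y) % q = 1
  rw [← hy]
  have := hxmod
  rw [Nat.ModEq, Nat.mod_eq_of_lt hqp.one_lt] at this
  exact this

theorem kCase_false (M D : Subgroup G) (φ : M ≃* ↥MclInv.KK) (hDM : D ≤ M)
    {e : ℕ × List (ℕ × ℕ)} (he : e ∈ kCases) (hD : Nat.card D = 22275 * e.1) : False := by
  classical
  obtain ⟨c, l⟩ := e
  have hlp := kCases_prime _ he
  simp only at hlp hD
  haveI : Fact (Nat.Prime 11) := ⟨by norm_num⟩
  haveI : Fact (Nat.Prime 7) := ⟨by norm_num⟩
  have hchk := List.all_eq_true.1 kCases_ok.1 _ he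
  have hprod : 7 * (l.map fun f => f.1 ^ f.2).prod = 2025 * c :=
    Nat.eq_of_beq_eq_true (List.all_eq_true.1 kCases_ok.2 _ he)
  set R := (l.map fun f => f.1 ^ f.2).prod with hR
  have hD' : Nat.card D = 11 * (7 * R) := by rw [hD, hprod]; ring
  have h11R : ¬ 11 ∣ 7 * R := by
    rw [hprod]
    fin_cases he <;> norm_num
  obtain ⟨P⟩ := (inferInstance : Nonempty (Sylow 11 D))
  have hPc : Nat.card (P : Subgroup D) = 11 := by
    rw [P.card_eq_multiplicity, hD', Nat.factorization_mul (by norm_num) (fun h => h11R (by rw [h]; exact dvd_zero _)),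
      Finsupp.add_apply, Nat.Prime.factorization_self (by norm_num),
      Nat.factorization_eq_zero_of_not_dvd h11R, pow_one]
  haveI : IsCyclic (P : Subgroup D) := isCyclic_of_prime_card hPc
  set N := normalizer ((P : Subgroup D) : Set D) with hN
  set x := N.index with hx
  have hxmod : x ≡ 1 [MOD 11] := by
    have h := card_sylow_modEq_one 11 D
    rw [P.card_eq_index_normalizer] at h
    exact h
  have hNx : Nat.card N * x = 11 * (7 * R) := by rw [hx, N.card_mul_index, hD']
  have h7N : ¬ 7 ∣ Nat.card N := by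
    intro h7
    obtain ⟨y, hy⟩ := exists_prime_orderOf_dvd_card' (G := N) 7 h7
    have hyo : orderOf (y : D) = 7 := by rw [Subgroup.orderOf_coe, hy]
    obtain ⟨z, hz⟩ := exists_prime_orderOf_dvd_card' (G := (P : Subgroup D)) 11 (by rw [hPc])
    have hc := commute_of_coprime (P : Subgroup D) y.2
      (by rw [hyo, hPc, Nat.totient_prime (by norm_num)]; norm_num) z z.2
    let ι : D →* ↥MclInv.KK := φ.toMonoidHom.comp (Subgroup.inclusion hDM)
    have hι : Function.Injective ι := φ.injective.comp (Subgroup.inclusion_injective hDM)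
    refine no_seven_eleven (y := ι y) (x := ι z) ?_ ?_ ?_
    · rw [orderOf_injective ι hι, hyo]
    · rw [orderOf_injective ι hι, Subgroup.orderOf_coe, hz]
    · rw [← map_mul, ← map_mul, hc]
  have h7x : 7 ∣ x := by
    have : 7 ∣ Nat.card N * x := ⟨11 * R, by rw [hNx]; ring⟩
    exact ((Nat.Prime.dvd_mul (by norm_num)).1 this).resolve_left h7N
  obtain ⟨y, hy⟩ := h7x
  have hyR : y ∣ R := by
    have h11 : 11 ∣ Nat.card N := hPc ▸ Subgroup.card_dvd_of_le le_normalizer
    obtain ⟨m, hm⟩ := h11
    rw [hm, hy, mul_assoc] at hNx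
    have h1 := Nat.eq_of_mul_eq_mul_left (show 0 < 11 by norm_num) hNx
    exact ⟨m, Nat.eq_of_mul_eq_mul_left (show 0 < 7 by norm_num) (by rw [← h1]; ring)⟩
  have hbad := List.all_eq_true.1 hchk y (mem_divList hlp hyR)
  rw [Bool.not_eq_true', Bool.eq_false_iff] at hbad
  refine hbad (Nat.beq_eq ▸ ?_)
  show (7 * y) % 11 = 1
  rw [← hy]
  simpa [Nat.ModEq] using hxmod

/-- A copy of the model containing the centralizer is the whole group. -/
theorem top_of_model (ht : orderOf t = 2)
    (hcov : IsNonsplitDoubleCover (centralizer ({t} : Set G)) (alternatingGroup (Fin 8)))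
    (φ : ↥MclInv.KK →* G) (hφ : Function.Injective φ) (hle : centralizer ({t} : Set G) ≤ φ.range)
    {v : G} (hv : orderOf v = 2) (hvt : v ≠ t) (hcv : Commute t v) : φ.range = ⊤ := by
  classical
  by_contra hne
  set M := φ.range with hMdef
  let e : ↥MclInv.KK ≃* M := MonoidHom.ofInjective hφ
  have hM : Nat.card M = 898128000 := by rw [← Nat.card_congr e.toEquiv, card_kk]
  have htM : t ∈ M := hle (mem_centralizer_singleton_iff.2 rfl)
  have hvM : v ∈ M := hle (mem_centralizer_singleton_iff.2 hcv.eq.symm)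
  have hMone : ∀ x y : M, orderOf x = 2 → orderOf y = 2 → IsConj x y := by
    intro x y hx hy
    have h1 := MclInv.one_class (e.symm x) (by rw [MulEquiv.orderOf_eq, hx])
    have h2 := MclInv.one_class (e.symm y) (by rw [MulEquiv.orderOf_eq, hy])
    have := MonoidHom.map_isConj e.toMonoidHom (h1.trans h2.symm)
    simpa using this
  have hcent : ∀ x ∈ M, orderOf x = 2 → ∀ y : G, y * x = x * y → y ∈ M := by
    intro x hx ho y hy
    obtain ⟨m, hm⟩ := isConj_iff.1 (hMone ⟨t, htM⟩ ⟨x, hx⟩ (by rw [orderOf_mk, ht]) (by rw [orderOf_mk, ho]))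
    have hm' : (m : G) * t * (m : G)⁻¹ = x := congrArg Subtype.val hm
    have : (m : G)⁻¹ * y * m ∈ M := hle (mem_centralizer_singleton_iff.2 (by
      calc (m : G)⁻¹ * y * m * t = (m : G)⁻¹ * (y * ((m : G) * t * (m : G)⁻¹)) * m := by group
        _ = (m : G)⁻¹ * (((m : G) * t * (m : G)⁻¹) * y) * m := by rw [hm', hy]
        _ = t * ((m : G)⁻¹ * y * m) := by group))
    have h2 := mul_mem (mul_mem m.2 this) (inv_mem m.2)
    simpa [mul_assoc] using h2
  have heven : Even (Nat.card M) := by rw [hM]; exact ⟨449064000, rfl⟩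
  have hse : IsStronglyEmbedded M := by
    refine (Invol.stronglyEmbedded_iff hne heven).2 fun x hx hxo g hg => ?_
    obtain ⟨m, hm⟩ := isConj_iff.1 (hMone ⟨g * x * g⁻¹, hg⟩ ⟨x, hx⟩
      (by rw [orderOf_mk, Invol.orderOf_conj_eq, hxo]) (by rw [orderOf_mk, hxo]))
    have hm' : (m : G) * (g * x * g⁻¹) * (m : G)⁻¹ = x := congrArg Subtype.val hm
    have h3 : (m : G) * g ∈ M := hcent x hx hxo _ (by
      calc (m : G) * g * x = (m : G) * (g * x * g⁻¹) * (m : G)⁻¹ * ((m : G) * g) := by group
        _ = x * ((m : G) * g) := by rw [hm'])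
    simpa using mul_mem (inv_mem m.2) h3
  have hone : ∀ w : G, orderOf w = 2 → IsConj w t := fun w hw => Invol.se_isConj hse hw ht
  obtain ⟨hCf, hC, -⟩ := exists_proj hcov
  -- the number of involutions
  have hk : StrongEmb.kInv M = 22275 := by
    rw [StrongEmb.kInv_eq_index hse htM ht]
    have h := ((centralizer ({t} : Set G)).subgroupOf M).card_mul_index
    rw [Nat.card_congr (Subgroup.subgroupOfEquivOfLe hle).toEquiv, hC, hM] at h
    omega
  -- two points
  set a : G ⧸ M := QuotientGroup.mk 1 with ha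
  obtain ⟨b, hba⟩ := StrongEmb.exists_ne hse a
  obtain ⟨w, hw, hwab⟩ := StrongEmb.exists_swapper hse (Ne.symm hba)
  set D := stabilizer G a ⊓ stabilizer G b with hDdef
  have hstab : stabilizer G a = M := by
    ext g
    rw [mem_stabilizer_iff, ha, MulAction.Quotient.smul_mk, QuotientGroup.eq]
    simp
  have hDM : D ≤ M := inf_le_left.trans hstab.le
  have hDodd := StrongEmb.odd_two hse (Ne.symm hba)
  have hnw := StrongEmb.swapper_norm (H := M) hw hwab
  set Cw := (centralizer ({w} : Set G)).subgroupOf D with hCw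
  have hidxw : Cw.index = 22275 := by
    rw [hCw, ← StrongEmb.ncard_invSet hw hnw hDodd, StrongEmb.ncard_invSet_two hse (Ne.symm hba) hw hwab, hk]
  set c := Nat.card Cw with hc
  have hDc : Nat.card D = 22275 * c := by rw [← Cw.card_mul_index, hidxw, hc, mul_comm]
  obtain ⟨g, hg⟩ := isConj_iff.1 (hone w hw)
  have hmem : ∀ y : Cw, g * ((y : D) : G) * g⁻¹ ∈ centralizer ({t} : Set G) := fun y =>
    mem_centralizer_singleton_iff.2 (by
      have hy := mem_centralizer_singleton_iff.1 (mem_subgroupOf.1 y.2)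
      rw [← hg]
      calc g * ((y : D) : G) * g⁻¹ * (g * w * g⁻¹) = g * (((y : D) : G) * w) * g⁻¹ := by group
        _ = _ := by rw [hy]; group)
  let ι : Cw →* centralizer ({t} : Set G) :=
    ((MulAut.conj g).toMonoidHom.comp (D.subtype.comp Cw.subtype)).codRestrict _ hmem
  have hι : Function.Injective ι := fun p q h =>
    Subtype.ext (Subtype.ext ((MulAut.conj g).injective (congrArg Subtype.val h)))
  have hEc : Nat.card ι.range = c := (Nat.card_congr (MonoidHom.ofInjective hι).toEquiv).symm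
  have hc315 : c ∣ 315 := by
    have h1 : c ∣ 2 ^ 7 * 315 := by
      rw [show 2 ^ 7 * 315 = 40320 by norm_num, ← hC, ← hEc]
      exact ι.range.card_subgroup_dvd_card
    have h2 : Odd c := hDodd.of_dvd_nat ⟨22275, by rw [← hDdef, hDc, mul_comm]⟩
    exact ((Nat.coprime_two_right.2 h2).pow_right 7).dvd_of_dvd_mul_left h1
  have hc0 : 0 < c := Nat.card_pos
  -- double transitivity
  have hfour : ∃ s u : G, s ∈ M ∧ u ∈ M ∧ orderOf s = 2 ∧ orderOf u = 2 ∧ s ≠ u ∧ Commute s u :=
    ⟨t, v, htM, hvM, ht, hv, Ne.symm hvt, hcv⟩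
  have hidx : M.index = 40320 / c + 1 := by
    have horb : MulAction.orbit M b = {a}ᶜ := by
      ext y
      constructor
      · rintro ⟨m, rfl⟩ hy
        refine hba ?_
        have hma : (m : G) • a = a := mem_stabilizer_iff.1 (hstab.ge m.2)
        exact MulAction.injective (m : G) ((Set.mem_singleton_iff.1 hy).trans hma.symm)
      · intro hy
        obtain ⟨k, hk1, hk2⟩ := StrongEmb.pretransitive_of_four hse hfour (Ne.symm hba)
          (Ne.symm (Set.mem_compl_singleton_iff.1 hy))
        exact ⟨⟨k, hstab.le (mem_stabilizer_iff.2 hk1)⟩, hk2⟩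
    have h1 : (stabilizer M b).index = M.index - 1 := by
      rw [MulAction.index_stabilizer, horb, Set.ncard_compl (s := {a}) (Set.toFinite _), Set.ncard_singleton]
      rfl
    have h2 : Nat.card (stabilizer M b) = Nat.card D := by
      refine Nat.card_congr
        { toFun := fun m => ⟨(m : M), hstab.ge (m : M).2, m.2⟩
          invFun := fun d => ⟨⟨d, hstab.le d.2.1⟩, d.2.2⟩
          left_inv := fun m => rfl
          right_inv := fun d => rfl }
    have h := (stabilizer M b).card_mul_index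
    rw [h1, h2, hDc, hM] at h
    have h3 : c * (M.index - 1) = 40320 := by
      have : 22275 * (c * (M.index - 1)) = 22275 * 40320 := by rw [← mul_assoc, h]
      exact Nat.eq_of_mul_eq_mul_left (by norm_num) this
    have h4 : M.index ≠ 0 := index_ne_zero_of_finite
    rw [← h3, Nat.mul_div_cancel_left _ hc0]
    omega
  rcases c_cases c hc315 with h | h | h
  · obtain ⟨e', he', hce⟩ := List.mem_map.1 h
    exact qCase_false M hM hcov hone he' (by rw [hce]; exact hidx)
  · obtain ⟨e', he', hce⟩ := List.mem_map.1 h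
    exact kCase_false M D e.symm hDM he' (by rw [hce]; exact hDc)
  · exact no_forty_five hcov (E := ι.range) (by rw [hEc, h])

end Cfsg.Lib.MclType
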