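import Cfsg.Agent.Lib.MclType.DFacts

/-!
# The automorphisms of the centralizer of two involutions which swap them
-/

set_option autoImplicit false
set_option maxRecDepth 100000

namespace Cfsg.Lib.MclType

open Cfsg.Lib.PermAut

/-- A power of an element. -/
def dPow : ℕ → ℕ → ℕ
  | 0, _ => dE
  | n + 1, x => dMul (dPow n x) x

/-- The powers which are trivial. -/
def dOrd (x : ℕ) : List Bool := [1, 2, 3, 4, 5, 6].map fun n => Nat.beq (dPow n x) dE

/-- Equality of lists of Booleans. -/
def boolsEq : List Bool → List Bool → Bool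
  | [], [] => true
  | a :: l, b :: m => (bif a then b else !b) && boolsEq l m
  | _, _ => false

/-- The image of an element under the images of the generators. -/
def sEval (im : ℕ → ℕ) (x : ℕ) : ℕ := (dWord.getD x []).foldl (fun r k => dMul r (im k)) dE

/-- Three images. -/
def im3 (a b c : ℕ) (k : ℕ) : ℕ := bif Nat.beq k 0 then a else bif Nat.beq k 1 then b else c

/-- Membership in a list. -/
def memB (x : ℕ) (l : List ℕ) : Bool := l.any fun y => Nat.beq x y

/-- What a triple of images may be. -/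
def triOK (im : ℕ → ℕ) : Bool :=
  !(Nat.beq (sEval im dT) dV) || !(Nat.beq (sEval im dV) dT) ||
    ((dEA.all fun e => memB (sEval im e) dEB) && dEB.all fun e => memB (sEval im e) dEA) ||
    ((List.range 192).any fun x => (List.range 3).any fun k =>
      !(Nat.beq (sEval im (dStp x k)) (dMul (sEval im x) (im k)))) ||
    ((List.range 192).any fun q => (List.range 3).all fun k =>
      Nat.beq (dAl (dMul (dMul (dIv q) (dGen.getD k 0)) q)) (im k))

/-- The candidates with the orders of the generators. -/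
def candOf (k : ℕ) : List ℕ :=
  (List.range 192).filter fun x => boolsEq (dOrd x) (dOrd (dGen.getD k 0))

/-- The pairs with the orders of the first two generators. -/
def pairOrd (a b : ℕ) : Bool :=
  boolsEq (dOrd (dMul a b)) (dOrd (dMul (dGen.getD 0 0) (dGen.getD 1 0))) &&
    boolsEq (dOrd (dMul a (dIv b))) (dOrd (dMul (dGen.getD 0 0) (dIv (dGen.getD 1 0))))

/-- All triples of images. -/
def autoChk : Bool :=
  (candOf 0).all fun a => (candOf 1).all fun b =>
    !(pairOrd a b) || (candOf 2).all fun c => triOK (im3 a b c)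

theorem autoChk_ok : autoChk = true := by decide +kernel

theorem al_facts : ((List.range 192).all fun x => Nat.blt (dAl x) 192 && Nat.beq (dAl (dAl x)) x) = true ∧
    dAl dT = dV ∧ dAl dV = dT ∧ dAlpha.length = 192 := by decide +kernel

theorem mul_facts : ((List.range 192).all fun x => Nat.beq (dMul x (dIv x)) dE && Nat.beq (dMul dE x) x &&
    Nat.beq (dMul x dE) x) = true := by decide +kernel

/-- The subgroups of order sixteen are normal and differ. -/
def normalChk : Bool :=
  ((List.range 192).all fun q => (dEA.all fun e => memB (dMul (dMul q e) (dIv q)) dEA) &&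
    dEB.all fun e => memB (dMul (dMul q e) (dIv q)) dEB) &&
    (dEA.any fun e => !(memB e dEB)) && (dEA.all fun e => Nat.blt e 192) && dEB.all fun e => Nat.blt e 192

theorem normal_ok : normalChk = true := by decide +kernel

/-- The central elements fixed by the swapping automorphism. -/
def centreChk : Bool :=
  (List.range 192).all fun d =>
    !(Nat.beq (dAl d) d) || ((List.range 192).any fun x => !(Nat.beq (dMul d x) (dMul x d))) ||
      Nat.beq d dE || Nat.beq d (dMul dT dV)

theorem centre_ok : centreChk = true ∧ ((List.range 192).all fun x =>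
    Nat.beq (dMul (dMul dT x) dT) x) = true := by decide +kernel

/-- A map of the indices preserving products. -/
structure IsAuto (s : ℕ → ℕ) : Prop where
  lt : ∀ x < 192, s x < 192
  mul : ∀ x < 192, ∀ y < 192, s (dMul x y) = dMul (s x) (s y)
  inj : ∀ x < 192, ∀ y < 192, s x = s y → x = y

theorem unit_spec {x : ℕ} (hx : x < 192) :
    dMul x (dIv x) = dE ∧ dMul dE x = x ∧ dMul x dE = x := by
  have h := List.all_eq_true.1 mul_facts x (List.mem_range.2 hx)
  simp only [Bool.and_eq_true] at h
  exact ⟨Nat.eq_of_beq_eq_true h.1.1, Nat.eq_of_beq_eq_true h.1.2, Nat.eq_of_beq_eq_true h.2⟩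

theorem dP_cancel {x y z : ℕ} (hx : x < 192) (hy : y < 192) (hz : z < 192)
    (h : dMul x y = dMul x z) : y = z := by
  refine dP_inj hy hz (mul_left_cancel (a := dP x) ?_)
  rw [← (dP_mul hx hy).2, ← (dP_mul hx hz).2, h]

variable {s : ℕ → ℕ} (H : IsAuto s)
include H

theorem IsAuto.one : s dE = dE := by
  have he : dE < 192 := by decide
  refine dP_cancel (H.lt _ he) (H.lt _ he) he ?_
  rw [← H.mul _ he _ he, (unit_spec he).2.1, (unit_spec (H.lt _ he)).2.2]

theorem IsAuto.inv {x : ℕ} (hx : x < 192) : s (dIv x) = dIv (s x) := by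
  have hi : dIv x < 192 := (dP_rep hx).2.2.1
  refine dP_cancel (H.lt _ hx) (H.lt _ hi) (dP_rep (H.lt _ hx)).2.2.1 ?_
  rw [← H.mul _ hx _ hi, (unit_spec hx).1, H.one, (unit_spec (H.lt _ hx)).1]

theorem IsAuto.pow {x : ℕ} (hx : x < 192) : ∀ n, dPow n x < 192 ∧ s (dPow n x) = dPow n (s x)
  | 0 => ⟨show dE < 192 by decide, H.one⟩
  | n + 1 => by
    obtain ⟨h1, h2⟩ := IsAuto.pow hx n
    exact ⟨(dP_mul h1 hx).1, by rw [dPow, dPow, H.mul _ h1 _ hx, h2]⟩

theorem IsAuto.ord {x : ℕ} (hx : x < 192) : dOrd (s x) = dOrd x := by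
  refine List.map_congr_left fun n _ => ?_
  obtain ⟨h1, h2⟩ := H.pow hx n
  rw [Bool.eq_iff_iff, Nat.beq_eq, Nat.beq_eq, ← h2]
  exact ⟨fun h => H.inj _ h1 _ (by decide) (h.trans H.one.symm), fun h => by rw [h, H.one]⟩

theorem IsAuto.eval {x : ℕ} (hx : x < 192) : sEval (fun k => s (dGen.getD k 0)) x = s x := by
  have key : ∀ (w : List ℕ), (∀ k ∈ w, k < 3) → ∀ r < 192,
      w.foldl (fun r k => dMul r (s (dGen.getD k 0))) (s r) = s (w.foldl dStp r) := by
    intro w
    induction w with
    | nil => intros; rfl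
    | cons k w ih =>
      intro hw r hr
      have hk := hw k (List.mem_cons_self ..)
      have hg := dGen_ok.1 k hk
      obtain ⟨hs, hsp⟩ := dP_step hr hk
      have e : dStp r k = dMul r (dGen.getD k 0) :=
        dP_inj hs (dP_mul hr hg).1 (hsp.trans (dP_mul hr hg).2.symm)
      rw [List.foldl_cons, List.foldl_cons, ← H.mul _ hr _ hg, ← e]
      exact ih (fun j hj => hw j (List.mem_cons_of_mem _ hj)) _ hs
  unfold sEval
  conv_lhs => rw [← H.one]
  rw [key _ dWord_lt _ (by decide),
    Nat.eq_of_beq_eq_true (List.all_eq_true.1 dGen_ok.2 x (List.mem_range.2 hx))]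

omit H in
theorem boolsEq_refl : ∀ l : List Bool, boolsEq l l = true
  | [] => rfl
  | a :: l => by cases a <;> simp [boolsEq, boolsEq_refl l]

/-- An automorphism swapping the two involutions is inner times the standard one or swaps the two subgroups. -/
theorem IsAuto.classify (hT : s dT = dV) (hV : s dV = dT) :
    ((∀ e ∈ dEA, s e ∈ dEB) ∧ ∀ e ∈ dEB, s e ∈ dEA) ∨
      ∃ q < 192, ∀ k < 3, s (dGen.getD k 0) = dAl (dMul (dMul (dIv q) (dGen.getD k 0)) q) := by
  set a := s (dGen.getD 0 0) with ha
  set b := s (dGen.getD 1 0) with hb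
  set c := s (dGen.getD 2 0) with hc
  have g : ∀ k < 3, dGen.getD k 0 < 192 := dGen_ok.1
  have hmem : ∀ k < 3, s (dGen.getD k 0) ∈ candOf k := fun k hk => List.mem_filter.2
    ⟨List.mem_range.2 (H.lt _ (g k hk)), by rw [H.ord (g k hk)]; exact boolsEq_refl _⟩
  have hpair : pairOrd a b = true := by
    have hi := (dP_rep (g 1 (by norm_num))).2.2.1
    rw [pairOrd, ha, hb, ← H.inv (g 1 (by norm_num)), ← H.mul _ (g 0 (by norm_num)) _ (g 1 (by norm_num)),
      ← H.mul _ (g 0 (by norm_num)) _ hi, H.ord (dP_mul (g 0 (by norm_num)) (g 1 (by norm_num))).1,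
      H.ord (dP_mul (g 0 (by norm_num)) hi).1, boolsEq_refl, boolsEq_refl]
    rfl
  have h := List.all_eq_true.1 (List.all_eq_true.1 autoChk_ok a (hmem 0 (by norm_num))) b
    (hmem 1 (by norm_num))
  rw [hpair, Bool.not_true, Bool.false_or] at h
  have h := List.all_eq_true.1 h c (hmem 2 (by norm_num))
  have him : ∀ k < 3, im3 a b c k = s (dGen.getD k 0) := by
    intro k hk; interval_cases k <;> rfl
  have hev : ∀ x < 192, sEval (im3 a b c) x = s x := fun x hx => by
    rw [← H.eval hx]
    refine List.foldl_ext _ _ _ fun r k hk => ?_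
    rw [him k (dWord_lt k hk)]
  unfold triOK at h
  simp only [Bool.or_eq_true, Bool.and_eq_true, Bool.not_eq_true'] at h
  rcases h with (((h | h) | h) | h) | h
  · rw [hev _ (by decide), hT, Nat.beq_refl] at h; exact Bool.noConfusion h
  · rw [hev _ (by decide), hV, Nat.beq_refl] at h; exact Bool.noConfusion h
  · refine Or.inl ?_
    have hn := normal_ok
    simp only [normalChk, Bool.and_eq_true] at hn
    have hlA : ∀ e ∈ dEA, e < 192 := fun e he =>
      Nat.lt_of_succ_le (Nat.le_of_ble_eq_true (List.all_eq_true.1 hn.1.2 e he))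
    have hlB : ∀ e ∈ dEB, e < 192 := fun e he =>
      Nat.lt_of_succ_le (Nat.le_of_ble_eq_true (List.all_eq_true.1 hn.2 e he))
    refine ⟨fun e he => ?_, fun e he => ?_⟩
    · obtain ⟨f, hf, e'⟩ := List.any_eq_true.1 (List.all_eq_true.1 h.1 e he)
      rw [hev e (hlA e he)] at e'
      exact Nat.eq_of_beq_eq_true e' ▸ hf
    · obtain ⟨f, hf, e'⟩ := List.any_eq_true.1 (List.all_eq_true.1 h.2 e he)
      rw [hev e (hlB e he)] at e'
      exact Nat.eq_of_beq_eq_true e' ▸ hf
  · exfalso
    obtain ⟨x, hx, h⟩ := List.any_eq_true.1 h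
    obtain ⟨k, hk, h⟩ := List.any_eq_true.1 h
    have hx := List.mem_range.1 hx
    have hk := List.mem_range.1 hk
    obtain ⟨hs, hsp⟩ := dP_step hx hk
    have e : dStp x k = dMul x (dGen.getD k 0) :=
      dP_inj hs (dP_mul hx (g k hk)).1 (hsp.trans (dP_mul hx (g k hk)).2.symm)
    rw [Bool.not_eq_true', hev _ hs, hev _ hx, him k hk, e, H.mul _ hx _ (g k hk), Nat.beq_refl] at h
    exact Bool.noConfusion h
  · refine Or.inr ?_
    obtain ⟨q, hq, h⟩ := List.any_eq_true.1 h
    refine ⟨q, List.mem_range.1 hq, fun k hk => ?_⟩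
    rw [Nat.eq_of_beq_eq_true (List.all_eq_true.1 h k (List.mem_range.2 hk)), him k hk]

end Cfsg.Lib.MclType
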