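import Cfsg.Agent.Lib.MclType.Model
import Cfsg.Agent.Lib.MclType.DData
import Cfsg.Agent.Lib.MclType.ExtraData
import Cfsg.Agent.Lib.MclType.ClassData

/-!
# The centralizer of two commuting involutions in the centralizer of one of them
-/

set_option autoImplicit false
set_option maxRecDepth 100000

namespace Cfsg.Lib.MclType

open Equiv Cfsg.Lib.PermAut Cfsg.Lib.J3Type

/-- The element with the given number. -/
noncomputable def dP (x : ℕ) : P275 := toP 9 275 (dTab.getD x 0)

/-- A byte of a packed table. -/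
def byteAt (T k : ℕ) : ℕ := Nat.land (Nat.shiftRight T (Nat.mul 8 k)) 255

/-- The product of two elements. -/
def dMul (x y : ℕ) : ℕ := byteAt dMulT (Nat.add (Nat.mul 192 x) y)

/-- The product with a generator. -/
def dStp (x k : ℕ) : ℕ := byteAt dStep (Nat.add (Nat.mul 3 x) k)

/-- The unit. -/
def dE : ℕ := 135
/-- The first involution. -/
def dT : ℕ := 13
/-- The second involution. -/
def dV : ℕ := 1

/-- An entry of the list of inverses. -/
def dIv (x : ℕ) : ℕ := dInv.getD x 0
/-- The automorphism induced by the swapping involution. -/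
def dAl (x : ℕ) : ℕ := dAlpha.getD x 0

/-- The key of a table. -/
noncomputable def keyT (T : ℕ) : ℕ :=
  Nat.add (Nat.add (ent 9 T 38) (Nat.mul 512 (ent 9 T 19)))
    (Nat.add (Nat.mul 262144 (ent 9 T 162)) (Nat.mul 134217728 (ent 9 T 95)))

/-- The pairs stepped along. -/
noncomputable def stepChk : Bool :=
  allBelowB 192 fun x => allBelowB 3 fun k =>
    Nat.blt (dStp x k) 192 &&
      sameB 9 275 [dTab.getD (dStp x k) 0] [dTab.getD x 0, dTab.getD (dGen.getD k 0) 0]

/-- The product table follows the words. -/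
noncomputable def mulChk : Bool :=
  allBelowB 192 fun x => (List.range 192).all fun y =>
    Nat.blt (dMul x y) 192 && Nat.beq (dMul x y) ((dWord.getD y []).foldl dStp x)

theorem dTab_ok : ((List.range 192).all fun x =>
    invPairOk 9 275 (dTab.getD x 0) (dTab.getD (dIv x) 0) && Nat.blt (dIv x) 192 &&
      pathOk MclInv.centSub.lev (dPath.getD x []) &&
      sameB 9 275 [dTab.getD x 0] (pickPath MclInv.centSub.lev (dPath.getD x []))) = true := by decide +kernel

theorem dStep_ok : stepChk = true := by decide +kernel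

theorem dMul_ok : mulChk = true := by decide +kernel

theorem dWord_ok : (dWord.all fun w => w.all fun k => Nat.blt k 3) = true ∧ dWord.length = 192 := by
  decide +kernel

theorem dGen_ok : (∀ k < 3, dGen.getD k 0 < 192) ∧ ((List.range 192).all fun y =>
    Nat.beq ((dWord.getD y []).foldl dStp dE) y) = true := by decide +kernel

theorem dSpec_ok : sameB 9 275 [dTab.getD dE 0] [] = true ∧ sameB 9 275 [dTab.getD dT 0] [MclInv.invT] = true ∧
    Nat.blt dV 192 = true ∧
    sameB 9 275 [mInv.getD 6 0, MclInv.invT, mTab.getD 6 0] [dTab.getD dV 0] = true ∧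
    nodupB (dTab.map keyT) = true ∧ dTab.length = 192 ∧
    ((List.range 192).all fun x => Nat.beq (dMul x dV) (dMul dV x)) = true := by
  refine ⟨?_, ?_, ?_, ?_, ?_, ?_, ?_⟩ <;> decide +kernel

theorem dP_rep {x : ℕ} (hx : x < 192) : Rep 9 (dP x) (dTab.getD x 0) ∧ dP x ∈ Cm ∧
    dIv x < 192 ∧ dP (dIv x) = (dP x)⁻¹ := by
  have h := List.all_eq_true.1 dTab_ok x (List.mem_range.2 hx)
  simp only [Bool.and_eq_true] at h
  obtain ⟨⟨⟨h1, h2⟩, h3⟩, h4⟩ := h
  obtain ⟨r1, -, r3⟩ := rep_of_invPairOk (N := 275) h1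
  exact ⟨r1, MclInv.cent_valid.mem_of_same r1 h3 h4, Nat.lt_of_succ_le (Nat.le_of_ble_eq_true h2), r3⟩

theorem dP_eq {l : List ℕ} {x : ℕ} (hx : x < 192) (hl : ∀ T ∈ l, Rep 9 (toP 9 275 T) T)
    (h : sameB 9 275 [dTab.getD x 0] l = true) : dP x = (l.map (toP 9 275)).prod := by
  have e := eq_of_sameB (b := 9) (N := 275) (l := [dTab.getD x 0]) (by simpa [dP] using (dP_rep hx).1) hl h
  simpa [dP] using e

theorem dP_E : dP dE = 1 := by
  have := dP_eq (x := dE) (by decide) (l := []) (by simp) dSpec_ok.1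
  simpa using this

theorem dP_T : dP dT = MclInv.tP := by
  have := dP_eq (x := dT) (by decide) (l := [MclInv.invT]) (by simpa using MclInv.t_facts.1) dSpec_ok.2.1
  simpa using this

theorem dP_step {x k : ℕ} (hx : x < 192) (hk : k < 3) :
    dStp x k < 192 ∧ dP (dStp x k) = dP x * dP (dGen.getD k 0) := by
  have h := allBelowB_iff.1 (allBelowB_iff.1 dStep_ok x hx) k hk
  rw [Bool.and_eq_true] at h
  have hlt : dStp x k < 192 := Nat.lt_of_succ_le (Nat.le_of_ble_eq_true h.1)
  refine ⟨hlt, ?_⟩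
  have := dP_eq hlt (l := [dTab.getD x 0, dTab.getD (dGen.getD k 0) 0])
    (by simpa using ⟨(dP_rep hx).1, (dP_rep (dGen_ok.1 k hk)).1⟩) h.2
  simpa [dP] using this

theorem dP_fold : ∀ (w : List ℕ), (∀ k ∈ w, k < 3) → ∀ x < 192,
    w.foldl dStp x < 192 ∧ dP (w.foldl dStp x) = dP x * (w.map fun k => dP (dGen.getD k 0)).prod
  | [], _, x, hx => ⟨hx, by simp⟩
  | k :: w, hw, x, hx => by
    obtain ⟨h1, h2⟩ := dP_step hx (hw k (List.mem_cons_self ..))
    obtain ⟨i1, i2⟩ := dP_fold w (fun j hj => hw j (List.mem_cons_of_mem _ hj)) _ h1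
    exact ⟨i1, by rw [List.foldl_cons, i2, h2, List.map_cons, List.prod_cons, mul_assoc]⟩

theorem dWord_lt {y : ℕ} : ∀ k ∈ dWord.getD y [], k < 3 := by
  intro k hk
  rcases Nat.lt_or_ge y dWord.length with hy | hy
  · rw [List.getD_eq_getElem _ _ hy] at hk
    exact Nat.lt_of_succ_le (Nat.le_of_ble_eq_true
      (List.all_eq_true.1 (List.all_eq_true.1 dWord_ok.1 _ (List.getElem_mem hy)) k hk))
  · rw [List.getD_eq_default _ _ hy] at hk; simp at hk

theorem dP_word {y : ℕ} (hy : y < 192) :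
    dP y = ((dWord.getD y []).map fun k => dP (dGen.getD k 0)).prod := by
  have h := Nat.eq_of_beq_eq_true (List.all_eq_true.1 dGen_ok.2 y (List.mem_range.2 hy))
  have := (dP_fold (dWord.getD y []) dWord_lt dE (by decide)).2
  rwa [h, dP_E, one_mul] at this

theorem dP_mul {x y : ℕ} (hx : x < 192) (hy : y < 192) : dMul x y < 192 ∧ dP (dMul x y) = dP x * dP y := by
  have h := List.all_eq_true.1 (allBelowB_iff.1 dMul_ok x hx) y (List.mem_range.2 hy)
  rw [Bool.and_eq_true] at h
  refine ⟨Nat.lt_of_succ_le (Nat.le_of_ble_eq_true h.1), ?_⟩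
  rw [Nat.eq_of_beq_eq_true h.2, (dP_fold _ dWord_lt x hx).2, dP_word hy]

theorem dP_inj {x y : ℕ} (hx : x < 192) (hy : y < 192) (h : dP x = dP y) : x = y := by
  obtain ⟨-, -, -, -, hnd, hlen, -⟩ := dSpec_ok
  have hk : ∀ p : ℕ, p < 275 → ent 9 (dTab.getD x 0) p = ent 9 (dTab.getD y 0) p := fun p hp => by
    rw [← (dP_rep hx).1 ⟨p, hp⟩, ← (dP_rep hy).1 ⟨p, hp⟩, h]
  have hkey : keyT (dTab.getD x 0) = keyT (dTab.getD y 0) := by
    simp only [keyT, hk 38 (by norm_num), hk 19 (by norm_num), hk 162 (by norm_num), hk 95 (by norm_num)]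
  have hx' : x < (dTab.map keyT).length := by rw [List.length_map, hlen]; exact hx
  have hy' : y < (dTab.map keyT).length := by rw [List.length_map, hlen]; exact hy
  refine ((nodup_of_nodupB hnd).getElem_inj_iff (hi := hx') (hj := hy')).1 ?_
  rw [List.getElem_map, List.getElem_map, ← List.getD_eq_getElem _ 0, ← List.getD_eq_getElem _ 0]
  exact hkey

theorem dP_V : dP dV = piL 6 * MclInv.tP * piL 6 := by
  obtain ⟨r1, r2, r3⟩ := piL_rep (k := 6) (by norm_num)
  have := dP_eq (x := dV) (by decide) (l := [mInv.getD 6 0, MclInv.invT, mTab.getD 6 0]) (by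
    simpa [piL] using ⟨r2, MclInv.t_facts.1, r1⟩) (sameB_iff.2 fun p hp => by
      have := sameB_iff.1 dSpec_ok.2.2.2.1 p hp
      rw [Nat.eq_of_beq_eq_true this]
      exact Nat.beq_refl _)
  rw [this]
  simp only [List.map_cons, List.map_nil, List.prod_cons, List.prod_nil, mul_one, r3]
  rw [inv_eq_of_mul_eq_one_right piL_six_sq, mul_assoc]
  rfl

theorem dP_comm_V {x : ℕ} (hx : x < 192) : dP x * dP dV = dP dV * dP x := by
  have h := Nat.eq_of_beq_eq_true (List.all_eq_true.1 dSpec_ok.2.2.2.2.2.2 x (List.mem_range.2 hx))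
  rw [← (dP_mul hx (y := dV) (by decide)).2, h, (dP_mul (x := dV) (by decide) hx).2]

end Cfsg.Lib.MclType
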