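import Cfsg.Agent.Lib.PermAut.MclInv
import Cfsg.Agent.Lib.J3Type.Enum
import Cfsg.Agent.Lib.MclType.LetterData

/-!
# The letters in the model of the McLaughlin group
-/

set_option autoImplicit false
set_option maxRecDepth 100000

namespace Cfsg.Lib.MclType

open Equiv Cfsg.Lib.PermAut Cfsg.Lib.J3Type

/-- Permutations of the 275 points. -/
abbrev P275 := Perm (Fin 275)

/-- The centralizer of the involution in the model. -/
noncomputable abbrev Cm : Subgroup P275 := MclInv.centSub.grp 9 275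

/-- The letters as permutations. -/
noncomputable def piL (k : ℕ) : P275 := toP 9 275 (mTab.getD k 0)

/-- The table of a signed letter. -/
def tabL (l : ℕ) : ℕ :=
  bif Nat.beq (Nat.mod l 2) 0 then mTab.getD (Nat.div l 2) 0 else mInv.getD (Nat.div l 2) 0

/-- The tables of a word. -/
def tabW (w : List ℕ) : List ℕ := w.map tabL

/-- All letters of a word are among the first seven. -/
def okW (w : List ℕ) : Bool := w.all fun l => Nat.blt l 14

/-- Renumbering the letters of a word. -/
def sigW (σ : List ℕ) (w : List ℕ) : List ℕ :=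
  w.map fun l => Nat.add (Nat.mul 2 (σ.getD (Nat.div l 2) 0)) (Nat.mod l 2)

/-- All letters are below twice the number of renumbered ones. -/
def sigOk (σ : List ℕ) (w : List ℕ) : Bool :=
  (w.all fun l => Nat.blt (Nat.div l 2) σ.length) && (σ.all fun k => Nat.blt k 7) && Nat.ble σ.length 7

theorem letters_ok : ((List.range 7).all fun k =>
    invPairOk 9 275 (mTab.getD k 0) (mInv.getD k 0)) = true ∧
    ((List.range 6).all fun k => pathOk MclInv.centSub.lev (mPath.getD k []) &&
      sameB 9 275 [mTab.getD k 0] (pickPath MclInv.centSub.lev (mPath.getD k []))) = true ∧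
    pathOk Mcl.cert.tr iPath = true ∧
    sameB 9 275 [mTab.getD 6 0] (pickPath Mcl.cert.tr iPath) = true ∧
    sameB 9 275 [mTab.getD 6 0, mTab.getD 6 0] [] = true := by
  refine ⟨?_, ?_, ?_, ?_, ?_⟩ <;> decide +kernel

theorem piL_rep {k : ℕ} (hk : k < 7) : Rep 9 (piL k) (mTab.getD k 0) ∧
    Rep 9 (toP 9 275 (mInv.getD k 0)) (mInv.getD k 0) ∧ toP 9 275 (mInv.getD k 0) = (piL k)⁻¹ :=
  rep_of_invPairOk (List.all_eq_true.1 letters_ok.1 k (List.mem_range.2 hk))

theorem piL_mem {k : ℕ} (hk : k < 6) : piL k ∈ Cm := by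
  have h := List.all_eq_true.1 letters_ok.2.1 k (List.mem_range.2 hk)
  rw [Bool.and_eq_true] at h
  exact MclInv.cent_valid.mem_of_same (piL_rep (k := k) (by omega)).1 h.1 h.2

theorem piL_mem_KK : piL 6 ∈ MclInv.KK :=
  MclInv.mem_K (piL_rep (by norm_num)).1 letters_ok.2.2.1 letters_ok.2.2.2.1

theorem piL_six_sq : piL 6 * piL 6 = 1 := by
  have e := eq_of_sameB (b := 9) (N := 275) (l := [mTab.getD 6 0, mTab.getD 6 0]) (l' := [])
    (by simpa [piL] using (piL_rep (k := 6) (by norm_num)).1) (by simp) letters_ok.2.2.2.2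
  simpa [piL] using e

theorem tabL_spec {l : ℕ} (hl : l < 14) :
    Rep 9 (toP 9 275 (tabL l)) (tabL l) ∧ toP 9 275 (tabL l) = lval piL l := by
  obtain ⟨h1, h2, h3⟩ := piL_rep (k := l / 2) (by omega)
  unfold tabL lval idL
  rw [if_neg (by omega), show Nat.mod l 2 = l % 2 from rfl, show Nat.div l 2 = l / 2 from rfl]
  rcases Nat.mod_two_eq_zero_or_one l with h | h
  · rw [h, show Nat.beq 0 0 = true from rfl, cond_true, if_pos rfl]
    exact ⟨h1, rfl⟩
  · rw [h, show Nat.beq 1 0 = false from rfl, cond_false, if_neg (by omega)]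
    exact ⟨h2, h3⟩

theorem tabW_spec : ∀ {w : List ℕ}, okW w = true →
    (∀ T ∈ tabW w, Rep 9 (toP 9 275 T) T) ∧ ((tabW w).map (toP 9 275)).prod = wval piL w
  | [], _ => ⟨by simp [tabW], rfl⟩
  | l :: w, h => by
    simp only [okW, List.all_cons, Bool.and_eq_true] at h
    have hl : l < 14 := Nat.lt_of_succ_le (Nat.le_of_ble_eq_true h.1)
    obtain ⟨h1, h2⟩ := tabL_spec hl
    obtain ⟨i1, i2⟩ := tabW_spec (w := w) h.2
    refine ⟨fun T hT => ?_, ?_⟩
    · rcases List.mem_cons.1 hT with rfl | hT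
      exacts [h1, i1 T hT]
    · rw [wval_cons, ← h2, ← i2]
      rfl

/-- A word has the value of a list of tables. -/
theorem wval_of_same {w : List ℕ} {l : List ℕ} (hw : okW w = true) (hl : ∀ T ∈ l, Rep 9 (toP 9 275 T) T)
    (h : sameB 9 275 (tabW w) l = true) : wval piL w = (l.map (toP 9 275)).prod := by
  rw [← (tabW_spec hw).2]
  exact eq_of_sameB (tabW_spec hw).1 hl h

theorem wval_eq_one {w : List ℕ} (hw : okW w = true) (h : sameB 9 275 (tabW w) [] = true) :
    wval piL w = 1 := by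
  simpa using wval_of_same hw (by simp) h

theorem wval_mem_Cm {w : List ℕ} (hw : (w.all fun l => Nat.blt l 12) = true) : wval piL w ∈ Cm := by
  induction w with
  | nil => exact one_mem _
  | cons l w ih =>
    simp only [List.all_cons, Bool.and_eq_true] at hw
    have hl : l < 12 := Nat.lt_of_succ_le (Nat.le_of_ble_eq_true hw.1)
    rw [wval_cons]
    refine mul_mem ?_ (ih hw.2)
    unfold lval idL
    rw [if_neg (by omega)]
    split
    · exact piL_mem (by omega)
    · exact inv_mem (piL_mem (by omega))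

theorem sigOk_spec {σ w : List ℕ} (h : sigOk σ w = true) : okW (sigW σ w) = true ∧
    ∀ {M : Type*} [Group M] (f : ℕ → M), wval f (sigW σ w) = wval (fun k => f (σ.getD k 0)) w := by
  simp only [sigOk, Bool.and_eq_true, List.all_eq_true] at h
  have hσ : ∀ k, σ.getD k 0 < 7 := fun k => by
    rcases Nat.lt_or_ge k σ.length with hk | hk
    · rw [List.getD_eq_getElem _ _ hk]
      exact Nat.lt_of_succ_le (Nat.le_of_ble_eq_true (h.1.2 _ (List.getElem_mem hk)))
    · rw [List.getD_eq_default _ _ hk]; norm_num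
  have hlt : ∀ l, 2 * σ.getD (l / 2) 0 + l % 2 < 14 := fun l => by
    have := hσ (l / 2); omega
  refine ⟨?_, ?_⟩
  · rw [okW, List.all_eq_true]
    intro x hx
    obtain ⟨l, -, rfl⟩ := List.mem_map.1 hx
    simp only [Nat.blt, Nat.ble_eq]
    exact hlt l
  intro M _ f
  rw [wval, wval, sigW, List.map_map]
  congr 1
  refine List.map_congr_left fun l hl => ?_
  have hlen : σ.length ≤ 7 := Nat.le_of_ble_eq_true h.2
  have hl' : l / 2 < σ.length := Nat.lt_of_succ_le (Nat.le_of_ble_eq_true (h.1.1 l hl))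
  have := hσ (l / 2)
  show lval f (2 * σ.getD (l / 2) 0 + l % 2) = _
  unfold lval idL
  rw [if_neg (show ¬ 30 ≤ 2 * σ.getD (l / 2) 0 + l % 2 by omega), if_neg (show ¬ 30 ≤ l by omega),
    show (2 * σ.getD (l / 2) 0 + l % 2) % 2 = l % 2 by omega,
    show (2 * σ.getD (l / 2) 0 + l % 2) / 2 = σ.getD (l / 2) 0 by omega]

end Cfsg.Lib.MclType
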