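import Cfsg.Agent.Lib.MclType.NCertAData

/-!
Kernel checks of the certificate `nCertA`.
-/

set_option autoImplicit false
set_option maxRecDepth 100000

namespace Cfsg.Lib.MclType

open Cfsg.Lib.J3Type

theorem nCertA_facts0 : factsOK nCertA 0 880 = true := by decide +kernel

theorem nCertA_rows0 : rowsOK nCertA 0 15 = true := by decide +kernel

theorem nCertA_fact_ok : ∀ i < nCertA.nFacts, factOK nCertA i = true := by
  intro i hi
  replace hi : i < 880 := hi
  by_cases h0 : i < 880
  · exact factOK_of_factsOK nCertA_facts0 (by omega) (by omega)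
  omega

theorem nCertA_row_ok : ∀ c < nCertA.nLive, rowOK nCertA c = true := by
  intro c hc
  replace hc : c < 15 := hc
  by_cases h0 : c < 15
  · exact rowOK_of_rowsOK nCertA_rows0 (by omega) (by omega)
  omega

theorem nCertA_live_zero : nCertA.live.get 15 0 = 0 := by decide +kernel

end Cfsg.Lib.MclType
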