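import Cfsg.Agent.Lib.MclType.NCertBData

/-!
Kernel checks of the certificate `nCertB`.
-/

set_option autoImplicit false
set_option maxRecDepth 100000

namespace Cfsg.Lib.MclType

open Cfsg.Lib.J3Type

theorem nCertB_facts0 : factsOK nCertB 0 1377 = true := by decide +kernel

theorem nCertB_rows0 : rowsOK nCertB 0 15 = true := by decide +kernel

theorem nCertB_fact_ok : ∀ i < nCertB.nFacts, factOK nCertB i = true := by
  intro i hi
  replace hi : i < 1377 := hi
  by_cases h0 : i < 1377
  · exact factOK_of_factsOK nCertB_facts0 (by omega) (by omega)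
  omega

theorem nCertB_row_ok : ∀ c < nCertB.nLive, rowOK nCertB c = true := by
  intro c hc
  replace hc : c < 15 := hc
  by_cases h0 : c < 15
  · exact rowOK_of_rowsOK nCertB_rows0 (by omega) (by omega)
  omega

theorem nCertB_live_zero : nCertB.live.get 15 0 = 0 := by decide +kernel

end Cfsg.Lib.MclType
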