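import Cfsg.Agent.Lib.MclType.Setup
import Cfsg.Agent.Lib.MclType.Words
import Cfsg.Agent.Lib.MclType.NCertAChecks
import Cfsg.Agent.Lib.MclType.NCertBChecks

/-!
# The two normalizers of elementary subgroups

In a configuration a word in the letters of one normalizer which is trivial in the model is trivial.
-/

set_option autoImplicit false
set_option maxRecDepth 100000

namespace Cfsg.Lib.MclType

open Equiv Cfsg.Lib.PermAut Cfsg.Lib.J3Type Subgroup

variable {G : Type*} [Group G] {t i : G} {ψ : Cm ≃* centralizer ({t} : Set G)}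

/-- The letters in the group. -/
noncomputable def gam (ψ : Cm ≃* centralizer ({t} : Set G)) (i : G) (k : ℕ) : G :=
  if k = 6 then i else ext' ψ (piL k)

/-- The letters in both groups. -/
noncomputable def fP (ψ : Cm ≃* centralizer ({t} : Set G)) (i : G) (k : ℕ) : G × P275 :=
  (gam ψ i k, piL k)

/-- The graph of the isomorphism of the centralizers. -/
noncomputable def graphC (ψ : Cm ≃* centralizer ({t} : Set G)) : Subgroup (G × P275) :=
  (((centralizer ({t} : Set G)).subtype.comp ψ.toMonoidHom).prod Cm.subtype).range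

theorem mem_graphC {z : G × P275} : z ∈ graphC ψ ↔ z.2 ∈ Cm ∧ z.1 = ext' ψ z.2 := by
  constructor
  · rintro ⟨g, rfl⟩
    exact ⟨g.2, (ext_coe ψ g).symm⟩
  · rintro ⟨h1, h2⟩
    exact ⟨⟨z.2, h1⟩, Prod.ext (by rw [h2, ext', dif_pos h1]; rfl) rfl⟩

theorem fP_graph {k : ℕ} (hk : k < 6) : fP ψ i k ∈ graphC ψ :=
  mem_graphC.2 ⟨piL_mem hk, by show gam ψ i k = _; rw [gam, if_neg (by omega)]; rfl⟩

theorem wval_graph {w : List ℕ} (hw : (w.all fun l => Nat.blt l 12) = true) :
    wval (fP ψ i) w ∈ graphC ψ := by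
  induction w with
  | nil => exact one_mem _
  | cons l w ih =>
    simp only [List.all_cons, Bool.and_eq_true] at hw
    have hl : l < 12 := Nat.lt_of_succ_le (Nat.le_of_ble_eq_true hw.1)
    rw [wval_cons]
    refine mul_mem ?_ (ih hw.2)
    unfold lval idL
    rw [if_neg (by omega)]
    split
    · exact fP_graph (by omega)
    · exact inv_mem (fP_graph (by omega))

theorem wval_snd (w : List ℕ) : (wval (fP ψ i) w).2 = wval piL w :=
  wval_map (MonoidHom.snd G P275) (fP ψ i) w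

theorem wval_fst (w : List ℕ) : (wval (fP ψ i) w).1 = wval (gam ψ i) w :=
  wval_map (MonoidHom.fst G P275) (fP ψ i) w

theorem gam_word {w : List ℕ} (hw : (w.all fun l => Nat.blt l 12) = true) :
    wval (gam ψ i) w = ext' ψ (wval piL w) := by
  rw [← wval_fst, ← wval_snd (ψ := ψ) (i := i)]
  exact (mem_graphC.1 (wval_graph hw)).2

/-- The relator of the automorphism. -/
def alWord (il : ℕ) (e : ℕ × List ℕ × List ℕ) : List ℕ :=
  Nat.add il 1 :: (e.2.1 ++ il :: invW e.2.2)

/-- The relator without ambiguity. -/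
def freeWord (e : ℕ × List ℕ × List ℕ) : List ℕ :=
  (List.replicate e.1 (e.2.1 ++ [4])).flatten

/-- The words with known value. -/
def fullN (al fr : List (ℕ × List ℕ × List ℕ)) : List (List ℕ) :=
  [4, 4] :: (al.map (alWord 4) ++ fr.map freeWord)

/-- The number of a letter's image. -/
def posIn (e : ℕ) : List ℕ → ℕ
  | [] => 0
  | x :: l => bif Nat.beq e x then 0 else Nat.add 1 (posIn e l)

/-- The map induced by a relator on the elementary subgroup. -/
def fOn (ex act : List ℕ) (e : ℕ) : ℕ := dAl (act.getD (posIn e ex) 0)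

/-- Iteration of the induced map. -/
def fIter (ex act : List ℕ) : ℕ → ℕ → ℕ
  | 0, e => e
  | n + 1, e => fOn ex act (fIter ex act n e)

/-- A rule of the automorphism. -/
noncomputable def alOK (σ : List ℕ) (e : ℕ × List ℕ × List ℕ) : Bool :=
  Nat.blt e.1 192 && sigOk σ e.2.1 && sigOk σ e.2.2 &&
    ((sigW σ e.2.1).all fun l => Nat.blt l 12) && ((sigW σ e.2.2).all fun l => Nat.blt l 12) &&
    sameB 9 275 (tabW (sigW σ e.2.1)) [dTab.getD e.1 0] &&
    sameB 9 275 (tabW (sigW σ e.2.2)) [dTab.getD (dAl e.1) 0]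

/-- A relator without ambiguity. -/
noncomputable def freeOK (σ ex : List ℕ) (e : ℕ × List ℕ × List ℕ) : Bool :=
  sigOk σ e.2.1 && ((sigW σ e.2.1).all fun l => Nat.blt l 12) &&
    (ex.all fun x =>
      Nat.blt x 192 && Nat.blt (e.2.2.getD (posIn x ex) 0) 192 &&
      sameB 9 275 (dTab.getD x 0 :: tabW (sigW σ e.2.1))
        (tabW (sigW σ e.2.1) ++ [dTab.getD (e.2.2.getD (posIn x ex) 0) 0]) &&
      memB (fOn ex e.2.2 x) ex && Nat.beq (fIter ex e.2.2 e.1 x) x &&
      (!(Nat.beq (fOn ex e.2.2 x) x) || Nat.beq x dE))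

/-- One rule of a certificate. -/
noncomputable def nRuleOK (σ : List ℕ) (full : List (List ℕ)) (w : List ℕ) (h : ℕ × ℕ × ℕ) : Bool :=
  bif Nat.beq h.1 0 then
    (bif Nat.beq h.2.1 1 then (redW w).isEmpty
      else sigOk σ w && ((sigW σ w).all fun l => Nat.blt l 12) && sameB 9 275 (tabW (sigW σ w)) [])
  else wordEq w (rotW (full.getD (Nat.sub h.1 1) []) h.2.1 h.2.2)

/-- All checks for a normalizer. -/
noncomputable def nStageOK (σ ex : List ℕ) (K : J3Type.Cert) (al fr : List (ℕ × List ℕ × List ℕ))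
    (hint : List (ℕ × ℕ × ℕ)) : Bool :=
  (al.all (alOK σ)) && (fr.all (freeOK σ ex)) && memB dT ex && memB dV ex &&
    ((fullN al fr).all fun w => sigOk σ w && sameB 9 275 (tabW (sigW σ w)) []) &&
    zipChk (nRuleOK σ (fullN al fr)) K.rules.flatten hint &&
    ((List.range 192).all fun x => memB x ex || ex.any fun e => !(Nat.beq (dMul x e) (dMul e x))) &&
    Nat.blt (σ.getD 0 0) 6 && Nat.blt (σ.getD 1 0) 6 && Nat.beq (σ.getD 2 0) 6

/-- The word of a representative. -/
def repW (C : J3Type.Cert) : ℕ → ℕ → List ℕ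
  | 0, _ => []
  | fuel + 1, n =>
    bif Nat.blt (Nat.div (C.par.get 20 n) 32) n then
      repW C fuel (Nat.div (C.par.get 20 n) 32) ++ [Nat.mod (C.par.get 20 n) 32]
    else []

/-- The nodes other than the first lie outside the centralizer. -/
noncomputable def repOK (σ : List ℕ) (C : J3Type.Cert) : Bool :=
  (List.range 14).all fun c =>
    let n := C.live.get 15 (Nat.add c 1)
    let w := repW C n n
    sigOk σ w &&
      !(sameB 9 275 (tabW (sigW σ w) ++ [MclInv.invT]) (MclInv.invT :: tabW (sigW σ w)))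

theorem wval_repW {M : Type*} [Group M] (C : J3Type.Cert) (g : ℕ → M) :
    ∀ fuel n, wval g (repW C fuel n) = repF C g fuel n
  | 0, n => rfl
  | fuel + 1, n => by
    rw [repW, repF]
    by_cases h : C.par.get 20 n / 32 < n
    · rw [if_pos h, show Nat.blt (Nat.div (C.par.get 20 n) 32) n = true from Nat.ble_eq ▸ h, cond_true,
        wval_append, wval_repW C g fuel, wval_cons, wval_nil, mul_one]
      rfl
    · rw [if_neg h, show Nat.blt (Nat.div (C.par.get 20 n) 32) n = false from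
        Bool.eq_false_iff.2 fun hb => h (Nat.le_of_ble_eq_true hb), cond_false]
      rfl

/-- The first normalizer's letters. -/
def sgA : List ℕ := [2, 3, 6]
/-- The second normalizer's letters. -/
def sgB : List ℕ := [4, 5, 6]

set_option maxHeartbeats 4000000 in
theorem nStageA_ok : nStageOK sgA dEA nCertA nCertAAl nCertAFree nCertAHint = true ∧
    repOK sgA nCertA = true := by
  refine ⟨?_, ?_⟩ <;> decide +kernel

set_option maxHeartbeats 4000000 in
theorem nStageB_ok : nStageOK sgB dEB nCertB nCertBAl nCertBFree nCertBHint = true ∧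
    repOK sgB nCertB = true := by
  refine ⟨?_, ?_⟩ <;> decide +kernel

/-- The group of pairs of a normalizer. -/
noncomputable def pairN (ψ : Cm ≃* centralizer ({t} : Set G)) (i : G) (σ : List ℕ) : Subgroup (G × P275) :=
  closure {y | ∃ j < 3, fP ψ i (σ.getD j 0) = y}

theorem Cfg.conj_act (H : Cfg t ψ i) {x : ℕ} (hx : x < 192) : i⁻¹ * dG ψ x * i = dG ψ (dAl x) := by
  rw [inv_eq_of_mul_eq_one_left H.sq, H.act x hx]

theorem free_val (H : Cfg t ψ i) {σ ex : List ℕ} (hσ : σ.getD 2 0 = 6) (hexT : dT ∈ ex) (hexV : dV ∈ ex)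
    (hcent : ((List.range 192).all fun x => memB x ex || ex.any fun e => !(Nat.beq (dMul x e) (dMul e x))) = true)
    {e : ℕ × List ℕ × List ℕ} (he : freeOK σ ex e = true) :
    wval (fun k => gam ψ i (σ.getD k 0)) (freeWord e) = 1 := by
  simp only [freeOK, Bool.and_eq_true] at he
  obtain ⟨⟨hs, hw⟩, hall⟩ := he
  set g := fun k => gam ψ i (σ.getD k 0) with hg
  obtain ⟨hok, hsig⟩ := sigOk_spec hs
  set n := wval piL (sigW σ e.2.1) with hn
  have hnC : n ∈ Cm := wval_mem_Cm hw
  have hnv : wval g e.2.1 = ext' ψ n := by rw [hn, ← gam_word (i := i) hw, hsig (gam ψ i)]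
  have h4 : lval g 4 = i := by
    show g 2 = i
    rw [hg]; show gam ψ i (σ.getD 2 0) = i
    rw [hσ, gam, if_pos rfl]
  set u := ext' ψ n * i with hu
  have hu' : wval g (e.2.1 ++ [4]) = u := by rw [wval_append, hnv, wval_cons, wval_nil, mul_one, h4]
  have hval : ∀ k, wval g (List.replicate k (e.2.1 ++ [4])).flatten = u ^ k := by
    intro k
    induction k with
    | zero => simp [wval]
    | succ k ih => rw [List.replicate_succ, List.flatten_cons, wval_append, ih, hu', pow_succ']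
  rw [freeWord, hval]
  have hx : ∀ x ∈ ex, x < 192 ∧ fOn ex e.2.2 x ∈ ex ∧ u⁻¹ * dG ψ x * u = dG ψ (fOn ex e.2.2 x) ∧
      fIter ex e.2.2 e.1 x = x ∧ (fOn ex e.2.2 x = x → x = dE) := by
    intro x hxm
    have h := List.all_eq_true.1 hall x hxm
    simp only [Bool.and_eq_true, Bool.or_eq_true, Bool.not_eq_true'] at h
    obtain ⟨⟨⟨⟨⟨h1, h2⟩, h3⟩, h4'⟩, h5⟩, h6⟩ := h
    have hx192 : x < 192 := Nat.lt_of_succ_le (Nat.le_of_ble_eq_true h1)
    have hy : e.2.2.getD (posIn x ex) 0 < 192 := Nat.lt_of_succ_le (Nat.le_of_ble_eq_true h2)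
    obtain ⟨r1, r2⟩ := tabW_spec hok
    have e' := eq_of_sameB (b := 9) (N := 275)
      (fun T hT => (List.mem_cons.1 hT).elim (fun h' => h' ▸ (dP_rep hx192).1) (r1 T))
      (fun T hT => (List.mem_append.1 hT).elim (r1 T) (fun h' => by
        rw [List.mem_singleton.1 h']; exact (dP_rep hy).1)) h3
    simp only [List.map_cons, List.prod_cons, List.map_append, List.prod_append, List.map_nil, List.prod_nil,
      mul_one, r2, ← hn] at e'
    have e'' : dG ψ x * ext' ψ n = ext' ψ n * dG ψ (e.2.2.getD (posIn x ex) 0) := by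
      rw [dG, dG, ← ext_mul ψ (dP_rep hx192).2.1 hnC, ← ext_mul ψ hnC (dP_rep hy).2.1]
      exact congrArg _ e'
    refine ⟨hx192, memB_iff.1 h4', ?_, Nat.eq_of_beq_eq_true h5, fun hfix => ?_⟩
    · rw [hu, fOn, ← H.conj_act hy]
      calc (ext' ψ n * i)⁻¹ * dG ψ x * (ext' ψ n * i) = i⁻¹ * ((ext' ψ n)⁻¹ * (dG ψ x * ext' ψ n)) * i := by group
        _ = _ := by rw [e'', inv_mul_cancel_left]
    · rcases h6 with h6 | h6
      · rw [hfix, Nat.beq_refl] at h6; exact Bool.noConfusion h6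
      · exact Nat.eq_of_beq_eq_true h6
  have hiter : ∀ x ∈ ex, ∀ k, fIter ex e.2.2 k x ∈ ex ∧
      (u ^ k)⁻¹ * dG ψ x * u ^ k = dG ψ (fIter ex e.2.2 k x) := by
    intro x hxm k
    induction k with
    | zero => exact ⟨hxm, by simp [fIter]⟩
    | succ k ih =>
      obtain ⟨-, h1, h2, -⟩ := hx _ ih.1
      refine ⟨h1, ?_⟩
      rw [fIter, ← h2, ← ih.2, pow_succ]
      group
  have hfix : ∀ x ∈ ex, u ^ e.1 * dG ψ x = dG ψ x * u ^ e.1 := fun x hxm => by
    have := (hiter x hxm e.1).2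
    rw [(hx x hxm).2.2.2.1] at this
    conv_lhs => rw [← this]
    group
  have hT : dG ψ dT = t := by rw [dG, dP_T, H.psiT]
  obtain ⟨d, hd, hdu⟩ := dG_surj ψ (mem_centralizer_singleton_iff.2 (by
    have := hfix _ hexT
    rwa [hT] at this)) (hfix _ hexV)
  have hdex : d ∈ ex := by
    have h := List.all_eq_true.1 hcent d (List.mem_range.2 hd)
    rw [Bool.or_eq_true] at h
    rcases h with h | h
    · exact memB_iff.1 h
    · obtain ⟨f, hf, h⟩ := List.any_eq_true.1 h
      have hf' := (hx f hf).1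
      have : dMul d f = dMul f d := dG_inj ψ (dP_mul hd hf').1 (dP_mul hf' hd).1 (by
        rw [dG_mul ψ hd hf', dG_mul ψ hf' hd, hdu, hfix f hf])
      rw [this, Nat.beq_refl] at h
      exact Bool.noConfusion h
  obtain ⟨-, h1, h2, -, h3⟩ := hx d hdex
  have : fOn ex e.2.2 d = d := dG_inj ψ ((hx _ h1).1) hd (by
    rw [← h2, hdu, mul_assoc, ← pow_succ, pow_succ', inv_mul_cancel_left])
  rw [← hdu, h3 this, dG_one]

theorem al_val (H : Cfg t ψ i) {σ : List ℕ} (hσ : σ.getD 2 0 = 6) {e : ℕ × List ℕ × List ℕ}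
    (he : alOK σ e = true) : wval (fun k => gam ψ i (σ.getD k 0)) (alWord 4 e) = 1 := by
  simp only [alOK, Bool.and_eq_true] at he
  obtain ⟨⟨⟨⟨⟨⟨hx, s1⟩, s2⟩, l1⟩, l2⟩, e1⟩, e2⟩ := he
  have hx192 : e.1 < 192 := Nat.lt_of_succ_le (Nat.le_of_ble_eq_true hx)
  set g := fun k => gam ψ i (σ.getD k 0) with hg
  obtain ⟨o1, g1⟩ := sigOk_spec s1
  obtain ⟨o2, g2⟩ := sigOk_spec s2
  have hal : dAl e.1 < 192 := by
    have h := List.all_eq_true.1 al_facts.1 e.1 (List.mem_range.2 hx192)
    rw [Bool.and_eq_true] at h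
    exact Nat.lt_of_succ_le (Nat.le_of_ble_eq_true h.1)
  have v1 : wval g e.2.1 = dG ψ e.1 := by
    rw [← g1 (gam ψ i), gam_word l1, wval_of_same o1 (by simpa [dP] using (dP_rep hx192).1) e1]
    simp [dG, dP]
  have v2 : wval g e.2.2 = dG ψ (dAl e.1) := by
    rw [← g2 (gam ψ i), gam_word l2, wval_of_same o2 (by simpa [dP] using (dP_rep hal).1) e2]
    simp [dG, dP]
  have h4 : lval g 4 = i := by
    show g 2 = i
    rw [hg]; show gam ψ i (σ.getD 2 0) = i
    rw [hσ, gam, if_pos rfl]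
  have h5 : lval g 5 = i⁻¹ := by
    show (g 2)⁻¹ = i⁻¹
    rw [← h4]; rfl
  rw [alWord, show Nat.add 4 1 = 5 from rfl, wval_cons, wval_append, wval_cons, wval_invW, v1, v2, h4, h5,
    ← mul_assoc, ← mul_assoc, H.conj_act hx192, mul_inv_cancel]

variable [Finite G]

/-- Pairs of a normalizer are determined by the model. -/
theorem pairN_inj (H : Cfg t ψ i) {σ ex : List ℕ} {K : J3Type.Cert} {al fr : List (ℕ × List ℕ × List ℕ)}
    {hint : List (ℕ × ℕ × ℕ)} (hok : nStageOK σ ex K al fr hint = true) (hrep : repOK σ K = true)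
    (hn : K.nLive = 15) (hgens : K.gens = [0, 2, 4]) (hsubs : K.subs = [0, 2])
    (h0 : K.live.get 15 0 = 0) (hF : ∀ j < K.nFacts, factOK K j = true) (hR : ∀ c < K.nLive, rowOK K c = true)
    {z : G × P275} (hz : z ∈ pairN ψ i σ) (hz2 : z.2 = 1) : z = 1 := by
  classical
  simp only [nStageOK, Bool.and_eq_true] at hok
  obtain ⟨⟨⟨⟨⟨⟨⟨⟨⟨hal, hfr⟩, hT⟩, hV⟩, hfull⟩, hrules⟩, hcent⟩, hs0⟩, hs1⟩, hs2⟩ := hok
  have hσ2 : σ.getD 2 0 = 6 := Nat.eq_of_beq_eq_true hs2
  set f := fun k => fP ψ i (σ.getD k 0) with hf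
  have hfst : ∀ w, (wval f w).1 = wval (fun k => gam ψ i (σ.getD k 0)) w := fun w =>
    wval_map (MonoidHom.fst G P275) f w
  have hsnd : ∀ w, (wval f w).2 = wval (fun k => piL (σ.getD k 0)) w := fun w =>
    wval_map (MonoidHom.snd G P275) f w
  have hfullv : ∀ w ∈ fullN al fr, wval f w = 1 := by
    intro w hw
    refine Prod.ext ?_ ?_
    · rw [hfst]
      simp only [fullN, List.mem_cons, List.mem_append, List.mem_map] at hw
      rcases hw with rfl | ⟨e, he, rfl⟩ | ⟨e, he, rfl⟩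
      · show wval (fun k => gam ψ i (σ.getD k 0)) [4, 4] = 1
        rw [wval_cons, wval_cons, wval_nil, mul_one, show lval (fun k => gam ψ i (σ.getD k 0)) 4 =
          gam ψ i (σ.getD 2 0) from rfl, hσ2, gam, if_pos rfl, H.sq]
      · exact al_val H hσ2 (List.all_eq_true.1 hal e he)
      · exact free_val H hσ2 (memB_iff.1 hT) (memB_iff.1 hV) hcent (List.all_eq_true.1 hfr e he)
    · have h := List.all_eq_true.1 hfull w hw
      rw [Bool.and_eq_true] at h
      obtain ⟨o, g1⟩ := sigOk_spec h.1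
      rw [hsnd, ← g1 piL, wval_eq_one o h.2]
      rfl
  have hV' : Valid K f (graphC ψ) := by
    refine ⟨fun ws hws w hw => ?_, fun s hs => ?_⟩
    · obtain ⟨h, hh⟩ := zipChk_spec hrules w (List.mem_flatten.2 ⟨ws, hws, hw⟩)
      unfold nRuleOK at hh
      cases hb : Nat.beq h.1 0
      · rw [hb, cond_false] at hh
        rw [wordEq_eq hh]
        refine wval_rotW f ?_ _ _
        rcases Nat.lt_or_ge (Nat.sub h.1 1) (fullN al fr).length with hk | hk
        · rw [List.getD_eq_getElem _ _ hk]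
          exact hfullv _ (List.getElem_mem hk)
        · rw [List.getD_eq_default _ _ hk]; rfl
      · rw [hb, cond_true] at hh
        cases hb1 : Nat.beq h.2.1 1
        · rw [hb1, cond_false, Bool.and_eq_true, Bool.and_eq_true] at hh
          obtain ⟨⟨ho, hl⟩, he⟩ := hh
          obtain ⟨o, g1⟩ := sigOk_spec ho
          rw [← g1 (fP ψ i)]
          refine Prod.ext ?_ ?_
          · rw [wval_fst, gam_word hl, wval_eq_one o he, ext_one]; rfl
          · rw [wval_snd, wval_eq_one o he]; rfl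
        · rw [hb1, cond_true, List.isEmpty_iff] at hh
          rw [← wval_redW f w, hh]; rfl
    · rw [hsubs] at hs
      simp only [List.mem_cons, List.not_mem_nil, or_false] at hs
      rcases hs with rfl | rfl
      · exact fP_graph (Nat.lt_of_succ_le (Nat.le_of_ble_eq_true hs0))
      · exact fP_graph (Nat.lt_of_succ_le (Nat.le_of_ble_eq_true hs1))
  have hcl : pairN ψ i σ ≤ closure {y | ∃ j < K.gens.length, lval f (K.gens.getD j idL) = y} := by
    refine closure_mono ?_
    rintro y ⟨j, hj, rfl⟩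
    refine ⟨j, by rw [hgens]; exact hj, ?_⟩
    rw [hgens]
    interval_cases j <;> rfl
  obtain ⟨c, hc, hcH⟩ := mem_cover hV' hF h0 hR (by rw [hn]; norm_num) (hcl hz)
  rw [mem_graphC] at hcH
  rcases Nat.eq_zero_or_pos c with rfl | hc0
  · rw [h0, show rep K f 0 = 1 from rfl, inv_one, mul_one] at hcH
    refine Prod.ext ?_ hz2
    rw [hcH.2, hz2, ext_one]; rfl
  exfalso
  rw [hn] at hc
  have hr := List.all_eq_true.1 hrep (c - 1) (List.mem_range.2 (by omega))
  rw [show Nat.add (c - 1) 1 = c by show c - 1 + 1 = c; omega] at hr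
  simp only [Bool.and_eq_true, Bool.not_eq_true'] at hr
  set m := K.live.get 15 c
  obtain ⟨ho, hne⟩ := hr
  obtain ⟨o, g1⟩ := sigOk_spec ho
  have hmem : wval piL (sigW σ (repW K m m)) ∈ Cm := by
    have h1 := hcH.1
    rw [Prod.snd_mul, hz2, one_mul, Prod.snd_inv, inv_mem_iff] at h1
    rw [g1 piL, ← hsnd, wval_repW]
    exact h1
  obtain ⟨r1, r2⟩ := tabW_spec o
  have : sameB 9 275 (tabW (sigW σ (repW K m m)) ++ [MclInv.invT])
      (MclInv.invT :: tabW (sigW σ (repW K m m))) = true := sameB_iff.2 fun x hx => by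
    rw [← ev_rep (fun T hT => (List.mem_append.1 hT).elim (r1 T) (fun h => by
        rw [List.mem_singleton.1 h]; exact MclInv.t_facts.1)) (⟨x, hx⟩ : Fin 275),
      ← ev_rep (fun T hT => (List.mem_cons.1 hT).elim (fun h => h ▸ MclInv.t_facts.1) (r1 T)) (⟨x, hx⟩ : Fin 275)]
    simp only [List.map_append, List.prod_append, List.map_cons, List.prod_cons, List.map_nil, List.prod_nil,
      mul_one, r2]
    rw [MclInv.cent_le.2.2.2.2 _ hmem]
    exact Nat.beq_refl _
  rw [this] at hne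
  exact Bool.noConfusion hne

theorem nCert_lists : nCertA.gens = [0, 2, 4] ∧ nCertA.subs = [0, 2] ∧ nCertA.nLive = 15 ∧
    nCertB.gens = [0, 2, 4] ∧ nCertB.subs = [0, 2] ∧ nCertB.nLive = 15 := ⟨rfl, rfl, rfl, rfl, rfl, rfl⟩

theorem pairA_inj (H : Cfg t ψ i) {z : G × P275} (hz : z ∈ pairN ψ i sgA) (h : z.2 = 1) : z = 1 :=
  pairN_inj H nStageA_ok.1 nStageA_ok.2 nCert_lists.2.2.1 nCert_lists.1 nCert_lists.2.1 nCertA_live_zero
    nCertA_fact_ok nCertA_row_ok hz h

theorem pairB_inj (H : Cfg t ψ i) {z : G × P275} (hz : z ∈ pairN ψ i sgB) (h : z.2 = 1) : z = 1 :=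
  pairN_inj H nStageB_ok.1 nStageB_ok.2 nCert_lists.2.2.2.2.2 nCert_lists.2.2.2.1 nCert_lists.2.2.2.2.1
    nCertB_live_zero nCertB_fact_ok nCertB_row_ok hz h

end Cfsg.Lib.MclType
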