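import Cfsg.Agent.Lib.MclType.NStage
import Cfsg.Agent.Lib.MclType.MainData

/-!
# The rules of the main certificate
-/

set_option autoImplicit false
set_option maxRecDepth 100000

namespace Cfsg.Lib.MclType

open Equiv Cfsg.Lib.PermAut Cfsg.Lib.J3Type Subgroup

/-- The letters of the main certificate. -/
def sgM : List ℕ := [0, 1, 2, 3, 5, 6]
/-- The letters of the automorphism rules. -/
def sgT : List ℕ := [0, 1, 5]
/-- The letters of the automorphism rules among all letters. -/
def sgU : List ℕ := [0, 1, 6]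

/-- The letters of a word lie in a list. -/
def lettersIn (l : List ℕ) (w : List ℕ) : Bool :=
  w.all fun x => memB (sgM.getD (Nat.div x 2) 0) l && Nat.blt (Nat.div x 2) 6

/-- A base rule. -/
noncomputable def baseOK (e : ℕ × List ℕ) : Bool :=
  sigOk sgM e.2 && sameB 9 275 (tabW (sigW sgM e.2)) [] &&
    (bif Nat.beq e.1 0 then (sigW sgM e.2).all fun l => Nat.blt l 12
    else bif Nat.beq e.1 1 then lettersIn [1, 2, 3, 6] e.2
    else bif Nat.beq e.1 2 then lettersIn [2, 5, 6] e.2
    else mclAl.any fun a => alOK sgU a && sigOk sgT (alWord 4 a) &&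
      (List.range 40).any fun s => wordEq e.2 (rotW (sigW sgT (alWord 4 a)) s 0))

/-- One rule. -/
noncomputable def mainRuleOK (base : List (ℕ × List ℕ)) (w : List ℕ) (h : ℕ × ℕ × ℕ × ℕ) : Bool :=
  bif Nat.beq h.1 0 then (redW w).isEmpty
  else Nat.blt h.2.1 base.length && wordEq w (rotW (base.getD h.2.1 (0, [])).2 h.2.2.1 h.2.2.2)

/-- The rules come from the base rules. -/
noncomputable def mainRulesOK : Bool :=
  zipChk (fun ws hs => zipChk (mainRuleOK mclBase.flatten) ws hs) mclCert.rules mclHint

theorem mainBase_ok : (mclBase.all fun l => l.all baseOK) = true := by decide +kernel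

theorem mainRules_ok : mainRulesOK = true := by decide +kernel

theorem link_ok : sigOk sgA bWord = true ∧ ((sigW sgA bWord).all fun l => Nat.blt l 12) = true ∧
    sameB 9 275 (tabW (sigW sgA bWord)) [mTab.getD 1 0] = true ∧
    sigOk sgB paWord = true ∧ ((sigW sgB paWord).all fun l => Nat.blt l 12) = true ∧
    sameB 9 275 (tabW (sigW sgB paWord)) [mTab.getD 2 0] = true := by decide +kernel

variable {G : Type*} [Group G] {t i : G} {ψ : Cm ≃* centralizer ({t} : Set G)}

theorem gen_mem_pairN (σ : List ℕ) {w : List ℕ} {k : ℕ} (hk : k < 6) (hs : sigOk σ w = true)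
    (hl : (w.all fun l => Nat.blt (Nat.div l 2) 3) = true) (hc : ((sigW σ w).all fun l => Nat.blt l 12) = true)
    (he : sameB 9 275 (tabW (sigW σ w)) [mTab.getD k 0] = true) : fP ψ i k ∈ pairN ψ i σ := by
  obtain ⟨o, g1⟩ := sigOk_spec hs
  have hv : wval piL (sigW σ w) = piL k := by
    rw [wval_of_same o (by simpa [piL] using (piL_rep (k := k) (by omega)).1) he]
    simp [piL]
  have h2 : fP ψ i k = wval (fun j => fP ψ i (σ.getD j 0)) w := by
    rw [← g1 (fP ψ i)]
    refine Prod.ext ?_ ?_
    · rw [wval_fst, gam_word hc, hv]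
      show gam ψ i k = _
      rw [gam, if_neg (by omega)]
    · rw [wval_snd, hv]; rfl
  rw [h2]
  clear h2 hv he hc hs o g1
  induction w with
  | nil => exact one_mem _
  | cons l w ih =>
    simp only [List.all_cons, Bool.and_eq_true] at hl
    rw [wval_cons]
    refine mul_mem ?_ (ih hl.2)
    have hl3 : l / 2 < 3 := Nat.lt_of_succ_le (Nat.le_of_ble_eq_true hl.1)
    have hm : fP ψ i (σ.getD (l / 2) 0) ∈ pairN ψ i σ := subset_closure ⟨_, hl3, rfl⟩
    unfold lval
    split
    · exact one_mem _
    · split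
      · exact hm
      · exact inv_mem hm

theorem mem_pairA {k : ℕ} (hk : memB k [1, 2, 3, 6] = true) : fP ψ i k ∈ pairN ψ i sgA := by
  have := memB_iff.1 hk
  simp only [List.mem_cons, List.not_mem_nil, or_false] at this
  rcases this with rfl | rfl | rfl | rfl
  · exact gen_mem_pairN sgA (by norm_num) link_ok.1 (by decide) link_ok.2.1 link_ok.2.2.1
  · exact subset_closure ⟨0, by norm_num, rfl⟩
  · exact subset_closure ⟨1, by norm_num, rfl⟩
  · exact subset_closure ⟨2, by norm_num, rfl⟩

theorem mem_pairB {k : ℕ} (hk : memB k [2, 5, 6] = true) : fP ψ i k ∈ pairN ψ i sgB := by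
  have := memB_iff.1 hk
  simp only [List.mem_cons, List.not_mem_nil, or_false] at this
  rcases this with rfl | rfl | rfl
  · exact gen_mem_pairN sgB (by norm_num) link_ok.2.2.2.1 (by decide) link_ok.2.2.2.2.1 link_ok.2.2.2.2.2
  · exact subset_closure ⟨1, by norm_num, rfl⟩
  · exact subset_closure ⟨2, by norm_num, rfl⟩

variable [Finite G]

/-- A base rule is trivial in both groups. -/
theorem base_val (H : Cfg t ψ i) {e : ℕ × List ℕ} (he : baseOK e = true) :
    wval (fun k => fP ψ i (sgM.getD k 0)) e.2 = 1 := by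
  set f := fun k => fP ψ i (sgM.getD k 0) with hf
  simp only [baseOK, Bool.and_eq_true] at he
  obtain ⟨⟨hs, hm⟩, hk⟩ := he
  obtain ⟨o, g1⟩ := sigOk_spec hs
  have h2 : (wval f e.2).2 = 1 := by
    rw [hf, ← g1 (fP ψ i), wval_snd, wval_eq_one o hm]
  have hin : ∀ {l : List ℕ} {σ : List ℕ}, lettersIn l e.2 = true →
      (∀ k, memB k l = true → fP ψ i k ∈ pairN ψ i σ) → wval f e.2 ∈ pairN ψ i σ := by
    intro l σ hl hp
    suffices key : ∀ u : List ℕ, lettersIn l u = true → wval f u ∈ pairN ψ i σ from key _ hl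
    intro u hu
    clear hl
    induction u with
    | nil => exact one_mem _
    | cons x w ih =>
      simp only [lettersIn, List.all_cons, Bool.and_eq_true] at hu
      rw [wval_cons]
      refine mul_mem ?_ (ih hu.2)
      have hm := hp _ hu.1.1
      unfold lval
      split
      · exact one_mem _
      · split
        · exact hm
        · exact inv_mem hm
  cases h0 : Nat.beq e.1 0
  · rw [h0, cond_false] at hk
    cases h1 : Nat.beq e.1 1
    · rw [h1, cond_false] at hk
      cases h3 : Nat.beq e.1 2
      · rw [h3, cond_false, List.any_eq_true] at hk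
        obtain ⟨a, -, ha⟩ := hk
        simp only [Bool.and_eq_true, List.any_eq_true] at ha
        obtain ⟨⟨hal, hT⟩, s, -, hw⟩ := ha
        refine Prod.ext ?_ h2
        rw [hf, wordEq_eq hw, show (wval (fun k => fP ψ i (sgM.getD k 0))
          (rotW (sigW sgT (alWord 4 a)) s 0)).1 = wval (fun k => gam ψ i (sgM.getD k 0))
          (rotW (sigW sgT (alWord 4 a)) s 0) from wval_map (MonoidHom.fst G P275) _ _]
        refine wval_rotW _ ?_ _ _
        rw [(sigOk_spec hT).2]
        have e' : (fun k => gam ψ i (sgM.getD (sgT.getD k 0) 0)) = fun k => gam ψ i (sgU.getD k 0) := by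
          funext k
          rcases k with - | - | - | k <;> rfl
        rw [e']
        exact al_val H rfl hal
      · rw [h3, cond_true] at hk
        exact pairB_inj H (hin hk fun k hk => mem_pairB hk) h2
    · rw [h1, cond_true] at hk
      exact pairA_inj H (hin hk fun k hk => mem_pairA hk) h2
  · rw [h0, cond_true] at hk
    refine Prod.ext ?_ h2
    rw [hf, ← g1 (fP ψ i), wval_fst, gam_word hk, wval_eq_one o hm, ext_one]
    rfl

/-- All rules of the main certificate are trivial in both groups. -/
theorem main_val (H : Cfg t ψ i) : ∀ ws ∈ mclCert.rules, ∀ w ∈ ws,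
    wval (fun k => fP ψ i (sgM.getD k 0)) w = 1 := by
  intro ws hws w hw
  have h := mainRules_ok
  unfold mainRulesOK at h
  obtain ⟨hs, h⟩ := zipChk_spec h ws hws
  obtain ⟨e, he⟩ := zipChk_spec h w hw
  unfold mainRuleOK at he
  cases h0 : Nat.beq e.1 0
  · rw [h0, cond_false, Bool.and_eq_true] at he
    rw [wordEq_eq he.2]
    refine wval_rotW _ (base_val H ?_) _ _
    have hlt : e.2.1 < mclBase.flatten.length := Nat.lt_of_succ_le (Nat.le_of_ble_eq_true he.1)
    rw [List.getD_eq_getElem _ _ hlt]
    obtain ⟨l, hl, hm⟩ := List.mem_flatten.1 (List.getElem_mem hlt)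
    exact List.all_eq_true.1 (List.all_eq_true.1 mainBase_ok l hl) _ hm
  · rw [h0, cond_true, List.isEmpty_iff] at he
    rw [← wval_redW _ w, he]
    rfl

end Cfsg.Lib.MclType
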