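import Cfsg.Agent.Lib.MclType.DFacts

/-!
# The noncentral involutions of the centralizer form one class
-/

set_option autoImplicit false
set_option maxRecDepth 100000
set_option linter.style.haveILetI false

namespace Cfsg.Lib.MclType

open Equiv Cfsg.Lib.PermAut Cfsg.Lib.J3Type

/-- One conjugation step. -/
noncomputable def parChk : Bool :=
  (List.range 210).all fun q =>
    let p := kPar.getD q (0, 0)
    bif Nat.beq q 0 then sameB 9 275 [kTab.getD q 0] [dTab.getD dV 0] else
      let g := bif Nat.beq p.2 0 then MclInv.centSub.g0 else MclInv.centSub.g1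
      Nat.blt p.1 q && sameB 9 275 [g, kTab.getD q 0] [kTab.getD p.1 0, g]

/-- The involutions of the subgroup of order 384. -/
noncomputable def invChk : Bool :=
  (List.range MclInv.twoSub.size).all fun i =>
    let p := pickPath MclInv.twoSub.lev (digitsOf MclInv.twoSub.lev i)
    !(sameB 9 275 (p ++ p) []) || sameB 9 275 p [] || sameB 9 275 p [MclInv.invT] ||
      (Nat.blt ((kHint.getD (i / 64) []).getD (i % 64) 0) 210 &&
        sameB 9 275 p [kTab.getD ((kHint.getD (i / 64) []).getD (i % 64) 0) 0])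

theorem parChk_ok : parChk = true := by decide +kernel

theorem invChk_ok : invChk = true := by decide +kernel

theorem kTab_ok : nodupB (kTab.map keyT) = true ∧ kTab.length = 210 ∧
    ((List.range 210).all fun q => invPairOk 9 275 (kTab.getD q 0) (kTab.getD q 0)) = true := by
  refine ⟨?_, ?_, ?_⟩ <;> decide +kernel

/-- The involutions of the list. -/
noncomputable def kP (q : ℕ) : P275 := toP 9 275 (kTab.getD q 0)

theorem kP_rep {q : ℕ} (hq : q < 210) : Rep 9 (kP q) (kTab.getD q 0) :=
  (rep_of_invPairOk (List.all_eq_true.1 kTab_ok.2.2 q (List.mem_range.2 hq))).1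

theorem kP_conj : ∀ {q : ℕ}, q < 210 → ∃ c ∈ Cm, kP q = c * dP dV * c⁻¹ := by
  intro q
  induction q using Nat.strong_induction_on with
  | _ q ih =>
    intro hq
    have h := List.all_eq_true.1 parChk_ok q (List.mem_range.2 hq)
    by_cases h0 : q = 0
    · subst h0
      rw [show Nat.beq 0 0 = true from rfl, cond_true] at h
      refine ⟨1, one_mem _, ?_⟩
      have e := eq_of_sameB (b := 9) (N := 275) (by simpa [kP] using kP_rep hq)
        (by simpa [dP] using (dP_rep (x := dV) (by decide)).1) h
      simpa [kP, dP] using e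
    rw [show Nat.beq q 0 = false from Bool.eq_false_iff.2 fun e => h0 (Nat.eq_of_beq_eq_true e),
      cond_false] at h
    simp only [Bool.and_eq_true] at h
    obtain ⟨hp, hs⟩ := h
    set p := (kPar.getD q (0, 0)).1
    set g := bif Nat.beq (kPar.getD q (0, 0)).2 0 then MclInv.centSub.g0 else MclInv.centSub.g1 with hg
    have hgm : Rep 9 (toP 9 275 g) g ∧ toP 9 275 g ∈ Cm := by
      rw [hg]
      cases Nat.beq (kPar.getD q (0, 0)).2 0
      · exact ⟨MclInv.cent_valid.g1, Subgroup.subset_closure (by simp)⟩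
      · exact ⟨MclInv.cent_valid.g0, Subgroup.subset_closure (by simp)⟩
    have hp' : p < q := Nat.lt_of_succ_le (Nat.le_of_ble_eq_true hp)
    obtain ⟨c, hc, he⟩ := ih p hp' (by omega)
    have e := eq_of_sameB (b := 9) (N := 275) (l := [g, kTab.getD q 0]) (l' := [kTab.getD p 0, g])
      (by simpa [kP] using ⟨hgm.1, kP_rep hq⟩)
      (by simpa [kP] using ⟨kP_rep (q := p) (by omega), hgm.1⟩) hs
    simp only [List.map_cons, List.map_nil, List.prod_cons, List.prod_nil, mul_one] at e
    refine ⟨(toP 9 275 g)⁻¹ * c, mul_mem (inv_mem hgm.2) hc, ?_⟩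
    show toP 9 275 (kTab.getD q 0) = _
    calc toP 9 275 (kTab.getD q 0) = (toP 9 275 g)⁻¹ * (kP p * toP 9 275 g) := by
          rw [show kP p = toP 9 275 (kTab.getD p 0) from rfl, ← e, inv_mul_cancel_left]
      _ = _ := by rw [he]; group

/-- The second involution inside the centralizer. -/
noncomputable def vC : Cm := ⟨dP dV, (dP_rep (x := dV) (by decide)).2.1⟩

theorem card_Cm : Nat.card Cm = 40320 := by
  rw [MclInv.cent_valid.card, MclInv.sizes.1]

theorem card_cent_V : Nat.card (Subgroup.centralizer ({vC} : Set Cm)) ≤ 192 := by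
  classical
  have hS : 210 ≤ (MulAction.orbit (ConjAct Cm) vC).ncard := by
    have hmem : ∀ q, q < 210 → kP q ∈ Cm := fun q hq => by
      obtain ⟨c, hc, e⟩ := kP_conj hq
      rw [e]; exact mul_mem (mul_mem hc vC.2) (inv_mem hc)
    let f : Fin 210 → Cm := fun q => ⟨kP q, hmem q q.2⟩
    have hinj : Function.Injective f := fun a b e => by
      have h : kP a = kP b := congrArg Subtype.val e
      have hk : ∀ p : ℕ, p < 275 → ent 9 (kTab.getD a 0) p = ent 9 (kTab.getD b 0) p := fun p hp => by
        rw [← kP_rep a.2 ⟨p, hp⟩, ← kP_rep b.2 ⟨p, hp⟩, h]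
      have hkey : keyT (kTab.getD a 0) = keyT (kTab.getD b 0) := by
        simp only [keyT, hk 38 (by norm_num), hk 19 (by norm_num), hk 162 (by norm_num), hk 95 (by norm_num)]
      have ha : (a : ℕ) < (kTab.map keyT).length := by rw [List.length_map, kTab_ok.2.1]; exact a.2
      have hb : (b : ℕ) < (kTab.map keyT).length := by rw [List.length_map, kTab_ok.2.1]; exact b.2
      refine Fin.ext (((nodup_of_nodupB kTab_ok.1).getElem_inj_iff (hi := ha) (hj := hb)).1 ?_)
      rw [List.getElem_map, List.getElem_map, ← List.getD_eq_getElem _ 0, ← List.getD_eq_getElem _ 0]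
      exact hkey
    have hsub : Set.range f ⊆ MulAction.orbit (ConjAct Cm) vC := by
      rintro _ ⟨q, rfl⟩
      obtain ⟨c, hc, e⟩ := kP_conj q.2
      refine ⟨ConjAct.toConjAct ⟨c, hc⟩, ?_⟩
      show ConjAct.toConjAct (⟨c, hc⟩ : Cm) • vC = f q
      rw [ConjAct.smul_def, ConjAct.ofConjAct_toConjAct]
      exact Subtype.ext e.symm
    have := Set.ncard_le_ncard hsub (Set.toFinite _)
    rwa [← Nat.card_coe_set_eq, Nat.card_range_of_injective hinj, Nat.card_fin] at this
  have hidx : (MulAction.stabilizer (ConjAct Cm) vC).index = (MulAction.orbit (ConjAct Cm) vC).ncard :=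
    MulAction.index_stabilizer (ConjAct Cm) vC
  have h := (MulAction.stabilizer (ConjAct Cm) vC).card_mul_index
  rw [hidx, show Nat.card (ConjAct Cm) = 40320 from card_Cm] at h
  have hle : Nat.card (Subgroup.centralizer ({vC} : Set Cm)) ≤
      Nat.card (MulAction.stabilizer (ConjAct Cm) vC) := by
    let s : Subgroup.centralizer ({vC} : Set Cm) → MulAction.stabilizer (ConjAct Cm) vC := fun x =>
      ⟨ConjAct.toConjAct x.1, by
        rw [MulAction.mem_stabilizer_iff, ConjAct.smul_def, ConjAct.ofConjAct_toConjAct,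
          Subgroup.mem_centralizer_singleton_iff.1 x.2, mul_inv_cancel_right]⟩
    refine Nat.card_le_card_of_injective s fun a b e => ?_
    have e' : ConjAct.toConjAct a.1 = ConjAct.toConjAct b.1 :=
      congrArg (fun z : MulAction.stabilizer (ConjAct Cm) vC => (z.1 : ConjAct Cm)) e
    exact Subtype.ext (ConjAct.toConjAct.injective e')
  refine hle.trans ?_
  nlinarith

/-- The elements centralizing the second involution are the 192 listed. -/
theorem mem_D {g : P275} (hg : g ∈ Cm) (hv : g * dP dV = dP dV * g) : ∃ x < 192, g = dP x := by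
  classical
  let f : Fin 192 → Subgroup.centralizer ({vC} : Set Cm) := fun x =>
    ⟨⟨dP x, (dP_rep x.2).2.1⟩, Subgroup.mem_centralizer_singleton_iff.2 (Subtype.ext (dP_comm_V x.2))⟩
  have hinj : Function.Injective f := fun a b e =>
    Fin.ext (dP_inj a.2 b.2 (congrArg (fun z => (z.1.1 : P275)) e))
  have hbij : Function.Bijective f := (Nat.bijective_iff_injective_and_card f).2 ⟨hinj, le_antisymm
    (Nat.card_le_card_of_injective f hinj) (by rw [Nat.card_fin]; exact card_cent_V)⟩
  obtain ⟨x, hx⟩ := hbij.2 ⟨⟨g, hg⟩, Subgroup.mem_centralizer_singleton_iff.2 (Subtype.ext hv)⟩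
  exact ⟨x, x.2, (congrArg (fun z => (z.1.1 : P275)) hx).symm⟩

theorem two_part : (40320 : ℕ).factorization 2 = 7 ∧ (384 : ℕ).factorization 2 = 7 := by
  constructor
  · rw [show (40320 : ℕ) = 2 ^ 7 * 315 by norm_num, Nat.factorization_mul (by norm_num) (by norm_num),
      Finsupp.add_apply, Nat.Prime.factorization_pow Nat.prime_two, Finsupp.single_eq_same,
      Nat.factorization_eq_zero_of_not_dvd (by norm_num : ¬ 2 ∣ 315)]
  · rw [show (384 : ℕ) = 2 ^ 7 * 3 by norm_num, Nat.factorization_mul (by norm_num) (by norm_num),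
      Finsupp.add_apply, Nat.Prime.factorization_pow Nat.prime_two, Finsupp.single_eq_same,
      Nat.factorization_eq_zero_of_not_dvd (by norm_num : ¬ 2 ∣ 3)]

set_option maxHeartbeats 1600000 in
/-- An involution of the centralizer is the central one or conjugate to the second one. -/
theorem inv_class {g : P275} (hg : g ∈ Cm) (h2 : g * g = 1) (h1 : g ≠ 1) (ht : g ≠ MclInv.tP) :
    ∃ c ∈ Cm, g = c * dP dV * c⁻¹ := by
  classical
  haveI : Fact (Nat.Prime 2) := ⟨Nat.prime_two⟩
  have VC := MclInv.cent_valid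
  have V2 := Sub.valid (b := 9) (N := 275) MclInv.subs_ok.2.1
  obtain ⟨-, -, htC, h2le, hcomm⟩ := MclInv.cent_le
  set M := (MclInv.twoSub.grp 9 275).subgroupOf Cm with hM
  have hMc : Nat.card M = 384 := by
    rw [hM, Nat.card_congr (Subgroup.subgroupOfEquivOfLe h2le).toEquiv, V2.card, MclInv.sizes.2.1]
  obtain ⟨Q⟩ : Nonempty (Sylow 2 M) := inferInstance
  let P : Sylow 2 Cm := Sylow.ofCard ((Q : Subgroup M).map M.subtype) (by
    rw [Subgroup.card_map_of_injective M.subtype_injective, Q.card_eq_multiplicity, hMc, card_Cm,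
      two_part.1, two_part.2])
  let y : Cm := ⟨g, hg⟩
  have hp2 : IsPGroup 2 (Subgroup.zpowers y) := IsPGroup.of_card (n := 1) (by
    rw [Nat.card_zpowers, pow_one]
    exact orderOf_eq_prime (by rw [pow_two]; exact Subtype.ext h2) fun e => h1 (congrArg Subtype.val e))
  obtain ⟨R, hR⟩ := hp2.exists_le_sylow
  obtain ⟨a, ha⟩ := MulAction.exists_smul_eq Cm R P
  set w := a * y * a⁻¹ with hw
  have hwP : w ∈ (P : Subgroup Cm) := by
    rw [← ha]; exact ⟨y, hR (Subgroup.mem_zpowers y), rfl⟩
  have hwM : (w : P275) ∈ MclInv.twoSub.grp 9 275 :=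
    Subgroup.mem_subgroupOf.1 (Subgroup.map_subtype_le (Q : Subgroup M) hwP)
  have hwS : (w : P275) ∈ prodSet 9 275 MclInv.twoSub.lev := by
    rw [← Finset.mem_coe, V2.eq]; exact hwM
  have hE : ∀ lev, (w : P275) ∈ prodSet 9 275 lev → ∃ path : List ℕ,
      List.Forall₂ (fun T l => T ∈ l) path lev ∧ (path.map (toP 9 275)).prod = (w : P275) :=
    fun lev h => exists_path lev _ h
  obtain ⟨path, hp, hpw⟩ := hE _ hwS
  obtain ⟨i, hi, hpick, hok⟩ := exists_digits hp
  have hsz : (MclInv.twoSub.lev.map List.length).prod = MclInv.twoSub.size := by rw [Sub.size]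
  have hgood := V2.good_of_path hok
  rw [hpick] at hgood
  have hc := invChk_ok
  rw [invChk, List.all_eq_true] at hc
  replace hc := hc i (List.mem_range.2 (hi.trans_eq hsz))
  simp only [hpick, Bool.or_eq_true, Bool.and_eq_true, Bool.not_eq_true'] at hc
  have hw2 : (w : P275) * w = 1 := by
    simp only [hw, Subgroup.coe_mul, Subgroup.coe_inv, y]
    calc (a : P275) * g * (a : P275)⁻¹ * (a * g * (a : P275)⁻¹) = a * (g * g) * (a : P275)⁻¹ := by group
      _ = 1 := by rw [h2]; group
  have hback : g = (a : P275)⁻¹ * w * a := by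
    simp only [hw, Subgroup.coe_mul, Subgroup.coe_inv, y]; group
  rcases hc with ((h | h) | h) | h
  · exfalso
    have : sameB 9 275 (path ++ path) [] = true := sameB_iff.2 fun x hx => by
      rw [← ev_rep (fun T hT => (List.mem_append.1 hT).elim (hgood T) (hgood T)) (⟨x, hx⟩ : Fin 275),
        List.map_append, List.prod_append, hpw, hw2]
      simp [ev]
    rw [this] at h; exact Bool.noConfusion h
  · exfalso
    have e := eq_of_sameB hgood (by simp) h
    rw [hpw] at e
    exact h1 (by rw [hback, e]; simp)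
  · exfalso
    have e := eq_of_sameB hgood (by simpa using MclInv.t_facts.1) h
    rw [hpw] at e
    simp only [List.map_cons, List.map_nil, List.prod_cons, List.prod_nil, mul_one] at e
    exact ht (by rw [hback, e, mul_assoc, ← hcomm _ a.2]; group)
  · set q := (kHint.getD (i / 64) []).getD (i % 64) 0
    have hq : q < 210 := Nat.lt_of_succ_le (Nat.le_of_ble_eq_true h.1)
    have e := eq_of_sameB hgood (by simpa [kP] using kP_rep hq) h.2
    rw [hpw] at e
    obtain ⟨c, hc, hk⟩ := kP_conj hq
    refine ⟨(a : P275)⁻¹ * c, mul_mem (inv_mem a.2) hc, ?_⟩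
    rw [hback, e]
    simp only [List.map_cons, List.map_nil, List.prod_cons, List.prod_nil, mul_one]
    rw [show toP 9 275 (kTab.getD q 0) = kP q from rfl, hk]
    group

end Cfsg.Lib.MclType
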