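import Cfsg.Agent.Lib.PermAut.MclInv
import Cfsg.Agent.Lib.MclType.Model
import Cfsg.Prelude.Def_SporadicB

/-!
# Numerical and local facts for the counting
-/

set_option autoImplicit false
set_option maxRecDepth 100000
set_option linter.style.haveILetI false

namespace Cfsg.Lib.MclType

open Equiv Cfsg.Lib.PermAut Subgroup

/-- The divisors of a product of powers. -/
def divList : List (ℕ × ℕ) → List ℕ
  | [] => [1]
  | (p, a) :: l => (List.range (a + 1)).flatMap fun k => (divList l).map fun d => p ^ k * d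

theorem mem_divList : ∀ {l : List (ℕ × ℕ)}, (∀ e ∈ l, e.1.Prime) → ∀ {d : ℕ},
    d ∣ (l.map fun e => e.1 ^ e.2).prod → d ∈ divList l
  | [], _, d, h => by simpa [divList] using h
  | (p, a) :: l, hp, d, h => by
    rw [List.map_cons, List.prod_cons, Nat.dvd_mul] at h
    obtain ⟨d1, d2, h1, h2, rfl⟩ := h
    obtain ⟨k, hk, rfl⟩ := (Nat.dvd_prime_pow (hp (p, a) (List.mem_cons_self ..))).1 h1
    simp only [divList, List.mem_flatMap, List.mem_range, List.mem_map]
    exact ⟨k, Nat.lt_succ_of_le hk, d2, mem_divList (fun e he => hp e (List.mem_cons_of_mem _ he)) h2, rfl⟩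

/-- The cases settled by a large prime: the parameter, the prime, the factors left. -/
def qCases : List (ℕ × ℕ × List (ℕ × ℕ)) :=
  [(1, 661, [(2, 3), (3, 6), (5, 3), (7, 1), (11, 1), (61, 1)]),
   (3, 13441, [(2, 3), (3, 6), (5, 3), (7, 1), (11, 1)]),
   (5, 1613, [(2, 3), (3, 6), (5, 4), (7, 1), (11, 1)]),
   (7, 823, [(2, 3), (3, 6), (5, 3), (7, 2), (11, 1)]),
   (9, 4481, [(2, 3), (3, 6), (5, 3), (7, 1), (11, 1)]),
   (15, 2689, [(2, 3), (3, 6), (5, 3), (7, 1), (11, 1)]),
   (35, 1153, [(2, 3), (3, 6), (5, 3), (7, 1), (11, 1)]),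
   (63, 641, [(2, 3), (3, 6), (5, 3), (7, 1), (11, 1)])]

/-- The cases settled by a Sylow subgroup of order eleven. -/
def kCases : List (ℕ × List (ℕ × ℕ)) :=
  [(21, [(3, 5), (5, 2)]), (105, [(3, 5), (5, 3)]), (315, [(3, 6), (5, 3)])]

theorem qCases_ok : (qCases.all fun e =>
    (divList e.2.2).all fun y => !(Nat.beq (Nat.mod (Nat.mul 16 y) e.2.1) 1)) = true ∧
    (qCases.all fun e => Nat.beq
      (Nat.mul (Nat.mul e.2.1 16) (e.2.2.map fun f => f.1 ^ f.2).prod)
      (Nat.mul 898128000 (Nat.add (Nat.div 40320 e.1) 1))) = true := by decide +kernel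

theorem kCases_ok : (kCases.all fun e =>
    (divList e.2).all fun y => !(Nat.beq (Nat.mod (Nat.mul 7 y) 11) 1)) = true ∧
    (kCases.all fun e => Nat.beq (Nat.mul 7 (e.2.map fun f => f.1 ^ f.2).prod) (Nat.mul 2025 e.1)) = true := by
  decide +kernel

theorem qCases_prime : ∀ e ∈ qCases, e.2.1.Prime ∧ ∀ f ∈ e.2.2, f.1.Prime := by
  intro e he
  fin_cases he <;> refine ⟨by norm_num, fun f hf => ?_⟩ <;> fin_cases hf <;> norm_num

theorem kCases_prime : ∀ e ∈ kCases, ∀ f ∈ e.2, f.1.Prime := by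
  intro e he
  fin_cases he <;> intro f hf <;> fin_cases hf <;> norm_num

theorem c_cases : ∀ c : ℕ, c ∣ 315 → c ∈ qCases.map (fun e => e.1) ∨ c ∈ kCases.map (fun e => e.1) ∨ c = 45 := by
  intro c hc
  have h : c ∈ divList [(3, 2), (5, 1), (7, 1)] := mem_divList (by
    intro e he; fin_cases he <;> norm_num) (by simpa using hc)
  have key : ((divList [(3, 2), (5, 1), (7, 1)]).all fun c =>
      (qCases.any fun e => Nat.beq c e.1) || (kCases.any fun e => Nat.beq c e.1) || Nat.beq c 45) = true := by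
    decide +kernel
  have := List.all_eq_true.1 key c h
  simp only [Bool.or_eq_true, List.any_eq_true, Nat.beq_eq] at this
  rcases this with (⟨e, he, rfl⟩ | ⟨e, he, rfl⟩) | rfl
  · exact Or.inl (List.mem_map_of_mem he)
  · exact Or.inr (Or.inl (List.mem_map_of_mem he))
  · exact Or.inr (Or.inr rfl)

/-- An element normalizing a cyclic subgroup and of order prime to the totient centralizes it. -/
theorem commute_of_coprime {D : Type*} [Group D] [Finite D] (Q : Subgroup D) [IsCyclic Q] {x : D}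
    (hx : x ∈ normalizer (Q : Set D)) (hco : (orderOf x).Coprime (Nat.totient (Nat.card Q))) :
    ∀ q ∈ Q, x * q = q * x := by
  let ψ := Q.normalizerMonoidHom
  have h1 : orderOf (ψ ⟨x, hx⟩) ∣ Nat.totient (Nat.card Q) := by
    have h := orderOf_dvd_natCard (ψ ⟨x, hx⟩)
    rwa [IsCyclic.card_mulAut Q] at h
  have h2 : orderOf (ψ ⟨x, hx⟩) ∣ orderOf x := by
    rw [← orderOf_mk x hx]
    exact orderOf_map_dvd ψ _
  have h3 : orderOf (ψ ⟨x, hx⟩) = 1 := Nat.eq_one_of_dvd_coprimes hco h2 h1
  have hk : (⟨x, hx⟩ : normalizer (Q : Set D)) ∈ ψ.ker := orderOf_eq_one_iff.1 h3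
  rw [Subgroup.normalizerMonoidHom_ker, mem_subgroupOf] at hk
  intro q hq
  exact ((mem_centralizer_iff.1 hk) q hq).symm

/-- No even permutation of eight points has order eight. -/
theorem pow_four_of_even {p : Perm (Fin 8)} (hp : Perm.sign p = 1) (h : p ^ 16 = 1) : p ^ 4 = 1 := by
  rw [← orderOf_dvd_iff_pow_eq_one, ← Perm.lcm_cycleType, Multiset.lcm_dvd]
  intro n hn
  have h16 : n ∣ 16 := (Multiset.dvd_lcm hn).trans (Perm.lcm_cycleType p ▸ orderOf_dvd_of_pow_eq_one h)
  have hle : n ≤ 8 := (Multiset.le_sum_of_mem hn).trans ((Perm.sum_cycleType_le p).trans (by simp))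
  rcases Nat.lt_or_ge n 8 with h8 | h8
  · revert h16; interval_cases n <;> decide
  exfalso
  obtain rfl : n = 8 := le_antisymm hle h8
  obtain ⟨s, hs⟩ := Multiset.exists_cons_of_mem hn
  have hsum := Perm.sum_cycleType_le p
  rw [hs, Multiset.sum_cons, Fintype.card_fin] at hsum
  have hs0 : s = 0 := by
    rcases s.empty_or_exists_mem with h0 | ⟨a, ha⟩
    · exact h0
    · exfalso
      have h2 : 2 ≤ a := Perm.two_le_of_mem_cycleType (σ := p) (by rw [hs]; exact Multiset.mem_cons_of_mem ha)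
      have := Multiset.le_sum_of_mem ha
      omega
  rw [Perm.sign_of_cycleType, hs, hs0] at hp
  revert hp; decide

variable {H : Type*} [Group H]

/-- The projection of a double cover. -/
theorem exists_proj (hH : IsNonsplitDoubleCover H (alternatingGroup (Fin 8))) : Finite H ∧
    Nat.card H = 40320 ∧ ∃ p : H →* Perm (Fin 8), (∀ x, Perm.sign (p x) = 1) ∧ Nat.card p.ker = 2 := by
  obtain ⟨hz, ⟨q⟩, -⟩ := hH
  have hA : Nat.card (alternatingGroup (Fin 8)) = 20160 := by
    have h := two_mul_nat_card_alternatingGroup (α := Fin 8)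
    rw [Nat.card_perm, Nat.card_fin, show Nat.factorial 8 = 40320 from rfl] at h
    omega
  have hc : Nat.card H = 40320 := by
    rw [Subgroup.card_eq_card_quotient_mul_card_subgroup (center H), hz, Nat.card_congr q.toEquiv, hA]
  refine ⟨Nat.finite_of_card_ne_zero (by rw [hc]; norm_num), hc,
    (alternatingGroup (Fin 8)).subtype.comp (q.toMonoidHom.comp (QuotientGroup.mk' (center H))), fun x => ?_, ?_⟩
  · exact Perm.mem_alternatingGroup.1 (q (QuotientGroup.mk x)).2
  · rw [← hz]
    congr 2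
    all_goals
      ext x
      simp [MonoidHom.mem_ker]

/-- Two-elements of a double cover have order at most eight. -/
theorem pow_eight (hH : IsNonsplitDoubleCover H (alternatingGroup (Fin 8))) {x : H} (hx : x ^ 16 = 1) :
    x ^ 8 = 1 := by
  obtain ⟨hfin, -, p, hp, hk⟩ := exists_proj hH
  have h4 : x ^ 4 ∈ p.ker := by
    rw [MonoidHom.mem_ker, map_pow]
    exact pow_four_of_even (hp x) (by rw [← map_pow, hx, map_one])
  have h2 := pow_card_eq_one' (x := (⟨x ^ 4, h4⟩ : p.ker))
  rw [hk] at h2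
  have h2' := congrArg Subtype.val h2
  rw [SubmonoidClass.coe_pow, ← pow_mul] at h2'
  exact h2'

/-- A double cover has no subgroup of order 45. -/
theorem no_forty_five (hH : IsNonsplitDoubleCover H (alternatingGroup (Fin 8))) {E : Subgroup H}
    (hE : Nat.card E = 45) : False := by
  classical
  obtain ⟨hfin, -, p, -, hk⟩ := exists_proj hH
  haveI : Fact (Nat.Prime 5) := ⟨by norm_num⟩
  set F := E.map p with hF
  have hinj : Function.Injective (p.comp E.subtype) := by
    rw [← MonoidHom.ker_eq_bot_iff, ← Subgroup.card_eq_one]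
    have h1 : Nat.card (p.comp E.subtype).ker ∣ 45 := hE ▸ Subgroup.card_subgroup_dvd_card _
    have h2 : Nat.card (p.comp E.subtype).ker ≤ 2 := by
      rw [← hk]
      exact Nat.card_le_card_of_injective (fun x => (⟨(x.1 : H), x.2⟩ : p.ker)) fun a b e =>
        Subtype.ext (Subtype.ext (congrArg (fun z : p.ker => (z : H)) e))
    have h3 : 0 < Nat.card (p.comp E.subtype).ker := Nat.card_pos
    interval_cases (Nat.card (p.comp E.subtype).ker)
    · rfl
    · norm_num at h1
  have hFc : Nat.card F = 45 := by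
    rw [hF, ← hE]
    exact Nat.card_congr (Equiv.ofBijective (fun y : E => (⟨p y, mem_map_of_mem p y.2⟩ : E.map p))
      ⟨fun a b e => hinj (congrArg Subtype.val e), fun ⟨_, y, hy, e⟩ => ⟨⟨y, hy⟩, Subtype.ext e⟩⟩).symm
  obtain ⟨P⟩ := (inferInstance : Nonempty (Sylow 5 F))
  have h45 : (45 : ℕ).factorization 5 = 1 := by
    rw [show (45 : ℕ) = 5 * 9 by norm_num, Nat.factorization_mul (by norm_num) (by norm_num), Finsupp.add_apply,
      Nat.Prime.factorization_self (by norm_num), Nat.factorization_eq_zero_of_not_dvd (by norm_num : ¬ 5 ∣ 9)]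
  have hPc : Nat.card (P : Subgroup F) = 5 := by
    rw [P.card_eq_multiplicity, hFc, h45, pow_one]
  have hidx : (P : Subgroup F).index = 9 := by
    have := (P : Subgroup F).card_mul_index
    rw [hPc, hFc] at this
    omega
  have h1 : Nat.card (Sylow 5 F) = 1 := by
    have hd : Nat.card (Sylow 5 F) ∣ 9 := hidx ▸ P.card_dvd_index
    have hm : Nat.card (Sylow 5 F) ≡ 1 [MOD 5] := card_sylow_modEq_one 5 F
    have := Nat.le_of_dvd (by norm_num) hd
    unfold Nat.ModEq at hm
    interval_cases (Nat.card (Sylow 5 F)) <;> omega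
  haveI : Subsingleton (Sylow 5 F) := (Nat.card_eq_one_iff_unique.1 h1).1
  haveI : (P : Subgroup F).Normal := P.normal_of_subsingleton
  haveI : IsCyclic (P : Subgroup F) := isCyclic_of_prime_card hPc
  obtain ⟨z, hz⟩ := exists_prime_orderOf_dvd_card' (G := (P : Subgroup F)) 5 (by rw [hPc])
  have hz' : orderOf ((z : F) : Perm (Fin 8)) = 5 := by rw [Subgroup.orderOf_coe, Subgroup.orderOf_coe, hz]
  have hcent : F ≤ centralizer ({((z : F) : Perm (Fin 8))} : Set (Perm (Fin 8))) := by
    intro y hy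
    rw [mem_centralizer_singleton_iff]
    have hco : (orderOf (⟨y, hy⟩ : F)).Coprime (Nat.totient (Nat.card (P : Subgroup F))) := by
      rw [hPc, Nat.totient_prime (by norm_num)]
      exact Nat.Coprime.coprime_dvd_left ((_root_.orderOf_dvd_natCard _).trans hFc.dvd) (by norm_num)
    exact congrArg Subtype.val (commute_of_coprime (P : Subgroup F)
      (x := ⟨y, hy⟩) (by rw [normalizer_eq_top]; trivial) hco (z : F) z.2)
  have hct : ((z : F) : Perm (Fin 8)).cycleType = {5} := by
    obtain ⟨n, hn⟩ := Perm.cycleType_prime_order (σ := ((z : F) : Perm (Fin 8))) (by rw [hz']; norm_num)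
    have hs := Perm.sum_cycleType_le ((z : F) : Perm (Fin 8))
    rw [hn, Multiset.sum_replicate, hz', Fintype.card_fin] at hs
    obtain rfl : n = 0 := by simp at hs; omega
    rw [hn, hz']; rfl
  have h30 : Nat.card (centralizer ({((z : F) : Perm (Fin 8))} : Set (Perm (Fin 8)))) = 30 := by
    rw [Perm.nat_card_centralizer, hct]
    simp [Nat.factorial]
  have := Subgroup.card_dvd_of_le hcent
  rw [hFc, h30] at this
  norm_num at this

/-- The rows for the elements of order seven. -/
theorem seven_ok : sameB 9 275 (tabW [0, 0, 0, 0, 0, 0, 0]) [] = true ∧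
    sameB 9 275 [mTab.getD 0 0] [] = false ∧
    ((List.range 275).filter fun p => Nat.beq (ent 9 (mTab.getD 0 0) p) p) = [107, 231] ∧
    ((List.range 275).all fun p => (Mcl.cert.tr.headD []).any fun T => Nat.beq (ent 9 T 38) p) = true := by
  refine ⟨?_, ?_, ?_, ?_⟩ <;> decide +kernel

theorem card_kk : Nat.card ↥MclInv.KK = 898128000 := by
  rw [MclInv.kk_model.2]; decide +kernel

/-- An element of order eleven fixes no point. -/
theorem no_fix_eleven {x : ↥MclInv.KK} (hx : orderOf x = 11) (p : Fin 275) : (x : Perm (Fin 275)) p ≠ p := by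
  classical
  intro hfix
  have hsurj : ∀ q : Fin 275, ∃ g : ↥MclInv.KK, (g : Perm (Fin 275)) (⟨38, by norm_num⟩ : Fin 275) = q := by
    intro q
    obtain ⟨T, hT, e⟩ := List.any_eq_true.1 (List.all_eq_true.1 seven_ok.2.2.2 q (List.mem_range.2 q.2))
    have hne : Mcl.cert.tr ≠ [] := by
      intro e'; rw [e'] at hT; simp at hT
    have hmem : Mcl.cert.tr.headD [] ∈ Mcl.cert.tr := by
      cases h : Mcl.cert.tr with
      | nil => exact absurd h hne
      | cons a l => simp
    obtain ⟨hr, hk⟩ := (Cert.gen_of_check Mcl.gen_check).rep _ hmem T hT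
    exact ⟨⟨_, hk⟩, Fin.ext ((hr _).trans (Nat.eq_of_beq_eq_true e))⟩
  have horb : MulAction.orbit ↥MclInv.KK p = Set.univ := by
    refine Set.eq_univ_of_forall fun q => ?_
    obtain ⟨g, hg⟩ := hsurj q
    obtain ⟨h, hh⟩ := hsurj p
    refine ⟨g * h⁻¹, ?_⟩
    show ((g * h⁻¹ : ↥MclInv.KK) : Perm (Fin 275)) p = q
    rw [Subgroup.coe_mul, Subgroup.coe_inv, Perm.mul_apply, ← hh]
    show (g : Perm (Fin 275)) ((h : Perm (Fin 275)).symm ((h : Perm (Fin 275)) ⟨38, by norm_num⟩)) = q
    rw [Equiv.symm_apply_apply, hg]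
  have hidx : (MulAction.stabilizer ↥MclInv.KK p).index = 275 := by
    rw [MulAction.index_stabilizer, horb, Set.ncard_univ, Nat.card_fin]
  have h := (MulAction.stabilizer ↥MclInv.KK p).card_mul_index
  rw [hidx, card_kk] at h
  have hd := Subgroup.orderOf_dvd_natCard (MulAction.stabilizer ↥MclInv.KK p) (x := x)
    (MulAction.mem_stabilizer_iff.2 hfix)
  rw [hx, show Nat.card (MulAction.stabilizer ↥MclInv.KK p) = 3265920 by omega] at hd
  norm_num at hd

/-- No elements of orders seven and eleven commute in the model. -/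
theorem no_seven_eleven {y x : ↥MclInv.KK} (hy : orderOf y = 7) (hx : orderOf x = 11)
    (hc : y * x = x * y) : False := by
  classical
  haveI : Fact (Nat.Prime 7) := ⟨by norm_num⟩
  obtain ⟨h7, h1, hfix, -⟩ := seven_ok
  obtain ⟨ra, -, -⟩ := piL_rep (k := 0) (by norm_num)
  let a : ↥MclInv.KK := ⟨piL 0, MclInv.cent_le.1 (piL_mem (by norm_num))⟩
  have ha : orderOf a = 7 := by
    refine orderOf_eq_prime (Subtype.ext ?_) fun e => ?_
    · have := wval_eq_one (w := [0, 0, 0, 0, 0, 0, 0]) (by decide) h7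
      rw [SubmonoidClass.coe_pow]
      show piL 0 ^ 7 = 1
      rw [← this]
      simp [J3Type.wval, J3Type.lval, J3Type.idL, pow_succ, mul_assoc]
    · have e' : piL 0 = 1 := congrArg Subtype.val e
      have : sameB 9 275 [mTab.getD 0 0] [] = true := sameB_iff.2 fun p hp => by
        have hr := ra ⟨p, hp⟩
        rw [e'] at hr
        have hr' : ent 9 (mTab.getD 0 0) p = p := hr.symm
        rw [ev_cons, show ev 9 [] p = p from rfl, hr']
        exact Nat.beq_refl _
      rw [h1] at this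
      exact Bool.noConfusion this
  have hfac : (898128000 : ℕ).factorization 7 = 1 := by
    rw [show (898128000 : ℕ) = 7 * 128304000 by norm_num, Nat.factorization_mul (by norm_num) (by norm_num),
      Finsupp.add_apply, Nat.Prime.factorization_self (by norm_num),
      Nat.factorization_eq_zero_of_not_dvd (by norm_num : ¬ 7 ∣ 128304000)]
  let P : Sylow 7 ↥MclInv.KK := Sylow.ofCard (zpowers a) (by rw [Nat.card_zpowers, ha, card_kk, hfac, pow_one])
  let Q : Sylow 7 ↥MclInv.KK := Sylow.ofCard (zpowers y) (by rw [Nat.card_zpowers, hy, card_kk, hfac, pow_one])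
  obtain ⟨g, hg⟩ := MulAction.exists_smul_eq ↥MclInv.KK Q P
  have hy' : g * y * g⁻¹ ∈ zpowers a := by
    have hm : g * y * g⁻¹ ∈ ((g • Q : Sylow 7 ↥MclInv.KK) : Subgroup ↥MclInv.KK) :=
      ⟨y, mem_zpowers y, rfl⟩
    rw [hg] at hm
    exact hm
  set x' := g * x * g⁻¹ with hx'
  have hcx : Commute (g * y * g⁻¹) x' := by
    show _ = _
    rw [hx']
    calc g * y * g⁻¹ * (g * x * g⁻¹) = g * (y * x) * g⁻¹ := by group
      _ = _ := by rw [hc]; group
  have hxo : orderOf x' = 11 := by
    rw [hx', ← hx]; exact (MulEquiv.orderOf_eq (MulAut.conj g) x)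
  have ha' : a ∈ zpowers (g * y * g⁻¹) := by
    have hy7 : orderOf (g * y * g⁻¹) = 7 := by rw [← hy]; exact (MulEquiv.orderOf_eq (MulAut.conj g) y)
    rw [Subgroup.eq_of_le_of_card_ge (zpowers_le.2 hy') (by rw [Nat.card_zpowers, Nat.card_zpowers, ha, hy7])]
    exact mem_zpowers a
  obtain ⟨j, hj⟩ := mem_zpowers_iff.1 ha'
  have hca : Commute a x' := hj ▸ hcx.zpow_left j
  have hperm : ∀ p : Fin 275, piL 0 p = p → piL 0 ((x' : Perm (Fin 275)) p) = (x' : Perm (Fin 275)) p :=
    fun p hp => by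
      have e : piL 0 * (x' : Perm (Fin 275)) = (x' : Perm (Fin 275)) * piL 0 := congrArg Subtype.val hca.eq
      rw [← Perm.mul_apply, e, Perm.mul_apply, hp]
  have hmem : ∀ p : Fin 275, piL 0 p = p → (p : ℕ) = 107 ∨ (p : ℕ) = 231 := by
    intro p hp
    have hr := ra p
    rw [hp] at hr
    have : (p : ℕ) ∈ (List.range 275).filter fun q => Nat.beq (ent 9 (mTab.getD 0 0) q) q :=
      List.mem_filter.2 ⟨List.mem_range.2 p.2, by rw [← hr]; exact Nat.beq_refl _⟩
    rw [hfix] at this
    simpa using this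
  have h107 : piL 0 ⟨107, by norm_num⟩ = ⟨107, by norm_num⟩ := by
    have hm : (107 : ℕ) ∈ (List.range 275).filter fun q => Nat.beq (ent 9 (mTab.getD 0 0) q) q := by
      rw [hfix]; simp
    exact Fin.ext ((ra _).trans (Nat.eq_of_beq_eq_true (List.mem_filter.1 hm).2))
  set p : Fin 275 := ⟨107, by norm_num⟩
  have p1 := hmem _ (hperm p h107)
  rcases p1 with e1 | e1
  · exact no_fix_eleven hxo p (Fin.ext e1)
  have p2 := hmem _ (hperm _ (hperm p h107))
  rcases p2 with e2 | e2
  · have hx2 : orderOf (x' ^ 2) = 11 := by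
      rw [orderOf_pow, hxo]; rfl
    refine no_fix_eleven hx2 p ?_
    rw [SubmonoidClass.coe_pow, pow_two, Perm.mul_apply]
    exact Fin.ext e2
  · exact no_fix_eleven hxo ((x' : Perm (Fin 275)) p) (Fin.ext (e2.trans e1.symm))

end Cfsg.Lib.MclType
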