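import Cfsg.Agent.Lib.PresSymAlt.Carmichael
import Cfsg.Prelude.Def_SporadicB

/-!
# Two nonsplit double covers of the alternating group of degree eight are isomorphic

The lifts of odd order of Carmichael's three-cycles satisfy the relations of the group up to the central
involution, and the involution is the same for every pair of them.
-/

set_option autoImplicit false
set_option linter.unusedSectionVars false
set_option linter.style.haveILetI false

namespace Cfsg.Lib.MclType

open Equiv Subgroup Cfsg.Lib.PresSymAlt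

/-- Eight points. -/
abbrev AEight : Subgroup (Perm (Fin 6 ⊕ Bool)) := alternatingGroup (Fin 6 ⊕ Bool)

/-- A three-cycle. -/
def tA (j : Fin 6) : AEight := ⟨tri j, tri_mem j⟩

theorem two_others : ∀ j k l : Fin 6, ∃ m n : Fin 6,
    m ≠ n ∧ m ≠ j ∧ m ≠ k ∧ m ≠ l ∧ n ≠ j ∧ n ≠ k ∧ n ≠ l := by decide

theorem conj_tri (τ : Perm (Fin 6)) (i : Fin 6) :
    Equiv.sumCongr τ (1 : Perm Bool) * tri i * (Equiv.sumCongr τ (1 : Perm Bool))⁻¹ = tri (τ i) := by
  rw [mul_inv_eq_iff_eq_mul]
  refine Equiv.ext fun z => ?_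
  rcases z with a | b
  · simp only [Perm.mul_apply, tri_apply]
    by_cases h : a = i
    · subst h; simp
    · simp [h, τ.injective.eq_iff]
  · cases b <;> simp [Perm.mul_apply, tri_apply]

theorem exists_move (j k l : Fin 6) (hjk : j ≠ k) (hjl : j ≠ l) :
    ∃ σ : AEight, σ * tA j * σ⁻¹ = tA j ∧ σ * tA k * σ⁻¹ = tA l := by
  by_cases hkl : k = l
  · exact ⟨1, by simp, by simp [hkl]⟩
  obtain ⟨m, n, hmn, hmj, hmk, hml, hnj, hnk, hnl⟩ := two_others j k l
  set τ : Perm (Fin 6) := swap k l * swap m n with hτ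
  have hs : Equiv.sumCongr τ (1 : Perm Bool) ∈ AEight := by
    rw [Perm.mem_alternatingGroup, Perm.sign_sumCongr, hτ, map_mul, Perm.sign_swap hkl, Perm.sign_swap hmn,
      map_one]
    rfl
  have hj : τ j = j := by
    rw [hτ, Perm.mul_apply, swap_apply_of_ne_of_ne hmj.symm hnj.symm, swap_apply_of_ne_of_ne hjk hjl]
  have hk : τ k = l := by
    rw [hτ, Perm.mul_apply, swap_apply_of_ne_of_ne hmk.symm hnk.symm, swap_apply_left]
  refine ⟨⟨_, hs⟩, Subtype.ext ?_, Subtype.ext ?_⟩
  · show Equiv.sumCongr τ 1 * tri j * (Equiv.sumCongr τ 1)⁻¹ = tri j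
    rw [conj_tri, hj]
  · show Equiv.sumCongr τ 1 * tri k * (Equiv.sumCongr τ 1)⁻¹ = tri l
    rw [conj_tri, hk]

theorem closure_tA : closure (Set.range tA) = ⊤ := by
  refine Subgroup.map_injective AEight.subtype_injective ?_
  rw [MonoidHom.map_closure, ← Set.range_comp, ← MonoidHom.range_eq_map, Subgroup.range_subtype]
  exact closure_tri

theorem card_AEight : Nat.card AEight = 20160 := by
  haveI : Nontrivial (Fin 6 ⊕ Bool) := ⟨⟨.inr false, .inr true, by simp⟩⟩
  have h := two_mul_nat_card_alternatingGroup (α := Fin 6 ⊕ Bool)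
  rw [Nat.card_perm, Nat.card_sum] at h
  simp only [Nat.card_fin, Nat.card_eq_fintype_card (α := Bool), Fintype.card_bool] at h
  rw [show ((6 : ℕ) + 2).factorial = 40320 from rfl] at h
  show Nat.card (alternatingGroup (Fin 6 ⊕ Bool)) = _
  omega

/-- The lifts in a double cover. -/
structure Lifts (H : Type*) [Group H] where
  /-- the central involution -/
  s : H
  /-- the lifts -/
  X : Fin 6 → H
  hs : s ≠ 1
  sq : s * s = 1
  comm : ∀ h, h * s = s * h
  cube : ∀ j, X j ^ 3 = 1
  pair : ∀ j k, j ≠ k → (X j * X k) ^ 2 = s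
  gen : closure (Set.range X) = ⊤
  card : Nat.card H = 40320

/-- The eight points. -/
def pt8 : Fin 6 ⊕ Bool ≃ Fin 8 where
  toFun x := Sum.elim (fun i : Fin 6 => (⟨i, by omega⟩ : Fin 8)) (fun b : Bool => if b then 7 else 6) x
  invFun k := if h : (k : ℕ) < 6 then .inl ⟨k, h⟩ else .inr (decide ((k : ℕ) = 7))
  left_inv := by decide
  right_inv := by decide

theorem nonempty_lifts {H : Type*} [Group H] (hH : IsNonsplitDoubleCover H (alternatingGroup (Fin 8))) :
    Nonempty (Lifts H) := by
  classical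
  obtain ⟨hz, ⟨q⟩, hns⟩ := hH
  let p : H →* AEight :=
    (q.trans pt8.altCongrHom.symm).toMonoidHom.comp (QuotientGroup.mk' (center H))
  have hp : Function.Surjective p :=
    (q.trans pt8.altCongrHom.symm).surjective.comp (QuotientGroup.mk'_surjective _)
  have hker : ∀ x, p x = 1 ↔ x ∈ center H := fun x => by
    simp only [p, MonoidHom.coe_comp, MulEquiv.coe_toMonoidHom, Function.comp_apply, MulEquiv.map_eq_one_iff]
    exact QuotientGroup.eq_one_iff x
  have hq2 : ∀ z ∈ center H, z * z = 1 := fun z hz' => by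
    have h := pow_card_eq_one' (x := (⟨z, hz'⟩ : center H))
    rw [hz, pow_two] at h
    exact congrArg Subtype.val h
  obtain ⟨⟨s, hsc⟩, hs1⟩ : ∃ z : center H, z ≠ 1 := by
    haveI : Finite (center H) := Nat.finite_of_card_ne_zero (by rw [hz]; norm_num)
    haveI : Nontrivial (center H) := Finite.one_lt_card_iff_nontrivial.1 (by rw [hz]; norm_num)
    exact exists_ne 1
  have hs : s ≠ 1 := fun e => hs1 (Subtype.ext e)
  have htwo : ∀ z ∈ center H, z = 1 ∨ z = s := fun z hz' => by
    haveI : Finite (center H) := Nat.finite_of_card_ne_zero (by rw [hz]; norm_num)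
    obtain ⟨a, b, hab, hset⟩ := Nat.card_eq_two_iff.1 hz
    have hm : ∀ x : center H, x = a ∨ x = b := fun x => by
      have hx : x ∈ ({a, b} : Set (center H)) := hset ▸ Set.mem_univ x
      simpa using hx
    rcases hm ⟨z, hz'⟩ with h1 | h1 <;> rcases hm ⟨s, hsc⟩ with h2 | h2 <;> rcases hm 1 with h3 | h3
    all_goals first
      | exact absurd (congrArg Subtype.val (h2.trans h3.symm)) hs
      | exact Or.inl (congrArg Subtype.val (h1.trans h3.symm))
      | exact Or.inr (congrArg Subtype.val (h1.trans h2.symm))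
  have hc : ∀ h, h * s = s * h := fun h => Subgroup.mem_center_iff.1 hsc h
  choose u hu using fun j => hp (tA j)
  have ht3 : ∀ j, tA j ^ 3 = 1 := fun j => Subtype.ext (by
    rw [SubmonoidClass.coe_pow]; exact tri_carRel.cube j)
  have hu3 : ∀ j, u j ^ 3 ∈ center H := fun j => (hker _).1 (by rw [map_pow, hu, ht3])
  let X : Fin 6 → H := fun j => u j ^ 4
  have hX : ∀ j, p (X j) = tA j := fun j => by
    simp only [X]; rw [map_pow, hu, pow_succ, ht3, one_mul]
  have hcube : ∀ j, X j ^ 3 = 1 := fun j => by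
    simp only [X]
    rw [← pow_mul, show 4 * 3 = 3 * 2 * 2 by norm_num, pow_mul, pow_mul, pow_two (u j ^ 3), hq2 _ (hu3 j),
      one_pow]
  have huniq : ∀ j y, y ^ 3 = 1 → p y = tA j → y = X j := fun j y hy hpy => by
    have hzc : (X j)⁻¹ * y ∈ center H := (hker _).1 (by rw [map_mul, map_inv, hX, hpy, inv_mul_cancel])
    set z := (X j)⁻¹ * y with hz'
    have hy' : y = X j * z := by rw [hz', mul_inv_cancel_left]
    have hcm : Commute (X j) z := Subgroup.mem_center_iff.1 hzc (X j)
    have h3 : z ^ 3 = 1 := by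
      rw [hy', hcm.mul_pow, hcube, one_mul] at hy
      exact hy
    have : z = 1 := by
      rw [pow_succ, pow_two, hq2 _ hzc, one_mul] at h3
      exact h3
    rw [hy', this, mul_one]
  let S : Fin 6 → Fin 6 → H := fun j k => (X j * X k) ^ 2
  have hSc : ∀ j k, j ≠ k → S j k ∈ center H := fun j k h => (hker _).1 (by
    simp only [S]; rw [map_pow, map_mul, hX, hX]
    exact Subtype.ext (by rw [SubmonoidClass.coe_pow]; exact tri_carRel.pair j k h))
  have hconj : ∀ (g : H) z, z ∈ center H → g * z * g⁻¹ = z := fun g z hz' => by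
    rw [Subgroup.mem_center_iff.1 hz' g, mul_inv_cancel_right]
  have hstep : ∀ j k l, j ≠ k → j ≠ l → S j k = S j l := fun j k l hjk hjl => by
    obtain ⟨σ, hσj, hσk⟩ := exists_move j k l hjk hjl
    obtain ⟨g, hg⟩ := hp σ
    have hmv : ∀ a b, σ * tA a * σ⁻¹ = tA b → g * X a * g⁻¹ = X b := fun a b h =>
      huniq b _ (by rw [conj_pow, hcube, mul_one, mul_inv_cancel]) (by
        rw [map_mul, map_mul, map_inv, hg, hX, h])
    show (X j * X k) ^ 2 = (X j * X l) ^ 2
    calc (X j * X k) ^ 2 = g * (X j * X k) ^ 2 * g⁻¹ := (hconj g _ (hSc j k hjk)).symm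
      _ = ((g * X j * g⁻¹) * (g * X k * g⁻¹)) ^ 2 := by rw [conj_mul, conj_pow]
      _ = _ := by rw [hmv j j hσj, hmv k l hσk]
  have hsym : ∀ j k, j ≠ k → S j k = S k j := fun j k hjk => by
    have h := hconj (X k) _ (hSc j k hjk)
    simp only [S] at h ⊢
    rw [← h, ← conj_pow]
    congr 1
    group
  have hall : ∀ j k, j ≠ k → S j k = S 0 1 := fun j k hjk => by
    by_cases hj : j = 0
    · subst hj; exact hstep 0 k 1 hjk (by decide)
    rw [hstep j k 0 hjk hj, hsym j 0 hj]
    exact hstep 0 j 1 (Ne.symm hj) (by decide)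
  have hcardH : Nat.card H = 40320 := by
    rw [Subgroup.card_eq_card_quotient_mul_card_subgroup (center H), hz,
      Nat.card_congr (q.trans pt8.altCongrHom.symm).toEquiv, card_AEight]
  have hgen0 : (closure (Set.range X)).map p = ⊤ := by
    rw [MonoidHom.map_closure, ← Set.range_comp, show p ∘ X = tA from funext hX]
    exact closure_tA
  rcases htwo _ (hSc 0 1 (by decide)) with h01 | h01
  · exfalso
    haveI : Nonempty (Fin 6) := ⟨0⟩
    obtain ⟨φ, hφ, -⟩ := carmichael (y := X) ⟨hcube, fun j k hjk => (hall j k hjk).trans h01⟩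
    have hid : p.comp φ = MonoidHom.id AEight := hom_ext_tri fun i => by
      rw [MonoidHom.comp_apply, hφ, hX]; rfl
    refine hns φ.range (Subgroup.isComplement'_of_disjoint_and_mul_eq_univ ?_ ?_)
    · rw [disjoint_iff, eq_bot_iff]
      rintro x ⟨hx, a, rfl⟩
      have := (hker _).2 hx
      rw [← MonoidHom.comp_apply, hid] at this
      simp only [MonoidHom.id_apply] at this
      simp [this]
    · refine Set.eq_univ_of_forall fun x => ?_
      refine ⟨x * (φ (p x))⁻¹, (hker _).1 ?_, φ (p x), ⟨_, rfl⟩, by simp⟩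
      rw [map_mul, map_inv, ← MonoidHom.comp_apply p φ, hid]
      simp
  refine ⟨⟨s, X, hs, hq2 s hsc, hc, hcube, fun j k hjk => (hall j k hjk).trans h01, ?_, hcardH⟩⟩
  refine eq_top_iff.2 fun x _ => ?_
  obtain ⟨y, hy, hxy⟩ : p x ∈ (closure (Set.range X)).map p := hgen0 ▸ mem_top _
  have hzc : x * y⁻¹ ∈ center H := (hker _).1 (by rw [map_mul, map_inv, hxy, mul_inv_cancel])
  have hsmem : s ∈ closure (Set.range X) := by
    rw [← h01]
    exact pow_mem (mul_mem (subset_closure (Set.mem_range_self 0)) (subset_closure (Set.mem_range_self 1))) 2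
  have : x * y⁻¹ ∈ closure (Set.range X) := by
    rcases htwo _ hzc with h | h <;> rw [h]
    exacts [one_mem _, hsmem]
  simpa using mul_mem this hy

/-- The pairs of lifts generate the graph of an isomorphism. -/
theorem Lifts.iso {H K : Type*} [Group H] [Group K] (L : Lifts H) (M : Lifts K) : Nonempty (H ≃* K) := by
  classical
  haveI : Finite H := Nat.finite_of_card_ne_zero (by rw [L.card]; norm_num)
  haveI : Finite K := Nat.finite_of_card_ne_zero (by rw [M.card]; norm_num)
  let z : Fin 6 → H × K := fun j => (L.X j, M.X j)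
  set Q := closure (Set.range z) with hQ
  let w : H × K := (L.s, M.s)
  have hwc : w ∈ center (H × K) :=
    Subgroup.mem_center_iff.2 fun x => Prod.ext (L.comm x.1) (M.comm x.2)
  set W := zpowers w
  haveI : W.Normal := ⟨fun n hn g => by
    rwa [Subgroup.mem_center_iff.1 (zpowers_le.2 hwc hn) g, mul_inv_cancel_right]⟩
  have hw2 : w * w = 1 := Prod.ext L.sq M.sq
  have hWcard : Nat.card W ≤ 2 := by
    rw [Nat.card_zpowers]
    exact Nat.le_of_dvd (by norm_num) (orderOf_dvd_of_pow_eq_one (by rw [pow_two, hw2]))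
  let y : Fin 6 → (H × K) ⧸ W := fun j => QuotientGroup.mk' W (z j)
  have hy : CarRel y := by
    refine ⟨fun j => ?_, fun j k hjk => ?_⟩
    · simp only [y]
      rw [← map_pow, show z j ^ 3 = 1 from Prod.ext (L.cube j) (M.cube j), map_one]
    · simp only [y]
      rw [← map_mul, ← map_pow, show (z j * z k) ^ 2 = w from Prod.ext (L.pair j k hjk) (M.pair j k hjk)]
      exact (QuotientGroup.eq_one_iff _).2 (mem_zpowers _)
  haveI : Nonempty (Fin 6) := ⟨0⟩
  obtain ⟨φ, hφ, -⟩ := carmichael hy
  have hQle : Q ≤ φ.range.comap (QuotientGroup.mk' W) :=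
    (closure_le _).2 (by rintro _ ⟨j, rfl⟩; exact ⟨_, hφ j⟩)
  have hcardQ : Nat.card Q ≤ 40320 := by
    refine (Nat.le_of_dvd Nat.card_pos (Subgroup.card_dvd_of_le hQle)).trans ?_
    have hkr : W ≤ φ.range.comap (QuotientGroup.mk' W) := fun x hx => by
      rw [Subgroup.mem_comap, QuotientGroup.mk'_apply, (QuotientGroup.eq_one_iff x).2 hx]; exact one_mem _
    have h1 : Nat.card φ.range ≤ 20160 :=
      card_AEight ▸ Nat.card_le_card_of_surjective _ φ.rangeRestrict_surjective
    let r : ↥(φ.range.comap (QuotientGroup.mk' W)) →* φ.range :=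
      ((QuotientGroup.mk' W).comp (φ.range.comap (QuotientGroup.mk' W)).subtype).codRestrict _ fun x => x.2
    have hk : Nat.card r.ker ≤ Nat.card W :=
      Nat.card_le_card_of_injective (fun x => (⟨x.1.1, (QuotientGroup.eq_one_iff _).1
        (congrArg Subtype.val (MonoidHom.mem_ker.1 x.2))⟩ : W)) fun a b e =>
        Subtype.ext (Subtype.ext (by simpa using congrArg Subtype.val e))
    have h2 := r.ker.card_mul_index
    rw [Subgroup.index_ker] at h2
    have h3 : Nat.card r.range ≤ 20160 :=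
      (Nat.le_of_dvd Nat.card_pos r.range.card_subgroup_dvd_card).trans h1
    rw [← h2]
    exact (Nat.mul_le_mul (hk.trans hWcard) h3).trans (by norm_num)
  let f₁ : Q →* H := (MonoidHom.fst H K).comp Q.subtype
  let f₂ : Q →* K := (MonoidHom.snd H K).comp Q.subtype
  have s₁ : Function.Surjective f₁ := by
    rw [← MonoidHom.range_eq_top, eq_top_iff, ← L.gen, closure_le]
    rintro _ ⟨j, rfl⟩
    exact ⟨⟨z j, subset_closure ⟨j, rfl⟩⟩, rfl⟩
  have s₂ : Function.Surjective f₂ := by
    rw [← MonoidHom.range_eq_top, eq_top_iff, ← M.gen, closure_le]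
    rintro _ ⟨j, rfl⟩
    exact ⟨⟨z j, subset_closure ⟨j, rfl⟩⟩, rfl⟩
  have b₁ : Function.Bijective f₁ := (Nat.bijective_iff_surjective_and_card f₁).2
    ⟨s₁, le_antisymm (by rw [L.card]; exact hcardQ) (Nat.card_le_card_of_surjective f₁ s₁)⟩
  have b₂ : Function.Bijective f₂ := (Nat.bijective_iff_surjective_and_card f₂).2
    ⟨s₂, le_antisymm (by rw [M.card]; exact hcardQ) (Nat.card_le_card_of_surjective f₂ s₂)⟩
  exact ⟨(MulEquiv.ofBijective f₁ b₁).symm.trans (MulEquiv.ofBijective f₂ b₂)⟩

/-- Any two nonsplit double covers of the alternating group of degree eight are isomorphic. -/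
theorem cover_iso {H K : Type*} [Group H] [Group K] (hH : IsNonsplitDoubleCover H (alternatingGroup (Fin 8)))
    (hK : IsNonsplitDoubleCover K (alternatingGroup (Fin 8))) : Nonempty (H ≃* K) := by
  obtain ⟨L⟩ := nonempty_lifts hH
  obtain ⟨M⟩ := nonempty_lifts hK
  exact L.iso M

end Cfsg.Lib.MclType
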