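import Cfsg.Agent.Lib.MclType.Class
import Cfsg.Agent.Lib.MclType.Auto
import Cfsg.Agent.Lib.MclType.Iso
import Cfsg.Agent.Lib.Invol.Isolated
import Cfsg.Agent.Lib.ZStar.Main

/-!
# An involution swapping two commuting involutions of one class
-/

set_option autoImplicit false
set_option maxRecDepth 100000
set_option linter.style.haveILetI false

namespace Cfsg.Lib.MclType

open Equiv Cfsg.Lib.PermAut Cfsg.Lib.J3Type Subgroup

/-- The centralizer in the model is a double cover. -/
theorem cm_double_cover : IsNonsplitDoubleCover Cm (alternatingGroup (Fin 8)) :=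
  MclInv.double_cover_congr
    { toFun := fun g => ⟨g.1.1, (MclInv.centralizer_eq g.1).1 g.2⟩
      invFun := fun h => ⟨⟨h.1, MclInv.cent_le.1 h.2⟩, (MclInv.centralizer_eq _).2 h.2⟩
      left_inv := fun _ => rfl
      right_inv := fun _ => rfl
      map_mul' := fun _ _ => rfl } MclInv.double_cover

/-- The involution in the centralizer of the model. -/
noncomputable def tC : Cm := ⟨MclInv.tP, MclInv.cent_le.2.2.1⟩

variable {G : Type*} [Group G] {t : G}

open scoped Classical in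
/-- An isomorphism from the centralizer in the model, extended to all permutations. -/
noncomputable def ext' (ψ : Cm ≃* centralizer ({t} : Set G)) (g : P275) : G :=
  if h : g ∈ Cm then (ψ ⟨g, h⟩ : G) else 1

/-- The element with the given number, in the group. -/
noncomputable def dG (ψ : Cm ≃* centralizer ({t} : Set G)) (x : ℕ) : G := ext' ψ (dP x)

section Map

variable (ψ : Cm ≃* centralizer ({t} : Set G))

theorem ext_coe (g : Cm) : ext' ψ (g : P275) = ψ g := by rw [ext', dif_pos g.2]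

theorem ext_mul {g h : P275} (hg : g ∈ Cm) (hh : h ∈ Cm) : ext' ψ (g * h) = ext' ψ g * ext' ψ h := by
  rw [show g * h = ((⟨g, hg⟩ * ⟨h, hh⟩ : Cm) : P275) from rfl, ext_coe, map_mul, Subgroup.coe_mul,
    ← ext_coe ψ ⟨g, hg⟩, ← ext_coe ψ ⟨h, hh⟩]

theorem ext_one : ext' ψ 1 = 1 := by
  rw [show (1 : P275) = ((1 : Cm) : P275) from rfl, ext_coe, map_one, Subgroup.coe_one]

theorem ext_inv {g : P275} (hg : g ∈ Cm) : ext' ψ g⁻¹ = (ext' ψ g)⁻¹ := by
  rw [eq_inv_iff_mul_eq_one, ← ext_mul ψ (inv_mem hg) hg, inv_mul_cancel, ext_one]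

theorem ext_mem {g : P275} (hg : g ∈ Cm) : ext' ψ g ∈ centralizer ({t} : Set G) := by
  rw [ext', dif_pos hg]; exact (ψ ⟨g, hg⟩).2

theorem ext_inj {g h : P275} (hg : g ∈ Cm) (hh : h ∈ Cm) (e : ext' ψ g = ext' ψ h) : g = h := by
  rw [ext', ext', dif_pos hg, dif_pos hh] at e
  exact congrArg Subtype.val (ψ.injective (Subtype.ext e))

theorem ext_surj {x : G} (hx : x ∈ centralizer ({t} : Set G)) : ∃ g ∈ Cm, ext' ψ g = x :=
  ⟨_, (ψ.symm ⟨x, hx⟩).2, by rw [ext_coe, MulEquiv.apply_symm_apply]⟩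

theorem dG_mem {x : ℕ} (hx : x < 192) : dG ψ x ∈ centralizer ({t} : Set G) := ext_mem ψ (dP_rep hx).2.1

theorem dG_mul {x y : ℕ} (hx : x < 192) (hy : y < 192) : dG ψ (dMul x y) = dG ψ x * dG ψ y := by
  rw [dG, (dP_mul hx hy).2, ext_mul ψ (dP_rep hx).2.1 (dP_rep hy).2.1]; rfl

theorem dG_one : dG ψ dE = 1 := by rw [dG, dP_E, ext_one]

theorem dG_inv {x : ℕ} (hx : x < 192) : dG ψ (dIv x) = (dG ψ x)⁻¹ := by
  rw [dG, (dP_rep hx).2.2.2, ext_inv ψ (dP_rep hx).2.1]; rfl

theorem dG_inj {x y : ℕ} (hx : x < 192) (hy : y < 192) (e : dG ψ x = dG ψ y) : x = y :=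
  dP_inj hx hy (ext_inj ψ (dP_rep hx).2.1 (dP_rep hy).2.1 e)

/-- An element centralizing both involutions has a number. -/
theorem dG_surj {x : G} (hx : x ∈ centralizer ({t} : Set G)) (hv : x * dG ψ dV = dG ψ dV * x) :
    ∃ n < 192, dG ψ n = x := by
  obtain ⟨g, hg, rfl⟩ := ext_surj ψ hx
  have hvC := (dP_rep (x := dV) (by decide)).2.1
  obtain ⟨n, hn, rfl⟩ := mem_D hg (ext_inj ψ (mul_mem hg hvC) (mul_mem hvC hg) (by
    rw [ext_mul ψ hg hvC, ext_mul ψ hvC hg]; exact hv))
  exact ⟨n, hn, rfl⟩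

end Map

/-- The configuration: an isomorphism of the centralizers and an involution inducing the standard
automorphism on the centralizer of two involutions. -/
structure Cfg (t : G) (ψ : Cm ≃* centralizer ({t} : Set G)) (i : G) : Prop where
  psiT : ext' ψ MclInv.tP = t
  sq : i * i = 1
  act : ∀ x < 192, i * dG ψ x * i = dG ψ (dAl x)

theorem exists_psi (hcov : IsNonsplitDoubleCover (centralizer ({t} : Set G)) (alternatingGroup (Fin 8)))
    (ht : orderOf t = 2) : ∃ ψ : Cm ≃* centralizer ({t} : Set G), ext' ψ MclInv.tP = t := by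
  obtain ⟨ψ⟩ := cover_iso cm_double_cover hcov
  refine ⟨ψ, ?_⟩
  rw [show MclInv.tP = ((tC : Cm) : P275) from rfl, ext_coe]
  obtain ⟨hz, -, -⟩ := hcov
  haveI : Finite (center ↥(centralizer ({t} : Set G))) := Nat.finite_of_card_ne_zero (by rw [hz]; norm_num)
  let t1 : centralizer ({t} : Set G) := ⟨t, mem_centralizer_singleton_iff.2 rfl⟩
  have h1 : ψ tC ∈ center ↥(centralizer ({t} : Set G)) := mem_center_iff.2 fun g => by
    obtain ⟨a, rfl⟩ := ψ.surjective g
    rw [← map_mul, ← map_mul]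
    exact congrArg ψ (Subtype.ext (MclInv.cent_le.2.2.2.2 _ a.2))
  have h2 : t1 ∈ center ↥(centralizer ({t} : Set G)) :=
    mem_center_iff.2 fun g => Subtype.ext (mem_centralizer_singleton_iff.1 g.2)
  have n1 : ψ tC ≠ 1 := fun e => MclInv.t_facts.2.1
    (congrArg Subtype.val (ψ.injective (e.trans ψ.map_one.symm)))
  have n2 : t1 ≠ 1 := fun e => by
    rw [show t = 1 from congrArg Subtype.val e, orderOf_one] at ht
    norm_num at ht
  obtain ⟨a, b, hab, hset⟩ := Nat.card_eq_two_iff.1 hz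
  have hm : ∀ x : center ↥(centralizer ({t} : Set G)), x = a ∨ x = b := fun x => by
    have hx : x ∈ ({a, b} : Set _) := hset ▸ Set.mem_univ x
    simpa using hx
  have key : (⟨ψ tC, h1⟩ : center ↥(centralizer ({t} : Set G))) = ⟨t1, h2⟩ := by
    rcases hm ⟨ψ tC, h1⟩ with e1 | e1 <;> rcases hm ⟨t1, h2⟩ with e2 | e2 <;> rcases hm 1 with e3 | e3
    all_goals first
      | exact e1.trans e2.symm
      | exact absurd (congrArg Subtype.val (e1.trans e3.symm)) n1
      | exact absurd (congrArg Subtype.val (e2.trans e3.symm)) n2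
  exact congrArg (fun z : center ↥(centralizer ({t} : Set G)) => ((z.1 : centralizer ({t} : Set G)) : G)) key

/-- An isolated involution gives a factorization. -/
theorem factor_of_isolated [Finite G] (h : IsIsolatedInvolution t) :
    centralizer ({t} : Set G) ⊔ oddCore G = ⊤ := by
  refine eq_top_iff.2 fun g _ => ?_
  obtain ⟨k, ⟨⟨hk, hk'⟩, hkc⟩, -⟩ := Invol.isolated_coset_unique h g
  have hkN : k ∈ oddCore G := by
    have hh := ZStar.zStarHolds G t h k
    rw [hk', show k⁻¹ * k⁻¹ = (k ^ 2)⁻¹ by rw [pow_two, mul_inv_rev]] at hh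
    obtain ⟨m, hm⟩ := exists_pow_eq_self_of_coprime (n := 2) (x := k) hk.coprime_two_left
    rw [← hm]
    exact pow_mem (inv_mem_iff.mp hh) m
  rw [show g = k * (g⁻¹ * k)⁻¹ by group]
  exact mul_mem (mem_sup_right hkN) (mem_sup_left (inv_mem hkc))

theorem all_lt {n m : ℕ} (hnm : n ≤ m) {w : List ℕ} (h : (w.all fun l => Nat.blt l n) = true) :
    (w.all fun l => Nat.blt l m) = true := by
  simp only [List.all_eq_true, Nat.blt, Nat.ble_eq] at h ⊢
  exact fun x hx => le_trans (h x hx) hnm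

theorem memB_iff {x : ℕ} {l : List ℕ} : memB x l = true ↔ x ∈ l := by
  simp [memB, Nat.beq_eq]

theorem jWord_ok : (jWord.all fun l => Nat.blt l 4) = true ∧
    sameB 9 275 (MclInv.invT :: tabW jWord) (tabW jWord ++ [MclInv.invT]) = true ∧
    sameB 9 275 (tabW jWord ++ [dTab.getD (dMul dT dV) 0]) (dTab.getD dV 0 :: tabW jWord) = true ∧
    ((List.range 32).all fun k =>
      Nat.blt (jAct.getD k 0) 192 &&
      sameB 9 275 (tabW jWord ++ [dTab.getD (jAct.getD k 0) 0])
        (dTab.getD ((dEA ++ dEB).getD k 0) 0 :: tabW jWord)) = true ∧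
    ((List.range 16).all fun k => memB (jAct.getD k 0) dEA && memB (jAct.getD (Nat.add 16 k) 0) dEB) = true ∧
    dEA.length = 16 ∧ dEB.length = 16 ∧ dMul dT dV = dMul dV dT := by decide +kernel

theorem al_mul_ok : ((List.range 192).all fun x => (List.range 3).all fun k =>
    Nat.beq (dAl (dStp x k)) (dMul (dAl x) (dAl (dGen.getD k 0)))) = true := by decide +kernel

theorem al_mul {x y : ℕ} (hx : x < 192) (hy : y < 192) : dAl (dMul x y) = dMul (dAl x) (dAl y) := by
  have hal : ∀ x < 192, dAl x < 192 := fun x hx => by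
    have h := List.all_eq_true.1 al_facts.1 x (List.mem_range.2 hx)
    rw [Bool.and_eq_true] at h
    exact Nat.lt_of_succ_le (Nat.le_of_ble_eq_true h.1)
  have hs : ∀ x < 192, ∀ k < 3, dAl (dStp x k) = dMul (dAl x) (dAl (dGen.getD k 0)) := fun x hx k hk =>
    Nat.eq_of_beq_eq_true
      (List.all_eq_true.1 (List.all_eq_true.1 al_mul_ok x (List.mem_range.2 hx)) k (List.mem_range.2 hk))
  have key : ∀ (w : List ℕ), (∀ k ∈ w, k < 3) → ∀ r < 192, dP (dAl (w.foldl dStp r)) =
      dP (dAl r) * (w.map fun k => dP (dAl (dGen.getD k 0))).prod := by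
    intro w
    induction w with
    | nil => intro _ r _; simp
    | cons k w ih =>
      intro hw r hr
      have hk := hw k (List.mem_cons_self ..)
      rw [List.foldl_cons, ih (fun j hj => hw j (List.mem_cons_of_mem _ hj)) _ (dP_step hr hk).1, hs r hr k hk,
        (dP_mul (hal r hr) (hal _ (dGen_ok.1 k hk))).2, List.map_cons, List.prod_cons, mul_assoc]
  refine dP_inj (hal _ (dP_mul hx hy).1) (dP_mul (hal x hx) (hal y hy)).1 ?_
  have hfold : dMul x y = (dWord.getD y []).foldl dStp x := by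
    have h := List.all_eq_true.1 (allBelowB_iff.1 dMul_ok x hx) y (List.mem_range.2 hy)
    rw [Bool.and_eq_true] at h
    exact Nat.eq_of_beq_eq_true h.2
  have hy' : dP (dAl y) = ((dWord.getD y []).map fun k => dP (dAl (dGen.getD k 0))).prod := by
    have := key (dWord.getD y []) dWord_lt dE (by decide)
    rw [Nat.eq_of_beq_eq_true (List.all_eq_true.1 dGen_ok.2 y (List.mem_range.2 hy)),
      show dAl dE = dE by decide +kernel, dP_E, one_mul] at this
    exact this
  rw [hfold, key _ dWord_lt x hx, (dP_mul (hal x hx) (hal y hy)).2, hy']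

set_option maxHeartbeats 800000 in
/-- Two commuting involutions of the class are swapped by an involution inducing the standard automorphism. -/
theorem exists_cfg [Finite G] (ht : orderOf t = 2) (ψ : Cm ≃* centralizer ({t} : Set G))
    (hψ : ext' ψ MclInv.tP = t) (hni : ¬ IsIsolatedInvolution t) : ∃ i : G, Cfg t ψ i := by
  classical
  have hT : dG ψ dT = t := by rw [dG, dP_T, hψ]
  set v := dG ψ dV with hv
  have lT : dT < 192 := by decide
  have lV : dV < 192 := by decide
  have hC : ∀ {x : G}, x ∈ centralizer ({t} : Set G) → x * t = t * x :=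
    fun hx => mem_centralizer_singleton_iff.1 hx
  have htv : t * v = v * t := (hC (dG_mem ψ lV)).symm
  have htt : t * t = 1 := by rw [← pow_two, ← ht, pow_orderOf_eq_one]
  -- conjugates of `t` in the centralizer
  have key : ∀ x : G, orderOf x = 2 → x * t = t * x → x ≠ t → ∃ c, c * t = t * c ∧ c * x * c⁻¹ = v := by
    intro x hx hxc hxt
    obtain ⟨g, hg, rfl⟩ := ext_surj ψ (mem_centralizer_singleton_iff.2 hxc)
    have hg2 : g * g = 1 := ext_inj ψ (mul_mem hg hg) (one_mem _) (by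
      rw [ext_mul ψ hg hg, ext_one, ← pow_two, ← hx, pow_orderOf_eq_one])
    have hg1 : g ≠ 1 := fun e => by rw [e, ext_one, orderOf_one] at hx; norm_num at hx
    obtain ⟨c, hc, rfl⟩ := inv_class hg hg2 hg1 (fun e => hxt (by rw [e, hψ]))
    refine ⟨(ext' ψ c)⁻¹, hC (inv_mem (ext_mem ψ hc)), ?_⟩
    rw [ext_mul ψ (mul_mem hc (dP_rep lV).2.1) (inv_mem hc), ext_mul ψ hc (dP_rep lV).2.1, ext_inv ψ hc]
    show _ = dG ψ dV
    rw [dG]; group
  have hconj : ∃ a : G, a * t * a⁻¹ = v := by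
    simp only [IsIsolatedInvolution, not_and, not_forall] at hni
    obtain ⟨g, hgc, hgne⟩ := hni ht
    obtain ⟨c, -, hcx⟩ := key _ (by rw [Invol.orderOf_conj_eq, ht]) hgc.eq.symm hgne
    exact ⟨c * g, by rw [← hcx]; group⟩
  obtain ⟨g, hgt, hgv⟩ : ∃ g : G, g * t * g⁻¹ = v ∧ g * v * g⁻¹ = t := by
    obtain ⟨a, ha⟩ := hconj
    have hu2 : orderOf (a⁻¹ * t * a) = 2 := by
      have := Invol.orderOf_conj_eq a⁻¹ t
      rw [inv_inv] at this
      rw [this, ht]
    have huc : a⁻¹ * t * a * t = t * (a⁻¹ * t * a) := by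
      calc a⁻¹ * t * a * t = a⁻¹ * (t * (a * t * a⁻¹)) * a := by group
        _ = a⁻¹ * ((a * t * a⁻¹) * t) * a := by rw [ha, htv]
        _ = _ := by group
    have hne : a⁻¹ * t * a ≠ t := fun e => by
      have h1 : t = v := by
        calc t = a * (a⁻¹ * t * a) * a⁻¹ := by group
          _ = v := by rw [e, ha]
      have := dG_inj ψ lT lV (hT.trans h1)
      exact absurd this (by decide)
    obtain ⟨c, hct, hcu⟩ := key _ hu2 huc hne
    refine ⟨c * a⁻¹, ?_, ?_⟩
    · rw [← hcu]; group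
    · rw [← ha]
      calc c * a⁻¹ * (a * t * a⁻¹) * (c * a⁻¹)⁻¹ = c * t * c⁻¹ := by group
        _ = t := by rw [hct, mul_inv_cancel_right]
  -- conjugation by `g` on the common centralizer
  have himg : ∀ x, x < 192 → ∃ n < 192, dG ψ n = g * dG ψ x * g⁻¹ := by
    intro x hx
    refine dG_surj ψ (mem_centralizer_singleton_iff.2 ?_) ?_
    · have h1 : dG ψ x * v = v * dG ψ x := by
        rw [hv, ← dG_mul ψ hx lV, ← dG_mul ψ lV hx]
        exact congrArg _ (dP_inj (dP_mul hx lV).1 (dP_mul lV hx).1 (by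
          rw [(dP_mul hx lV).2, (dP_mul lV hx).2]; exact dP_comm_V hx))
      calc g * dG ψ x * g⁻¹ * t = g * dG ψ x * g⁻¹ * (g * v * g⁻¹) := by rw [hgv]
        _ = g * (dG ψ x * v) * g⁻¹ := by group
        _ = g * v * g⁻¹ * (g * dG ψ x * g⁻¹) := by rw [h1]; group
        _ = t * (g * dG ψ x * g⁻¹) := by rw [hgv]
    · show g * dG ψ x * g⁻¹ * v = v * (g * dG ψ x * g⁻¹)
      calc g * dG ψ x * g⁻¹ * v = g * dG ψ x * g⁻¹ * (g * t * g⁻¹) := by rw [hgt]
        _ = g * (dG ψ x * t) * g⁻¹ := by group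
        _ = g * t * g⁻¹ * (g * dG ψ x * g⁻¹) := by rw [hC (dG_mem ψ hx)]; group
        _ = v * (g * dG ψ x * g⁻¹) := by rw [hgt]
  choose! s hs hsg using himg
  have H : IsAuto s := by
    refine ⟨hs, fun x hx y hy => ?_, fun x hx y hy e => ?_⟩
    · refine dG_inj ψ (hs _ (dP_mul hx hy).1) (dP_mul (hs x hx) (hs y hy)).1 ?_
      rw [hsg _ (dP_mul hx hy).1, dG_mul ψ (hs x hx) (hs y hy), hsg x hx, hsg y hy, dG_mul ψ hx hy]
      group
    · have := congrArg (dG ψ) e
      rw [hsg x hx, hsg y hy, mul_left_inj, mul_right_inj] at this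
      exact dG_inj ψ hx hy this
  have sT : s dT = dV := dG_inj ψ (hs _ lT) lV (by rw [hsg _ lT, hT, hgt])
  have sV : s dV = dT := dG_inj ψ (hs _ lV) lT (by rw [hsg _ lV, hT, hgv])
  rcases H.classify sT sV with ⟨hAB, hBA⟩ | ⟨q, hq, hin⟩
  · exfalso
    obtain ⟨jw, jt, jv, jact, jmem, lA, lB, jtv⟩ := jWord_ok
    have hok : okW jWord = true := all_lt (by norm_num) jw
    obtain ⟨jr, jval⟩ := tabW_spec hok
    set jp := wval piL jWord with hjp
    have hjC : jp ∈ Cm := wval_mem_Cm (all_lt (by norm_num) jw)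
    set j := (ext' ψ jp)⁻¹ with hj
    have hjm : ext' ψ jp * t = t * ext' ψ jp := hC (ext_mem ψ hjC)
    have mvB : ∀ {a b : ℕ}, a < 192 → b < 192 →
        sameB 9 275 (tabW jWord ++ [dTab.getD b 0]) (dTab.getD a 0 :: tabW jWord) = true →
        j * dG ψ a * j⁻¹ = dG ψ b := by
      intro a b ha hb h
      have e := eq_of_sameB (fun T hT' => (List.mem_append.1 hT').elim (jr T) (fun h' => by
          rw [List.mem_singleton.1 h']; exact (dP_rep hb).1))
        (fun T hT' => (List.mem_cons.1 hT').elim (fun h' => h' ▸ (dP_rep ha).1) (jr T)) h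
      simp only [List.map_append, List.prod_append, List.map_cons, List.prod_cons, List.map_nil, List.prod_nil,
        mul_one, jval] at e
      have e' : ext' ψ jp * dG ψ b = dG ψ a * ext' ψ jp := by
        rw [dG, dG, ← ext_mul ψ hjC (dP_rep hb).2.1, ← ext_mul ψ (dP_rep ha).2.1 hjC]
        exact congrArg _ e
      rw [hj, inv_inv, mul_assoc, ← e', inv_mul_cancel_left]
    have jjt : j * t * j⁻¹ = t := by
      rw [hj, inv_inv, mul_assoc, ← hjm, inv_mul_cancel_left]
    have lTV := (dP_mul lT lV).1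
    have jjv : j * v * j⁻¹ = t * v := by
      rw [hv, mvB lV lTV jv, dG_mul ψ lT lV, hT]
    set h := g * j with hh
    have h1 : h * t * h⁻¹ = v := by
      calc h * t * h⁻¹ = g * (j * t * j⁻¹) * g⁻¹ := by rw [hh]; group
        _ = v := by rw [jjt, hgt]
    have hgtv : g * (t * v) * g⁻¹ = t * v := by
      calc g * (t * v) * g⁻¹ = g * t * g⁻¹ * (g * v * g⁻¹) := by group
        _ = t * v := by rw [hgt, hgv, htv]
    have h2 : h * v * h⁻¹ = t * v := by
      calc h * v * h⁻¹ = g * (j * v * j⁻¹) * g⁻¹ := by rw [hh]; group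
        _ = t * v := by rw [jjv, hgtv]
    have h3 : h * (t * v) * h⁻¹ = t := by
      calc h * (t * v) * h⁻¹ = h * t * h⁻¹ * (h * v * h⁻¹) := by group
        _ = v * (t * v) := by rw [h1, h2]
        _ = t * (v * v) := by rw [← mul_assoc, ← htv, mul_assoc]
        _ = t := by
          rw [hv, ← dG_mul ψ lV lV, show dMul dV dV = dE by decide +kernel, dG_one, mul_one]
    set h3' := h * h * h with hh3
    have c1 : h3' * t = t * h3' := by
      rw [← mul_inv_eq_iff_eq_mul]
      calc h3' * t * h3'⁻¹ = h * (h * (h * t * h⁻¹) * h⁻¹) * h⁻¹ := by rw [hh3]; group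
        _ = t := by rw [h1, h2, h3]
    have c2 : h3' * v = v * h3' := by
      rw [← mul_inv_eq_iff_eq_mul]
      calc h3' * v * h3'⁻¹ = h * (h * (h * v * h⁻¹) * h⁻¹) * h⁻¹ := by rw [hh3]; group
        _ = v := by rw [h2, h3, h1]
    obtain ⟨d, hd, hdg⟩ := dG_surj ψ (mem_centralizer_singleton_iff.2 c1) c2
    have hn := normal_ok
    simp only [normalChk, Bool.and_eq_true] at hn
    obtain ⟨⟨⟨hnn, hdiff⟩, hlA⟩, hlB⟩ := hn
    have lAe : ∀ e ∈ dEA, e < 192 := fun e he =>
      Nat.lt_of_succ_le (Nat.le_of_ble_eq_true (List.all_eq_true.1 hlA e he))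
    have lBe : ∀ e ∈ dEB, e < 192 := fun e he =>
      Nat.lt_of_succ_le (Nat.le_of_ble_eq_true (List.all_eq_true.1 hlB e he))
    have jA : ∀ e ∈ dEA, ∃ f ∈ dEA, j * dG ψ e * j⁻¹ = dG ψ f := fun e he => by
      obtain ⟨k, hk, rfl⟩ := List.getElem_of_mem he
      have hk' : k < 16 := lA ▸ hk
      have h0 := List.all_eq_true.1 jact k (List.mem_range.2 (by omega))
      have hm := List.all_eq_true.1 jmem k (List.mem_range.2 hk')
      rw [Bool.and_eq_true] at h0 hm
      rw [List.getD_append _ _ _ _ hk, List.getD_eq_getElem _ _ hk] at h0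
      exact ⟨_, memB_iff.1 hm.1, mvB (lAe _ (List.getElem_mem hk))
        (Nat.lt_of_succ_le (Nat.le_of_ble_eq_true h0.1)) h0.2⟩
    have jB : ∀ e ∈ dEB, ∃ f ∈ dEB, j * dG ψ e * j⁻¹ = dG ψ f := fun e he => by
      obtain ⟨k, hk, rfl⟩ := List.getElem_of_mem he
      have hk' : k < 16 := lB ▸ hk
      have h0 := List.all_eq_true.1 jact (16 + k) (List.mem_range.2 (by omega))
      have hm := List.all_eq_true.1 jmem k (List.mem_range.2 hk')
      rw [Bool.and_eq_true] at h0 hm
      rw [List.getD_append_right _ _ _ _ (by omega), lA, Nat.add_sub_cancel_left,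
        List.getD_eq_getElem _ _ hk] at h0
      exact ⟨_, memB_iff.1 hm.2, mvB (lBe _ (List.getElem_mem hk))
        (Nat.lt_of_succ_le (Nat.le_of_ble_eq_true h0.1)) h0.2⟩
    have hA : ∀ e ∈ dEA, ∃ f ∈ dEB, h * dG ψ e * h⁻¹ = dG ψ f := fun e he => by
      obtain ⟨f, hf, hje⟩ := jA e he
      exact ⟨s f, hAB f hf, by rw [hsg f (lAe f hf), ← hje, hh]; group⟩
    have hB : ∀ e ∈ dEB, ∃ f ∈ dEA, h * dG ψ e * h⁻¹ = dG ψ f := fun e he => by
      obtain ⟨f, hf, hje⟩ := jB e he
      exact ⟨s f, hBA f hf, by rw [hsg f (lBe f hf), ← hje, hh]; group⟩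
    obtain ⟨e, he, hnot⟩ := List.any_eq_true.1 hdiff
    have hsurjA : ∀ f ∈ dEA, f ∈ dEB := by
      -- the map of `e ↦ h³ e h⁻³` carries the first list into both lists
      intro f hf
      have hmem : dMul (dMul (dIv d) f) d ∈ dEA := by
        have h0 := List.all_eq_true.1 hnn (dIv d) (List.mem_range.2 (dP_rep hd).2.2.1)
        rw [Bool.and_eq_true] at h0
        have := memB_iff.1 (List.all_eq_true.1 h0.1 f hf)
        have hdd : dIv (dIv d) = d := dP_inj (dP_rep (dP_rep hd).2.2.1).2.2.1 hd (by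
          rw [(dP_rep (dP_rep hd).2.2.1).2.2.2, (dP_rep hd).2.2.2, inv_inv])
        rwa [hdd] at this
      obtain ⟨f1, hf1, e1⟩ := hA _ hmem
      obtain ⟨f2, hf2, e2⟩ := hB f1 hf1
      obtain ⟨f3, hf3, e3⟩ := hA f2 hf2
      have hid := (dP_rep hd).2.2.1
      have hm1 := (dP_mul hid (lAe f hf)).1
      have : dG ψ f = dG ψ f3 := by
        rw [← e3, ← e2, ← e1, dG_mul ψ hm1 hd, dG_mul ψ hid (lAe f hf), dG_inv ψ hd, hdg, hh3]
        group
      rw [dG_inj ψ (lAe f hf) (lBe f3 hf3) this]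
      exact hf3
    rw [Bool.not_eq_true'] at hnot
    have := memB_iff.2 (hsurjA e he)
    rw [hnot] at this
    exact Bool.noConfusion this
  -- the inner case
  have ac := al_facts
  have al : ∀ x < 192, dAl x < 192 ∧ dAl (dAl x) = x := fun x hx => by
    have h := List.all_eq_true.1 ac.1 x (List.mem_range.2 hx)
    rw [Bool.and_eq_true] at h
    exact ⟨Nat.lt_of_succ_le (Nat.le_of_ble_eq_true h.1), Nat.eq_of_beq_eq_true h.2⟩
  set i := (g * dG ψ q)⁻¹ with hi
  have hgen : ∀ k < 3, i⁻¹ * dG ψ (dMul (dMul (dIv q) (dGen.getD k 0)) q) * i =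
      dG ψ (dAl (dMul (dMul (dIv q) (dGen.getD k 0)) q)) := fun k hk => by
    have hg' := dGen_ok.1 k hk
    have hid := (dP_rep hq).2.2.1
    rw [← hin k hk, hsg _ hg', dG_mul ψ (dP_mul hid hg').1 hq, dG_mul ψ hid hg', dG_inv ψ hq, hi]
    group
  -- from the generators to all elements
  have hs2 : ∀ y < 192, g * dG ψ (dMul (dMul q y) (dIv q)) * g⁻¹ = i⁻¹ * dG ψ y * i := fun y hy => by
    rw [dG_mul ψ (dP_mul hq hy).1 (dP_rep hq).2.2.1, dG_mul ψ hq hy, dG_inv ψ hq, hi]; group
  have hword : ∀ (w : List ℕ), (∀ k ∈ w, k < 3) → ∀ r < 192,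
      s r = dAl (dMul (dMul (dIv q) r) q) → s (w.foldl dStp r) = dAl (dMul (dMul (dIv q) (w.foldl dStp r)) q) := by
    intro w
    induction w with
    | nil => intro _ r _ h; exact h
    | cons k w ih =>
      intro hw r hr hbase
      have hk := hw k (List.mem_cons_self ..)
      have hg' := dGen_ok.1 k hk
      obtain ⟨hsr, hsp⟩ := dP_step hr hk
      have e : dStp r k = dMul r (dGen.getD k 0) :=
        dP_inj hsr (dP_mul hr hg').1 (hsp.trans (dP_mul hr hg').2.symm)
      refine ih (fun j hj => hw j (List.mem_cons_of_mem _ hj)) _ hsr ?_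
      rw [e, H.mul _ hr _ hg', hbase, hin k hk]
      have hid := (dP_rep hq).2.2.1
      have ha := (dP_mul (dP_mul hid hr).1 hq).1
      have hb := (dP_mul (dP_mul hid hg').1 hq).1
      rw [← al_mul ha hb]
      congr 1
      refine dP_inj (dP_mul ha hb).1 (dP_mul (dP_mul hid (dP_mul hr hg').1).1 hq).1 ?_
      rw [(dP_mul ha hb).2, (dP_mul (dP_mul hid hr).1 hq).2, (dP_mul hid hr).2,
        (dP_mul (dP_mul hid hg').1 hq).2, (dP_mul hid hg').2,
        (dP_mul (dP_mul hid (dP_mul hr hg').1).1 hq).2, (dP_mul hid (dP_mul hr hg').1).2,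
        (dP_mul hr hg').2, (dP_rep hq).2.2.2]
      group
  have hid := (dP_rep hq).2.2.1
  have lE : dE < 192 := by decide
  have hbase : s dE = dAl (dMul (dMul (dIv q) dE) q) := by
    have h1 : dMul (dMul (dIv q) dE) q = dE := by
      refine dP_inj (dP_mul (dP_mul hid lE).1 hq).1 lE ?_
      rw [(dP_mul (dP_mul hid lE).1 hq).2, (dP_mul hid lE).2, (dP_rep hq).2.2.2, dP_E, mul_one, inv_mul_cancel]
    rw [h1, H.one, show dAl dE = dE by decide +kernel]
  have hall : ∀ x < 192, s x = dAl (dMul (dMul (dIv q) x) q) := fun x hx => by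
    have h := hword (dWord.getD x []) dWord_lt dE lE hbase
    rwa [Nat.eq_of_beq_eq_true (List.all_eq_true.1 dGen_ok.2 x (List.mem_range.2 hx))] at h
  have hact : ∀ y < 192, i⁻¹ * dG ψ y * i = dG ψ (dAl y) := fun y hy => by
    have hx := (dP_mul (dP_mul hq hy).1 hid).1
    rw [← hs2 y hy, ← hsg _ hx, hall _ hx]
    congr 2
    refine dP_inj (dP_mul (dP_mul hid hx).1 hq).1 hy ?_
    rw [(dP_mul (dP_mul hid hx).1 hq).2, (dP_mul hid hx).2, (dP_mul (dP_mul hq hy).1 hid).2,
      (dP_mul hq hy).2, (dP_rep hq).2.2.2]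
    group
  have hiT : i⁻¹ * t * i = v := by rw [← hT, hact _ lT, ac.2.1]
  have hiV : i⁻¹ * v * i = t := by rw [hv, hact _ lV, ac.2.2.1, hT]
  have c1 : i * i * t = t * (i * i) := by
    calc i * i * t = i * i * (i⁻¹ * v * i) := by rw [hiV]
      _ = i * v * i := by group
      _ = i * (i⁻¹ * t * i) * i := by rw [hiT]
      _ = t * (i * i) := by group
  have c2 : i * i * v = v * (i * i) := by
    calc i * i * v = i * i * (i⁻¹ * t * i) := by rw [hiT]
      _ = i * t * i := by group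
      _ = i * (i⁻¹ * v * i) * i := by rw [hiV]
      _ = v * (i * i) := by group
  obtain ⟨d, hd, hdg⟩ := dG_surj ψ (mem_centralizer_singleton_iff.2 c1) c2
  have hdfix : dAl d = d := dG_inj ψ (al d hd).1 hd (by rw [← hact d hd, hdg]; group)
  have hdcen : ∀ x < 192, dMul d x = dMul x d := fun x hx => by
    refine dG_inj ψ (dP_mul hd hx).1 (dP_mul hx hd).1 ?_
    rw [dG_mul ψ hd hx, dG_mul ψ hx hd, hdg]
    have h2 : (i * i)⁻¹ * dG ψ x * (i * i) = dG ψ x := by
      calc (i * i)⁻¹ * dG ψ x * (i * i) = i⁻¹ * (i⁻¹ * dG ψ x * i) * i := by group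
        _ = dG ψ x := by rw [hact x hx, hact _ (al x hx).1, (al x hx).2]
    calc i * i * dG ψ x = i * i * ((i * i)⁻¹ * dG ψ x * (i * i)) := by rw [h2]
      _ = _ := by group
  have hd' : d = dE ∨ d = dMul dT dV := by
    have h := List.all_eq_true.1 centre_ok.1 d (List.mem_range.2 hd)
    simp only [Bool.or_eq_true, Bool.not_eq_true', List.any_eq_true, Nat.beq_eq] at h
    rcases h with ((h | ⟨x, hx, h⟩) | h) | h
    · rw [hdfix, Nat.beq_refl] at h; exact Bool.noConfusion h
    · rw [hdcen x (List.mem_range.1 hx), Nat.beq_refl] at h; exact Bool.noConfusion h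
    · exact Or.inl h
    · exact Or.inr h
  rcases hd' with hd' | hd'
  · rw [hd', dG_one] at hdg
    have hinv : i⁻¹ = i := inv_eq_of_mul_eq_one_left hdg.symm
    exact ⟨i, hψ, hdg.symm, fun x hx => by
      have := hact x hx
      rwa [hinv] at this⟩
  · rw [hd', dG_mul ψ lT lV, hT] at hdg
    have hsq : (i * t) * (i * t) = 1 := by
      calc (i * t) * (i * t) = i * i * (i⁻¹ * t * i) * t := by group
        _ = t * v * v * t := by rw [hiT, ← hdg]
        _ = t * (v * v) * t := by group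
        _ = 1 := by
          rw [hv, ← dG_mul ψ lV lV, show dMul dV dV = dE by decide +kernel, dG_one, mul_one, htt]
    have hinv : (i * t)⁻¹ = i * t := inv_eq_of_mul_eq_one_left hsq
    refine ⟨i * t, hψ, hsq, fun x hx => ?_⟩
    calc i * t * dG ψ x * (i * t) = (i * t)⁻¹ * dG ψ x * (i * t) := by rw [hinv]
      _ = t⁻¹ * (i⁻¹ * dG ψ x * i) * t := by group
      _ = dG ψ (dAl x) := by
        rw [hact x hx, mul_assoc, hC (dG_mem ψ (al x hx).1), inv_mul_cancel_left]

end Cfsg.Lib.MclType
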